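import Cfsg.Agent.Lib.FgsB.NilpotentPPrime.Struct
import Cfsg.Agent.Lib.FgsB.RankThree.Complete
import Cfsg.Agent.Lib.Coprime.Action2
import Cfsg.Agent.Lib.Involutions.NormalFour

/-!
# The signalizer functor `a ↦ O(C(a))`
-/

set_option autoImplicit false
set_option linter.style.haveILetI false

namespace CfsgLib.NilPPrime

open Cfsg Subgroup CfsgLib.Techniques

variable {G : Type*} [Group G]

/-- An elementary abelian `2`-subgroup of order at least eight. -/
structure Good (A : Subgroup G) : Prop where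
  el : IsElementaryAbelian 2 A
  eight : 8 ≤ Nat.card A

/-- `O(C(a))`. -/
def th (a : G) : Subgroup G := oC (centralizer ({a} : Set G))

/-- The subgroup generated by the `O(C(a))`. -/
def sigW (A : Subgroup G) : Subgroup G := ⨆ a : {a : G // a ∈ A ∧ a ≠ 1}, th (a : G)

theorem th_le_sigW {A : Subgroup G} {a : G} (ha : a ∈ A) (ha1 : a ≠ 1) : th a ≤ sigW A :=
  le_iSup (fun b : {a : G // a ∈ A ∧ a ≠ 1} => th (b : G)) ⟨a, ha, ha1⟩

theorem Good.sq_one {A : Subgroup G} (hA : Good A) {a : G} (ha : a ∈ A) : a * a = 1 :=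
  (sq a).symm.trans (hA.el.2 a ha)

theorem Good.comm {A : Subgroup G} (hA : Good A) {a b : G} (ha : a ∈ A) (hb : b ∈ A) :
    a * b = b * a := (CfsgLib.Base.isElementaryAbelian_iff.1 hA.el).1 a ha b hb

theorem mem_centralizer_of_normalizes {a g : G} (ha1 : a ≠ 1) (ha : a * a = 1)
    (hg : g ∈ normalizer (zpowers a : Set G)) : g ∈ centralizer ({a} : Set G) := by
  obtain ⟨i, hi⟩ := mem_zpowers_iff.1 ((mem_set_normalizer_iff.1 hg a).1 (mem_zpowers a))
  rw [mem_centralizer_singleton_iff]
  rcases Int.even_or_odd i with ⟨k, rfl⟩ | ⟨k, rfl⟩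
  · rw [← two_mul, zpow_mul, zpow_two, ha, one_zpow, eq_comm, mul_inv_eq_one,
      mul_eq_left] at hi
    exact absurd hi ha1
  · rw [zpow_add, zpow_mul, zpow_two, ha, one_zpow, one_mul, zpow_one] at hi
    exact (eq_mul_inv_iff_mul_eq.1 hi).symm

theorem th_cj (g a : G) : th (g * a * g⁻¹) = cj g (th a) := by
  let C := centralizer ({a} : Set G)
  have hC : cj g C = centralizer ({g * a * g⁻¹} : Set G) := by
    ext x
    rw [mem_cj, mem_centralizer_singleton_iff, mem_centralizer_singleton_iff]
    constructor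
    · intro h
      calc x * (g * a * g⁻¹) = g * ((g⁻¹ * x * g) * a) * g⁻¹ := by group
        _ = g * (a * (g⁻¹ * x * g)) * g⁻¹ := by rw [h]
        _ = _ := by group
    · intro h
      calc g⁻¹ * x * g * a = g⁻¹ * (x * (g * a * g⁻¹)) * g := by group
        _ = g⁻¹ * (g * a * g⁻¹ * x) * g := by rw [h]
        _ = _ := by group
  show oC _ = cj g (oC C)
  rw [← hC]
  let e : C ≃* ↥(cj g C) := C.equivMapOfInjective _ (MulAut.conj g).injective
  rw [oC, oC, ← CfsgLib.Base.map_pPrimeCore_mulEquiv e, Subgroup.map_map]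
  exact (Subgroup.map_map _ (MulAut.conj g).toMonoidHom C.subtype).symm

theorem sigW_cj (g : G) (A : Subgroup G) : sigW (cj g A) = cj g (sigW A) := by
  have hle : ∀ (g : G) (A : Subgroup G), cj g (sigW A) ≤ sigW (cj g A) := by
    intro g A
    rw [sigW, cj, Subgroup.map_iSup]
    refine iSup_le fun a => ?_
    show cj g (th (a : G)) ≤ _
    rw [← th_cj]
    exact th_le_sigW (conj_mem_cj.2 a.2.1) fun e => a.2.2 (conj_eq_one_iff.1 e)
  refine le_antisymm ?_ (hle g A)
  have := cj_mono (g := g) (hle g⁻¹ (cj g A))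
  rwa [cj_inv_cj, cj_cj_inv] at this

theorem mem_normalizer_sigW {g : G} {A : Subgroup G} (hg : g ∈ normalizer (A : Set G)) :
    g ∈ normalizer (sigW A : Set G) := by
  rw [mem_normalizer_iff_cj, ← sigW_cj, mem_normalizer_iff_cj.1 hg]

theorem not_isCyclic_of_four [Finite G] {V : Subgroup G} (hV : IsElementaryAbelian 2 V)
    (h4 : 4 ≤ Nat.card V) : ¬ IsCyclic V := by
  intro hc
  obtain ⟨g, hg⟩ := IsCyclic.exists_ofOrder_eq_natCard (α := V)
  have : orderOf g ∣ 2 := orderOf_dvd_of_pow_eq_one (Subtype.ext (hV.2 g g.2))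
  have := Nat.le_of_dvd two_pos this
  omega

variable [Finite G] {p : ℕ}

theorem Good.cj {A : Subgroup G} (hA : Good A) (g : G) : Good (cj g A) :=
  ⟨CfsgLib.Base.isElementaryAbelian_map _ hA.el, by rw [card_cj]; exact hA.eight⟩

theorem odd_card_th (a : G) : Odd (Nat.card (th a)) := odd_card_oC _

theorem th_le_centralizer (a : G) : th a ≤ centralizer ({a} : Set G) := oC_le _

/-- Balance. -/
theorem NMin.th_balance (h : NMin G p) {a b : G} (ha1 : a ≠ 1) (ha : a * a = 1) (hb1 : b ≠ 1)
    (hab : b * a = a * b) : th a ⊓ centralizer ({b} : Set G) ≤ th b := by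
  have haC : a ∈ centralizer ({b} : Set G) := mem_centralizer_singleton_iff.2 hab.symm
  refine le_core_of_normalizer (h.solvable_centralizer hb1)
    (CfsgLib.Base.isPGroup_of_isElementaryAbelian
      (CfsgLib.Base.isElementaryAbelian_zpowers ((sq a).trans ha))) (zpowers_le.2 haC) ?_ ?_ ?_
  · exact le_inf inf_le_right fun x hx => centralizer_le_normalizer _
      (mem_centralizer_iff.2 fun y hy => by
        obtain ⟨i, rfl⟩ := mem_zpowers_iff.1 hy
        exact ((show Commute x a from
          mem_centralizer_singleton_iff.1 (th_le_centralizer a hx.1)).zpow_right i).eq.symm)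
  · intro g ⟨hgb, hga⟩
    have hga' := mem_centralizer_of_normalizes ha1 ha hga
    refine mem_set_normalizer_iff.2 fun x => ?_
    exact and_congr (mem_set_normalizer_iff.1 (le_normalizer_oC _ hga') x)
      (mem_set_normalizer_iff.1 (le_normalizer hgb) x)
  · exact (odd_card_th a).of_dvd_nat (card_dvd_of_le inf_le_left)

/-- The basic properties of `sigW A`. -/
theorem NMin.sigW_spec (h : NMin G p) {A : Subgroup G} (hA : Good A) :
    Odd (Nat.card (sigW A)) ∧
      (∀ a ∈ A, a ≠ 1 → sigW A ⊓ centralizer ({a} : Set G) ≤ th a) ∧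
      A ≤ normalizer (sigW A : Set G) := by
  haveI := Fact.mk Nat.prime_two
  have hfun : IsSolvableSignalizerFunctor 2 A th := by
    refine ⟨⟨fun a _ _ => th_le_centralizer a, fun a _ _ => ?_, ?_, ?_⟩, fun a _ ha1 => ?_⟩
    · exact Nat.two_dvd_ne_zero.2 (Nat.odd_iff.1 (odd_card_th a))
    · intro a ha _ b hb x hx
      exact (mem_set_normalizer_iff.1 (le_normalizer_oC _
        (mem_centralizer_singleton_iff.2 (hA.comm hb ha))) x).1 hx
    · intro a ha ha1 b hb hb1
      exact h.th_balance ha1 (hA.sq_one ha) hb1 (hA.comm hb ha)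
    · haveI := h.solvable_centralizer ha1
      exact solvable_of_solvable_injective (inclusion_injective (th_le_centralizer a))
  obtain ⟨X, ⟨-, hX2, -, hX4⟩, hXle⟩ :=
    CfsgLib.FgsB.RankThree.comp_of_three_le hA.el (by have := hA.eight; norm_num; omega) hfun
  have hle : sigW A ≤ X := iSup_le fun a => hXle a a.2.1 a.2.2
  refine ⟨?_, fun a ha ha1 => (inf_le_inf_right _ hle).trans (hX4 a ha ha1), fun g hg =>
    mem_normalizer_sigW (le_normalizer hg)⟩
  exact (Nat.odd_iff.2 (Nat.two_dvd_ne_zero.1 hX2)).of_dvd_nat (card_dvd_of_le hle)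

theorem NMin.sigW_le_of_four (h : NMin G p) {A B V : Subgroup G} (hA : Good A) (hB : Good B)
    (hVA : V ≤ A) (hVB : V ≤ B) (h4 : 4 ≤ Nat.card V) : sigW A ≤ sigW B := by
  haveI := Fact.mk Nat.prime_two
  obtain ⟨hodd, hC, hn⟩ := h.sigW_spec hA
  haveI : IsMulCommutative V := (CfsgLib.Base.isElementaryAbelian_le hVA hA.el).1
  refine CfsgLib.Coprime.le_of_centralizer_le_of_not_isCyclic
    (not_isCyclic_of_four (CfsgLib.Base.isElementaryAbelian_le hVA hA.el) h4) (hVA.trans hn) ?_
    fun a ha ha1 => (hC a (hVA ha) ha1).trans (th_le_sigW (hVB ha) ha1)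
  obtain ⟨k, hk⟩ := IsPGroup.iff_card.1 (CfsgLib.Base.isPGroup_of_isElementaryAbelian
    (CfsgLib.Base.isElementaryAbelian_le hVA hA.el))
  rw [hk]
  exact (Nat.coprime_two_left.2 hodd).pow_left k

theorem NMin.sigW_eq_of_four (h : NMin G p) {A B V : Subgroup G} (hA : Good A) (hB : Good B)
    (hVA : V ≤ A) (hVB : V ≤ B) (h4 : 4 ≤ Nat.card V) : sigW A = sigW B :=
  le_antisymm (h.sigW_le_of_four hA hB hVA hVB h4) (h.sigW_le_of_four hB hA hVB hVA h4)

/-- All good subgroups of one Sylow subgroup give the same `sigW`. -/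
theorem NMin.sigW_eq_of_sylow (h : NMin G p) (S : Sylow 2 G) {A B : Subgroup G} (hA : Good A)
    (hB : Good B) (hAS : A ≤ (S : Subgroup G)) (hBS : B ≤ (S : Subgroup G)) :
    sigW A = sigW B := by
  classical
  haveI := Fact.mk Nat.prime_two
  obtain ⟨z, u, hz2, hzc, hu2, huz, hconj⟩ := CfsgLib.Involutions.exists_normal_four S.2
    (A.subgroupOf (S : Subgroup G)) (CfsgLib.Base.isElementaryAbelian_subgroupOf hA.el _)
    (by rw [Nat.card_congr (subgroupOfEquivOfLe hAS).toEquiv]; exact hA.eight)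
  have hz2' : orderOf (z : G) = 2 := by rw [Subgroup.orderOf_coe, hz2]
  have hu2' : orderOf (u : G) = 2 := by rw [Subgroup.orderOf_coe, hu2]
  have hzc' : ∀ s ∈ (S : Subgroup G), s * (z : G) = z * s := fun s hs =>
    congrArg Subtype.val (mem_center_iff.1 hzc ⟨s, hs⟩)
  set U : Subgroup G := zpowers (z : G) ⊔ zpowers (u : G) with hU
  have hUel : IsElementaryAbelian 2 U := by
    refine CfsgLib.Base.isElementaryAbelian_sup
      (CfsgLib.Base.isElementaryAbelian_zpowers (orderOf_dvd_iff_pow_eq_one.1 (dvd_of_eq hz2')))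
      (CfsgLib.Base.isElementaryAbelian_zpowers (orderOf_dvd_iff_pow_eq_one.1 (dvd_of_eq hu2'))) ?_
    rw [le_centralizer_iff, zpowers_le]
    refine mem_centralizer_iff.2 fun x hx => ?_
    obtain ⟨i, rfl⟩ := mem_zpowers_iff.1 hx
    exact ((show Commute (u : G) (z : G) from hzc' u u.2).zpow_right i).eq.symm
  have hUcard : 4 ≤ Nat.card U := by
    haveI : Fintype U := Fintype.ofFinite _
    have h1 : (z : G) ≠ 1 := fun e => by rw [e, orderOf_one] at hz2'; omega
    have h2 : (u : G) ≠ 1 := fun e => by rw [e, orderOf_one] at hu2'; omega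
    have h3 : (u : G) ≠ z := fun e => huz (Subtype.ext e)
    have hzU : (z : G) ∈ U := mem_sup_left (mem_zpowers _)
    have huU : (u : G) ∈ U := mem_sup_right (mem_zpowers _)
    have hinv : (u : G)⁻¹ = u := inv_eq_of_mul_eq_one_left (by
      rw [← sq]; exact orderOf_dvd_iff_pow_eq_one.1 (dvd_of_eq hu2'))
    have h4 : (u : G) * z ≠ 1 := fun e => h3 (hinv.symm.trans (inv_eq_of_mul_eq_one_right e))
    rw [Nat.card_eq_fintype_card]
    refine le_trans (le_of_eq ?_) (Finset.card_le_univ
      ({⟨1, one_mem _⟩, ⟨(z : G), hzU⟩, ⟨(u : G), huU⟩, ⟨(u : G) * z, mul_mem huU hzU⟩} : Finset U))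
    rw [Finset.card_insert_of_notMem, Finset.card_insert_of_notMem, Finset.card_insert_of_notMem,
      Finset.card_singleton]
    · simp only [Finset.mem_singleton, Subtype.mk.injEq]
      exact fun e => h1 (mul_eq_left.1 e.symm)
    · simp only [Finset.mem_insert, Finset.mem_singleton, Subtype.mk.injEq, not_or]
      exact ⟨Ne.symm h3, fun e => h2 (mul_eq_right.1 e.symm)⟩
    · simp only [Finset.mem_insert, Finset.mem_singleton, Subtype.mk.injEq, not_or]
      exact ⟨Ne.symm h1, Ne.symm h2, Ne.symm h4⟩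
  -- every good subgroup is linked to `U`
  have key : ∀ A, Good A → A ≤ (S : Subgroup G) → ∃ A', Good A' ∧ U ≤ A' ∧ sigW A = sigW A' := by
    intro A hA hAS
    by_cases hUA : U ≤ A
    · exact ⟨A, hA, hUA, rfl⟩
    set C : Subgroup G := A ⊓ centralizer ({(u : G)} : Set G) with hC
    have hC4 : 4 ≤ Nat.card C := by
      by_cases hall : A ≤ centralizer ({(u : G)} : Set G)
      · rw [hC, inf_eq_left.2 hall]; have := hA.eight; omega
      obtain ⟨a₀, ha₀, ha₀C⟩ := SetLike.not_le_iff_exists.1 hall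
      have hco : ∀ a ∈ A, a ∉ centralizer ({(u : G)} : Set G) → a₀⁻¹ * a ∈ C := by
        intro a ha hac
        refine Subgroup.mem_inf.2 ⟨A.mul_mem (A.inv_mem ha₀) ha, ?_⟩
        have hval : ∀ b ∈ A, b ∉ centralizer ({(u : G)} : Set G) → b * u * b⁻¹ = (u : G) * z := by
          intro b hb hbC
          rcases hconj ⟨b, hAS hb⟩ with e | e
          · exact absurd (mem_centralizer_singleton_iff.2
              (mul_inv_eq_iff_eq_mul.1 (congrArg Subtype.val e))) hbC
          · exact congrArg Subtype.val e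
        rw [mem_centralizer_singleton_iff]
        have e := (hval a ha hac).trans (hval a₀ ha₀ ha₀C).symm
        calc a₀⁻¹ * a * (u : G) = a₀⁻¹ * (a * u * a⁻¹) * a := by group
          _ = a₀⁻¹ * (a₀ * u * a₀⁻¹) * a := by rw [e]
          _ = _ := by group
      let f : A → Bool × C := fun a =>
        if hac : (a : G) ∈ centralizer ({(u : G)} : Set G) then (false, ⟨a, a.2, hac⟩)
        else (true, ⟨a₀⁻¹ * a, hco a a.2 hac⟩)
      have hf : Function.Injective f := by
        intro a b e
        simp only [f] at e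
        split_ifs at e
        all_goals rw [Prod.mk.injEq] at e
        · exact Subtype.ext (congrArg Subtype.val e.2 :)
        · exact absurd e.1 Bool.false_ne_true
        · exact absurd e.1 Bool.false_ne_true.symm
        · exact Subtype.ext (mul_left_cancel (congrArg Subtype.val e.2 :))
      have h2 := Nat.card_le_card_of_injective f hf
      rw [Nat.card_prod, Nat.card_eq_fintype_card (α := Bool), Fintype.card_bool] at h2
      have := hA.eight
      omega
    have hCel : IsElementaryAbelian 2 C := CfsgLib.Base.isElementaryAbelian_le inf_le_left hA.el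
    have hCU : C ≤ centralizer (U : Set G) := by
      rw [le_centralizer_iff, hU, sup_le_iff, zpowers_le, zpowers_le]
      constructor
      · exact mem_centralizer_iff.2 fun c hc => hzc' c (hAS hc.1)
      · exact mem_centralizer_iff.2 fun c hc => mem_centralizer_singleton_iff.1 hc.2
    have hel := CfsgLib.Base.isElementaryAbelian_sup hCel hUel hCU
    have hgood : Good (C ⊔ U) := by
      refine ⟨hel, eight_le_of_four_lt (CfsgLib.Base.isPGroup_of_isElementaryAbelian hel) ?_⟩
      refine lt_of_le_of_ne (hUcard.trans (card_le_of_le le_sup_right)) fun e => hUA ?_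
      have hUe : U = C ⊔ U := eq_of_le_of_card_ge le_sup_right (e ▸ hUcard)
      have hCle : C ≤ U := le_sup_left.trans hUe.ge
      have : C = U := eq_of_le_of_card_ge hCle
        (le_trans (le_trans (card_le_of_le hUe.le) e.ge) hC4)
      exact this ▸ inf_le_left
    exact ⟨C ⊔ U, hgood, le_sup_right,
      h.sigW_eq_of_four hA hgood inf_le_left le_sup_left hC4⟩
  obtain ⟨A', hA', hUA', eA⟩ := key A hA hAS
  obtain ⟨B', hB', hUB', eB⟩ := key B hB hBS
  rw [eA, eB, h.sigW_eq_of_four hA' hB' hUA' hUB' hUcard]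

end CfsgLib.NilPPrime
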