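import Mathlib
import Cfsg.Prelude
import Cfsg.Agent.Lib.Base.Cores
import Cfsg.Agent.Lib.Base.Rank
import Cfsg.Agent.Lib.Base.Solvable
import Cfsg.Agent.Lib.Coprime.Hall
import Cfsg.Agent.Lib.CNGroups.Basic
import Cfsg.Agent.Lib.Components.PConstrained
import Cfsg.Agent.Lib.PLocal.Constrained
import Cfsg.Agent.Lib.LocalEven.StrongEmbPSolvable
import Cfsg.Agent.Lib.LocalEven.S4Section

/-!
# A minimal insoluble group with nilpotent `p'`-subgroups: first facts

`G` is simple, all proper subgroups are solvable, `p ≥ 5`, and every subgroup of order prime to `p`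
is nilpotent.
-/

set_option autoImplicit false
set_option linter.style.haveILetI false

namespace CfsgLib.NilPPrime

open Cfsg Subgroup

variable {G : Type*} [Group G]

/-- The minimal configuration. -/
structure NMin (G : Type*) [Group G] (p : ℕ) : Prop where
  prime : p.Prime
  five : 5 ≤ p
  nil : ∀ H : Subgroup G, (Nat.card H).Coprime p → Group.IsNilpotent H
  simple : IsSimpleGroup G
  insoluble : ¬ Group.IsSolvable G
  proper : ∀ H : Subgroup G, H ≠ ⊤ → Group.IsSolvable H

variable {p : ℕ} [Finite G]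

theorem NMin.ne_two (h : NMin G p) : p ≠ 2 := by have := h.five; omega

theorem NMin.coprime_two (h : NMin G p) : Nat.Coprime 2 p :=
  (Nat.coprime_primes Nat.prime_two h.prime).2 (fun e => h.ne_two e.symm)

theorem NMin.center_eq_bot (h : NMin G p) : center G = ⊥ := by
  haveI := h.simple
  refine (inferInstance : (center G).Normal).eq_bot_or_eq_top.resolve_right fun e => h.insoluble ?_
  exact Group.isSolvable_of_comm fun a b => ((mem_center_iff.1 (e ▸ mem_top b)) a)

theorem NMin.normalizer_ne_top (h : NMin G p) {X : Subgroup G} (hX : X ≠ ⊥) (hX' : X ≠ ⊤) :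
    normalizer (X : Set G) ≠ ⊤ := by
  intro e
  haveI := h.simple
  haveI : X.Normal := normalizer_eq_top_iff.1 e
  exact (inferInstance : X.Normal).eq_bot_or_eq_top.elim hX hX'

theorem NMin.solvable_normalizer (h : NMin G p) {X : Subgroup G} (hX : X ≠ ⊥) (hX' : X ≠ ⊤) :
    Group.IsSolvable ↥(normalizer (X : Set G)) :=
  h.proper _ (h.normalizer_ne_top hX hX')

theorem NMin.centralizer_ne_top (h : NMin G p) {x : G} (hx : x ≠ 1) :
    centralizer ({x} : Set G) ≠ ⊤ := by
  intro e
  refine hx (mem_bot.1 (h.center_eq_bot ▸ mem_center_iff.2 fun g => ?_))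
  exact mem_centralizer_singleton_iff.1 (e ▸ mem_top g)

theorem NMin.solvable_centralizer (h : NMin G p) {x : G} (hx : x ≠ 1) :
    Group.IsSolvable ↥(centralizer ({x} : Set G)) :=
  h.proper _ (h.centralizer_ne_top hx)

theorem NMin.ne_top_of_two_group (h : NMin G p) {X : Subgroup G} (hX : IsPGroup 2 X) : X ≠ ⊤ := by
  rintro rfl
  haveI := Fact.mk Nat.prime_two
  haveI := (hX.of_equiv Subgroup.topEquiv).isNilpotent
  exact h.insoluble inferInstance

/-- An element of order prime to `p` normalising a subgroup of order prime to `p` and to its own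
order centralises it. -/
theorem NMin.centralize (h : NMin G p) {X : Subgroup G} {y : G} (hX : (Nat.card X).Coprime p)
    (hy : (orderOf y).Coprime p) (hXy : (Nat.card X).Coprime (orderOf y))
    (hn : y ∈ normalizer (X : Set G)) : y ∈ centralizer (X : Set G) := by
  have hcop : (Nat.card ↥(X ⊔ zpowers y)).Coprime p := by
    have hd : Nat.card ↥(X ⊔ zpowers y) ∣ Nat.card X * Nat.card (zpowers y) := by
      rw [sup_comm X, mul_comm (Nat.card X), ← CfsgLib.Coprime.card_sup_mul_card_inf (zpowers_le.2 hn)]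
      exact dvd_mul_right _ _
    refine Nat.Coprime.coprime_dvd_left hd (Nat.Coprime.mul_left hX ?_)
    rwa [Nat.card_zpowers]
  intro x hx
  have hyS : y ∈ X ⊔ zpowers y := mem_sup_right (mem_zpowers y)
  have hxS : x ∈ X ⊔ zpowers y := mem_sup_left hx
  exact (CfsgLib.CNGroups.commute_of_coprime (h.nil _ hcop) hxS hyS
    (hXy.coprime_dvd_left (Subgroup.orderOf_dvd_natCard X hx))).eq

theorem coprime_of_isPGroup_two (h : NMin G p) {X : Subgroup G} (hX : IsPGroup 2 X) :
    (Nat.card X).Coprime p := by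
  haveI := Fact.mk Nat.prime_two
  obtain ⟨k, hk⟩ := IsPGroup.iff_card.1 hX
  rw [hk]
  exact h.coprime_two.pow_left k

/-- An element of odd order prime to `p` normalising a `2`-subgroup centralises it. -/
theorem NMin.centralize_two (h : NMin G p) {X : Subgroup G} (hX : IsPGroup 2 X) {y : G}
    (hy : (orderOf y).Coprime p) (hy2 : Odd (orderOf y)) (hn : y ∈ normalizer (X : Set G)) :
    y ∈ centralizer (X : Set G) := by
  haveI := Fact.mk Nat.prime_two
  refine h.centralize (coprime_of_isPGroup_two h hX) hy ?_ hn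
  obtain ⟨k, hk⟩ := IsPGroup.iff_card.1 hX
  rw [hk]
  exact (Nat.coprime_two_left.2 hy2).pow_left k

/-- An element of odd order normalising a `2`-group of order at most four centralises it. -/
theorem NMin.centralize_small (h : NMin G p) {W : Subgroup G} (hW : IsPGroup 2 W)
    (h4 : Nat.card W ≤ 4) {y : G} (hy2 : Odd (orderOf y)) (hn : y ∈ normalizer (W : Set G)) :
    y ∈ centralizer (W : Set G) := by
  classical
  haveI : Fintype W := Fintype.ofFinite _
  -- the automorphism induced by `y`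
  let φ : MulAut W := Subgroup.normalizerMonoidHom W ⟨y, hn⟩
  have hφ : ∀ w : W, (φ w : G) = y * w * y⁻¹ := fun w => rfl
  have hpow : ∀ k : ℕ, ∀ w : W, ((φ ^ k) w : G) = y ^ k * w * (y ^ k)⁻¹ := by
    intro k w
    rw [show φ ^ k = Subgroup.normalizerMonoidHom W ((⟨y, hn⟩ : normalizer (W : Set G)) ^ k) from
      (map_pow _ _ k).symm]
    rfl
  have hdvd : orderOf φ ∣ orderOf y := by
    refine (orderOf_map_dvd (Subgroup.normalizerMonoidHom W) ⟨y, hn⟩).trans (dvd_of_eq ?_)
    exact Subgroup.orderOf_mk _ _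
  -- it permutes at most three points
  have hsix : φ ^ 6 = 1 := by
    let ρ : MulAut W →* Equiv.Perm {w : W // w ≠ 1} :=
      { toFun := fun f => f.toEquiv.subtypeEquiv fun w => by simp
        map_one' := by ext w; rfl
        map_mul' := fun f g => by ext w; rfl }
    have hρ : Function.Injective ρ := by
      intro f g hfg
      ext w
      by_cases hw : w = 1
      · simp [hw]
      · have := congrArg (fun e : Equiv.Perm {w : W // w ≠ 1} => ((e ⟨w, hw⟩).1 : G)) hfg
        exact this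
    apply hρ
    rw [map_pow, map_one]
    refine orderOf_dvd_iff_pow_eq_one.1 ((_root_.orderOf_dvd_natCard _).trans ?_)
    rw [Nat.card_perm]
    refine dvd_trans (Nat.factorial_dvd_factorial (n := 3) ?_) (dvd_of_eq rfl)
    rw [Nat.card_eq_fintype_card, Fintype.card_subtype_compl, Fintype.card_subtype_eq,
      ← Nat.card_eq_fintype_card]
    omega
  have h6 : orderOf φ ∣ 6 := orderOf_dvd_of_pow_eq_one hsix
  have hodd : Odd (orderOf φ) := hy2.of_dvd_nat hdvd
  have h3 : orderOf φ ∣ 3 := by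
    have hcop : Nat.Coprime (orderOf φ) 2 := Nat.coprime_two_right.2 hodd
    exact hcop.dvd_of_dvd_mul_left (show orderOf φ ∣ 2 * 3 by simpa using h6)
  -- the `p'`-part of `y` induces the same automorphism
  have hone : φ = 1 := by
    obtain ⟨hm, hy0⟩ : y ^ (p ^ (orderOf y).factorization p) ∈ normalizer (W : Set G) ∧
        (orderOf (y ^ (p ^ (orderOf y).factorization p))).Coprime p := by
      refine ⟨pow_mem hn _, ?_⟩
      rw [orderOf_pow, Nat.gcd_eq_right (Nat.ordProj_dvd _ _)]
      exact ((Nat.Prime.coprime_iff_not_dvd h.prime).2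
        (Nat.not_dvd_ordCompl h.prime (orderOf_pos y).ne')).symm
    set m := p ^ (orderOf y).factorization p with hm'
    have hodd' : Odd (orderOf (y ^ m)) := hy2.of_dvd_nat (orderOf_pow_dvd m)
    have hc := h.centralize_two hW hy0 hodd' hm
    have h1 : φ ^ m = 1 := by
      ext w
      rw [hpow, MulAut.one_apply, ← mem_centralizer_iff.1 hc w w.2, mul_inv_cancel_right]
    have hcop : Nat.Coprime (orderOf φ) m := by
      refine (Nat.Coprime.pow_right _ ?_).coprime_dvd_left h3
      exact (Nat.coprime_primes Nat.prime_three h.prime).2 (by have := h.five; omega)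
    exact orderOf_eq_one_iff.1 (hcop.eq_one_of_dvd (orderOf_dvd_of_pow_eq_one h1))
  intro w hw
  have := hφ ⟨w, hw⟩
  rw [hone, MulAut.one_apply] at this
  exact (mul_inv_eq_iff_eq_mul.1 this.symm).symm

/-- No proper subgroup has a section `S₄`. -/
theorem NMin.not_involves (h : NMin G p) {K : Subgroup G} (hK : K ≠ ⊤) :
    ¬ Involves (Equiv.Perm (Fin 4)) ↥K := by
  classical
  rintro ⟨A, R, hn, ⟨e⟩⟩
  haveI := h.proper K hK
  let f : ↥A →* Equiv.Perm (Fin 4) := e.toMonoidHom.comp (QuotientGroup.mk' _)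
  have hf : Function.Surjective f := e.surjective.comp (QuotientGroup.mk'_surjective _)
  haveI : Group.IsSolvable ↥A := inferInstance
  obtain ⟨H, hH, -⟩ := CfsgLib.Coprime.hallD_of_solvable (G := ↥A) ({p}ᶜ : Set ℕ)
  obtain ⟨hcop, n, hn'⟩ := (CfsgLib.Coprime.piHall_compl_iff h.prime).1 hH
  have hcard : Nat.card (Equiv.Perm (Fin 4)) = 24 := by
    rw [Nat.card_perm, Nat.card_eq_fintype_card, Fintype.card_fin]; rfl
  have htop : H.map f = ⊤ := by
    rw [← index_eq_one]
    have h1 : (H.map f).index ∣ p ^ n := hn' ▸ index_map_dvd H hf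
    have h2 : (H.map f).index ∣ 24 := hcard ▸ index_dvd_card _
    have hp24 : Nat.Coprime p 24 := (Nat.Prime.coprime_iff_not_dvd h.prime).2 fun hd => by
      have := h.five
      have := Nat.le_of_dvd (by norm_num) hd
      interval_cases p <;> first | omega | exact absurd h.prime (by norm_num)
    exact Nat.eq_one_of_dvd_coprimes (hp24.pow_left n) h1 h2
  let H₀ : Subgroup G := (H.map A.subtype).map K.subtype
  haveI : Group.IsNilpotent H₀ := h.nil H₀ (by
    rwa [card_map_of_injective K.subtype_injective, card_map_of_injective A.subtype_injective])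
  haveI : Group.IsNilpotent H :=
    Group.nilpotent_of_mulEquiv ((H.equivMapOfInjective _ A.subtype_injective).trans
      ((H.map A.subtype).equivMapOfInjective _ K.subtype_injective)).symm
  haveI : Group.IsNilpotent (Equiv.Perm (Fin 4)) := by
    refine Group.nilpotent_of_surjective (f.comp H.subtype) fun σ => ?_
    obtain ⟨x, hx, hxσ⟩ := htop.ge (mem_top σ)
    exact ⟨⟨x, hx⟩, hxσ⟩
  haveI : Nontrivial (center (Equiv.Perm (Fin 4))) :=
    (Subgroup.nontrivial_iff_ne_bot _).2 (Group.IsNilpotent.center_ne_bot _)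
  obtain ⟨⟨z, hz⟩, hz1⟩ := exists_ne (1 : center (Equiv.Perm (Fin 4)))
  refine hz1 (Subtype.ext ?_)
  have hz' := mem_center_iff.1 hz
  revert z
  decide

/-- For solvable `C`, an odd-order subgroup normalised by `N_C(P)` inside it lies in `O(C)`. -/
theorem le_core_of_normalizer {C P X : Subgroup G} (hC : Group.IsSolvable C) (hP : IsPGroup 2 P)
    (hPC : P ≤ C) (hX : X ≤ C ⊓ normalizer (P : Set G))
    (hXn : C ⊓ normalizer (P : Set G) ≤ normalizer (X : Set G)) (hodd : Odd (Nat.card X)) :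
    X ≤ (pPrimeCore 2 C).map C.subtype := by
  haveI := Fact.mk Nat.prime_two
  haveI := hC
  have hL : pLayer 2 C = ⊥ := CfsgLib.Components.isPConstrained_iff_pLayer.1
    (CfsgLib.PLocal.isPConstrained_of_isPSolvable CfsgLib.PLocal.isPSolvable_of_isSolvable)
  have key := CfsgLib.Components.map_pPrimeCore_normalizer_le hL
    (hP.comap_of_injective C.subtype C.subtype_injective)
  intro x hx
  have hxC : x ∈ C := (hX hx).1
  have hNeq : normalizer ((P.subgroupOf C : Subgroup C) : Set C) =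
      (normalizer (P : Set G)).subgroupOf C := (subgroupOf_normalizer_eq hPC).symm
  refine ⟨⟨x, hxC⟩, key ?_, rfl⟩
  have hle : X.subgroupOf C ≤ normalizer ((P.subgroupOf C : Subgroup C) : Set C) := by
    rw [hNeq]
    exact fun y hy => (hX hy).2
  refine (CfsgLib.Base.le_map_pPrimeCore hle ?_ ?_) hx
  · rw [hNeq]
    intro y hy
    exact le_normalizer_comap _ (hXn ⟨y.2, hy⟩)
  · rw [Nat.card_congr (subgroupOfEquivOfLe (fun z hz => (hX hz).1)).toEquiv]
    exact Nat.coprime_two_right.2 hodd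

/-- A solvable group not inside a strongly embedded subgroup and meeting it in even order has only
one involution in each Sylow `2`-subgroup. -/
theorem unique_of_straddle {M H : Subgroup G} (hM : IsStronglyEmbedded M) (hH : Group.IsSolvable H)
    (hHM : ¬ H ≤ M) (hd : 2 ∣ Nat.card ↥(H ⊓ M)) :
    ∀ P : Sylow 2 ↥H, ∀ a ∈ (P : Subgroup ↥H), ∀ b ∈ (P : Subgroup ↥H),
      orderOf a = 2 → orderOf b = 2 → a = b := by
  haveI := Fact.mk Nat.prime_two
  haveI := hH
  have hMp : IsStronglyPEmbedded 2 M := by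
    rw [CfsgLib.LocalEven.stronglyPEmbedded_iff_disjoint]
    refine ⟨hM.1, even_iff_two_dvd.1 hM.2.1, fun g hg => ?_⟩
    rw [← even_iff_two_dvd, Nat.not_even_iff_odd]
    exact hM.2.2 g hg
  have hse := CfsgLib.LocalEven.stronglyPEmbedded_subgroupOf hMp hHM hd
  intro P a ha b hb hoa hob
  have hcyc := CfsgLib.LocalEven.cyclic_or_quaternion_of_pSolvable hse
    CfsgLib.PLocal.isPSolvable_of_isSolvable P
  have ha' : orderOf (⟨a, ha⟩ : ↥P) = 2 := by
    rw [← Subgroup.orderOf_coe]; exact hoa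
  have hb' : orderOf (⟨b, hb⟩ : ↥P) = 2 := by
    rw [← Subgroup.orderOf_coe]; exact hob
  have hle : Nat.card {x : ↥P // x ^ 2 = 1} ≤ 2 := by
    refine CfsgLib.LocalEven.card_pow_prime_eq_one_le (p := 2) (T := ↥P) P.2 ?_
    rcases hcyc with hc | ⟨-, k, hq⟩
    · exact Or.inl hc
    · exact Or.inr ⟨2 ^ k, hq⟩
  by_contra hne
  haveI : Fintype {x : ↥P // x ^ 2 = 1} := Fintype.ofFinite _
  have h3 : 3 ≤ Nat.card {x : ↥P // x ^ 2 = 1} := by
    rw [Nat.card_eq_fintype_card]
    classical
    refine le_trans (le_of_eq ?_) (Finset.card_le_univ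
      ({⟨1, one_pow 2⟩, ⟨⟨a, ha⟩, orderOf_dvd_iff_pow_eq_one.1 (dvd_of_eq ha')⟩,
        ⟨⟨b, hb⟩, orderOf_dvd_iff_pow_eq_one.1 (dvd_of_eq hb')⟩} : Finset {x : ↥P // x ^ 2 = 1}))
    rw [Finset.card_eq_three.2 ⟨_, _, _, ?_, ?_, ?_, rfl⟩]
    · intro e
      have := congrArg (fun z : {x : ↥P // x ^ 2 = 1} => orderOf z.1) e
      simp [ha'] at this
    · intro e
      have := congrArg (fun z : {x : ↥P // x ^ 2 = 1} => orderOf z.1) e
      simp [hb'] at this
    · intro e
      exact hne (congrArg (fun z : {x : ↥P // x ^ 2 = 1} => ((z.1 : ↥P) : ↥H)) e)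
  omega

/-- Commuting involutions of `H ⊓ M` are equal if `H` is solvable and not inside `M`. -/
theorem commuting_eq_of_straddle {M H : Subgroup G} (hM : IsStronglyEmbedded M)
    (hH : Group.IsSolvable H) (hHM : ¬ H ≤ M) {s t : G} (hs : orderOf s = 2) (ht : orderOf t = 2)
    (hsH : s ∈ H) (htH : t ∈ H) (hsM : s ∈ M) (hc : Commute s t) : s = t := by
  haveI := Fact.mk Nat.prime_two
  have hd : 2 ∣ Nat.card ↥(H ⊓ M) := by
    rw [← hs, ← Nat.card_zpowers]
    exact card_dvd_of_le (zpowers_le.2 ⟨hsH, hsM⟩)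
  have hs' : orderOf (⟨s, hsH⟩ : ↥H) = 2 := by rwa [Subgroup.orderOf_mk]
  have ht' : orderOf (⟨t, htH⟩ : ↥H) = 2 := by rwa [Subgroup.orderOf_mk]
  have hc' : Commute (⟨s, hsH⟩ : ↥H) ⟨t, htH⟩ := Subtype.ext hc.eq
  have hp : IsPGroup 2 ↥(zpowers (⟨s, hsH⟩ : ↥H) ⊔ zpowers ⟨t, htH⟩) := by
    refine CfsgLib.Base.isPGroup_of_isElementaryAbelian (CfsgLib.Base.isElementaryAbelian_sup
      (CfsgLib.Base.isElementaryAbelian_zpowers (orderOf_dvd_iff_pow_eq_one.1 (dvd_of_eq hs')))
      (CfsgLib.Base.isElementaryAbelian_zpowers (orderOf_dvd_iff_pow_eq_one.1 (dvd_of_eq ht'))) ?_)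
    rw [zpowers_le]
    refine mem_centralizer_iff.2 fun x hx => ?_
    obtain ⟨i, rfl⟩ := mem_zpowers_iff.1 hx
    exact (hc'.zpow_right i).eq.symm
  obtain ⟨P, hP⟩ := hp.exists_le_sylow
  exact congrArg Subtype.val (unique_of_straddle hM hH hHM hd P _
    (hP (mem_sup_left (mem_zpowers _))) _ (hP (mem_sup_right (mem_zpowers _))) hs' ht')

/-- A solvable group with a strongly embedded subgroup has only one involution in each Sylow
`2`-subgroup, so its involutions are conjugate. -/
theorem conj_of_straddle {M H : Subgroup G} (hM : IsStronglyEmbedded M) (hH : Group.IsSolvable H)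
    {s u : G} (hs : orderOf s = 2) (hsM : s ∈ M) (hsH : s ∈ H) (hu : orderOf u = 2)
    (huM : u ∉ M) (huH : u ∈ H) : ∃ g ∈ H, g * s * g⁻¹ = u := by
  haveI := Fact.mk Nat.prime_two
  haveI := hH
  have hd : 2 ∣ Nat.card ↥(H ⊓ M) := by
    rw [← hs, ← Nat.card_zpowers]
    exact card_dvd_of_le (zpowers_le.2 ⟨hsH, hsM⟩)
  have huniq := unique_of_straddle hM hH (fun hle => huM (hle huH)) hd
  -- conjugate the Sylow subgroups
  have hp2 : ∀ t : ↥H, orderOf t = 2 → IsPGroup 2 (zpowers t) := fun t ht =>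
    IsPGroup.iff_card.2 ⟨1, by rw [Nat.card_zpowers, ht, pow_one]⟩
  have hs' : orderOf (⟨s, hsH⟩ : ↥H) = 2 := by rwa [Subgroup.orderOf_mk]
  have hu' : orderOf (⟨u, huH⟩ : ↥H) = 2 := by rwa [Subgroup.orderOf_mk]
  obtain ⟨P, hP⟩ := (hp2 _ hs').exists_le_sylow
  obtain ⟨Q, hQ⟩ := (hp2 _ hu').exists_le_sylow
  obtain ⟨g, hg⟩ := MulAction.exists_smul_eq ↥H P Q
  have hgQ : g * ⟨s, hsH⟩ * g⁻¹ ∈ (Q : Subgroup ↥H) := by
    rw [← hg, Sylow.coe_subgroup_smul]
    exact smul_mem_pointwise_smul _ _ _ (hP (mem_zpowers _))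
  have := huniq Q _ hgQ _ (hQ (mem_zpowers _)) (((MulAut.conj g).orderOf_eq _).trans hs') hu'
  exact ⟨g, g.2, congrArg Subtype.val this⟩

end CfsgLib.NilPPrime
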