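import Cfsg.Agent.Lib.FgsB.NilpotentPPrime.Embedded
import Cfsg.Agent.Lib.Involutions.StrongEmbCosets
import Cfsg.Agent.Lib.Involutions.ZStar.InvariantSylow
import Cfsg.Agent.Lib.Coprime.Action
import Cfsg.Agent.Lib.Rec.TransVec

/-!
# Counting involutions by the cosets of a strongly embedded subgroup

`p + 1` is the order of `E₀ = Ω₁Z(S ∩ O_{2',2}(M))`, and the number of involutions in a coset is a
power of `p`.
-/

set_option autoImplicit false
set_option linter.style.haveILetI false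

namespace CfsgLib.NilPPrime

open Cfsg Subgroup CfsgLib.Techniques

variable {G : Type*} [Group G] [Finite G] {p : ℕ}

/-- An element of odd order inverted by an involution is a `p`-element. -/
theorem NMin.pow_eq_one_of_inverted (h : NMin G p) {y w : G} (hy : Odd (orderOf y))
    (hw : orderOf w = 2) (hyw : w * y * w⁻¹ = y⁻¹) :
    y ^ (p ^ (orderOf y).factorization p) = 1 := by
  set m := p ^ (orderOf y).factorization p with hm
  set b := y ^ m with hb
  have hbw : w * b * w⁻¹ = b⁻¹ := by rw [hb, ← conj_pow, hyw, inv_pow]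
  have hodd : Odd (orderOf b) := hy.of_dvd_nat (orderOf_pow_dvd m)
  have hcop : (orderOf b).Coprime p := by
    rw [hb, orderOf_pow, Nat.gcd_eq_right (Nat.ordProj_dvd _ _)]
    exact ((Nat.Prime.coprime_iff_not_dvd h.prime).2
      (Nat.not_dvd_ordCompl h.prime (orderOf_pos y).ne')).symm
  have hn : w ∈ normalizer (zpowers b : Set G) := by
    rw [mem_normalizer_iff_cj, cj, MonoidHom.map_zpowers]
    show zpowers (w * b * w⁻¹) = _
    rw [hbw, zpowers_inv]
  have hc := h.centralize (X := zpowers b) (by rwa [Nat.card_zpowers]) (by rw [hw]; exact h.coprime_two)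
    (by rw [Nat.card_zpowers, hw]; exact Nat.coprime_two_right.2 hodd) hn
  have e := mem_centralizer_iff.1 hc b (mem_zpowers b)
  rw [← e, mul_inv_cancel_right] at hbw
  have h2 : orderOf b ∣ 2 := orderOf_dvd_of_pow_eq_one (by
    rw [sq]; nth_rw 1 [hbw]; exact inv_mul_cancel b)
  rcases (Nat.dvd_prime Nat.prime_two).1 h2 with h1 | h1
  · exact orderOf_eq_one_iff.1 h1
  · rw [h1] at hodd; exact absurd hodd (by decide)

/-- An element of odd order acting on an elementary group of order `p + 1` with a fixed involution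
centralises it. -/
theorem NMin.centralize_of_fixed (h : NMin G p) {E : Subgroup G} (hE : IsElementaryAbelian 2 E)
    (hcard : Nat.card E = p + 1) {c z : G} (hc : Odd (orderOf c))
    (hcn : c ∈ normalizer (E : Set G)) (hz : z ∈ E) (hz1 : z ≠ 1) (hcz : c * z = z * c) :
    c ∈ centralizer (E : Set G) := by
  classical
  haveI := Fact.mk h.prime
  set n := orderOf c with hn
  set m₁ := p ^ n.factorization p with hm₁
  set m₂ := n / m₁ with hm₂
  have hn0 : n ≠ 0 := (orderOf_pos c).ne'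
  have hcop : m₁.Coprime m₂ :=
    Nat.Coprime.pow_left _ ((Nat.Prime.coprime_iff_not_dvd h.prime).2
      (Nat.not_dvd_ordCompl h.prime hn0))
  -- the `p'`-part
  have h1 : c ^ m₁ ∈ centralizer (E : Set G) := by
    refine h.centralize_two (CfsgLib.Base.isPGroup_of_isElementaryAbelian hE) ?_
      (hc.of_dvd_nat (orderOf_pow_dvd m₁)) (pow_mem hcn m₁)
    rw [orderOf_pow, Nat.gcd_eq_right (Nat.ordProj_dvd _ _)]
    exact ((Nat.Prime.coprime_iff_not_dvd h.prime).2
      (Nat.not_dvd_ordCompl h.prime hn0)).symm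
  -- the `p`-part
  have h2 : c ^ m₂ ∈ centralizer (E : Set G) := by
    set b := c ^ m₂ with hb
    have hbn : b ∈ normalizer (E : Set G) := pow_mem hcn m₂
    have hbz : b * z = z * b := ((show Commute c z from hcz).pow_left m₂).eq
    have hB : IsPGroup p ↥(zpowers b) := by
      rintro ⟨x, hx⟩
      obtain ⟨i, rfl⟩ := mem_zpowers_iff.1 hx
      refine ⟨n.factorization p, Subtype.ext ?_⟩
      show (b ^ i) ^ m₁ = 1
      rw [← zpow_natCast, zpow_comm, zpow_natCast, hb, ← pow_mul,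
        Nat.div_mul_cancel (Nat.ordProj_dvd n p), hn, pow_orderOf_eq_one, one_zpow]
    letI : MulAction ↥(zpowers b) ↥E := MulAction.compHom ↥E
      ((Subgroup.normalizerMonoidHom E).comp (inclusion (zpowers_le.2 hbn)))
    have hsmul : ∀ (g : zpowers b) (e : E), ((g • e : E) : G) = g * e * (g : G)⁻¹ := fun g e => rfl
    have hmod := hB.card_modEq_card_fixedPoints E
    set C : Subgroup G := E ⊓ centralizer ({b} : Set G) with hC
    have hfix : Nat.card (MulAction.fixedPoints ↥(zpowers b) ↥E) = Nat.card C := by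
      refine Nat.card_congr (Equiv.ofBijective (fun e => ⟨((e : E) : G), (e : E).2, ?_⟩) ⟨?_, ?_⟩)
      · have := congrArg Subtype.val (e.2 ⟨b, mem_zpowers b⟩)
        rw [hsmul] at this
        exact mem_centralizer_singleton_iff.2 (mul_inv_eq_iff_eq_mul.1 this).symm
      · intro e f hef
        exact Subtype.ext (Subtype.ext (Subtype.mk.inj hef))
      · rintro ⟨e, heE, hec⟩
        refine ⟨⟨⟨e, heE⟩, fun g => Subtype.ext ?_⟩, rfl⟩
        rw [hsmul]
        obtain ⟨i, hi⟩ := mem_zpowers_iff.1 g.2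
        rw [← hi, ((show Commute b e from
          (mem_centralizer_singleton_iff.1 hec).symm).zpow_left i).eq, mul_inv_cancel_right]
    rw [hfix, hcard] at hmod
    have hle : Nat.card C ≤ p + 1 := hcard ▸ card_le_of_le inf_le_left
    have hzC : z ∈ C := ⟨hz, mem_centralizer_singleton_iff.2 hbz.symm⟩
    have h2C : 2 ≤ Nat.card C := by
      haveI : Nontrivial C := ⟨⟨z, hzC⟩, 1, fun e => hz1 (congrArg Subtype.val e)⟩
      exact Finite.one_lt_card_iff_nontrivial.2 inferInstance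
    have hCp : Nat.card C = p + 1 := by
      obtain ⟨t, ht⟩ := (Nat.modEq_iff_dvd' hle).1 hmod.symm
      rcases t with _ | _ | t
      · omega
      · omega
      · have : p * 2 ≤ p * (t + 1 + 1) := Nat.mul_le_mul_left p (by omega)
        omega
    have : C = E := eq_of_le_of_card_ge inf_le_left (by rw [hcard, hCp])
    intro e he
    exact mem_centralizer_singleton_iff.1 (inf_le_right (a := E) (this.ge he))
  have he : c = (c ^ m₁) ^ Nat.gcdA m₁ m₂ * (c ^ m₂) ^ Nat.gcdB m₁ m₂ := by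
    rw [← zpow_natCast, ← zpow_natCast c m₂, ← zpow_mul, ← zpow_mul, ← zpow_add,
      ← Nat.gcd_eq_gcd_ab, hcop.gcd_eq_one, Nat.cast_one, zpow_one]
  rw [he]
  exact mul_mem (zpow_mem h1 _) (zpow_mem h2 _)

/-- `R = S ∩ O_{2',2}(M)`. -/
def r0 (S : Sylow 2 G) (M : Subgroup G) : Subgroup G := (S : Subgroup G) ⊓ fK M

/-- `E₀ = Ω₁Z(R)`. -/
def e0 (S : Sylow 2 G) (M : Subgroup G) : Subgroup G := zOmega (r0 S M)

/-- The configuration that is to be counted. -/
structure Emb (p : ℕ) (S : Sylow 2 G) (M : Subgroup G) (z : G) : Prop where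
  min : NMin G p
  se : IsStronglyEmbedded M
  le : (S : Subgroup G) ≤ M
  zS : z ∈ (S : Subgroup G)
  z2 : orderOf z = 2
  zc : ∀ s ∈ (S : Subgroup G), s * z = z * s
  norm : (S : Subgroup G) ≤ normalizer (r0 S M : Set G)
  zE : z ∈ e0 S M
  eight : 8 ≤ Nat.card (e0 S M)

variable {S : Sylow 2 G} {M : Subgroup G} {z : G}

theorem NMin.exists_emb (h : NMin G p) : ∃ S M z, Emb (G := G) p S M z := by
  haveI := Fact.mk Nat.prime_two
  obtain ⟨S, M, hM, hSM, E, hE, hES⟩ := h.exists_embedded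
  obtain ⟨z, hzS, hz2, hzc⟩ := h.exists_central_involution S
  obtain ⟨e, he, he1, hez⟩ : ∃ e ∈ E, e ≠ 1 ∧ e ≠ z := by
    by_contra hc
    push Not at hc
    have hle : E ≤ zpowers z := fun e he => by
      by_cases he1 : e = 1
      · exact he1 ▸ one_mem _
      · exact hc e he he1 ▸ mem_zpowers z
    have := card_le_of_le hle
    rw [Nat.card_zpowers, hz2] at this
    have := hE.eight
    omega
  have he2 : orderOf e = 2 := orderOf_eq_prime ((sq e).trans (hE.sq_one he)) he1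
  obtain ⟨g, hg⟩ := isConj_iff.1 (CfsgLib.Involutions.SE.isConj hM hz2 he2)
  have hgM : g ∈ M :=
    CfsgLib.Involutions.SE.mem_of_conj hM hz2 (hSM hzS) (hg ▸ hSM (hES he))
  obtain ⟨h1, h2, h3⟩ := h.exists_eight S hzS hz2 hzc (h.proper M hM.1) hSM hgM
    (hg ▸ hES he) (hg ▸ hez)
  exact ⟨S, M, z, h, hM, hSM, hzS, hz2, hzc, h1, h2, h3⟩

namespace Emb

variable (c : Emb p S M z)
include c

theorem solvable : Group.IsSolvable ↥M := c.min.proper M c.se.1

theorem sylIn : SylIn 2 (S : Subgroup G) M :=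
  haveI := Fact.mk Nat.prime_two
  sylIn_of_le S c.le

theorem zM : z ∈ M := c.le c.zS

theorem z1 : z ≠ 1 := fun e => by
  have := c.z2; rw [e, orderOf_one] at this; omega

theorem e0_el : IsElementaryAbelian 2 (e0 S M) := isElementaryAbelian_zOmega _

theorem e0_le : e0 S M ≤ (S : Subgroup G) := (zOmega_le _).trans inf_le_left

theorem e0_le_M : e0 S M ≤ M := c.e0_le.trans c.le

theorem norm_e0 {n : G} (hn : n ∈ normalizer (r0 S M : Set G)) :
    n ∈ normalizer (e0 S M : Set G) := normalizer_le_normalizer_zOmega _ hn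

theorem e0_sq {e : G} (he : e ∈ e0 S M) : e * e = 1 := he.2.2

theorem e0_invol {e : G} (he : e ∈ e0 S M) (he1 : e ≠ 1) : orderOf e = 2 :=
  orderOf_eq_prime ((sq e).trans (c.e0_sq he)) he1

theorem le_normalizer_oC_conj {k : G} (hk : k ∈ M) {x : G} (hx : x ∈ oC M) :
    k * x * k⁻¹ ∈ oC M := (mem_set_normalizer_iff.1 (le_normalizer_oC M hk) x).1 hx

theorem disjoint_core {x : G} (hx : x ∈ oC M) (hxS : x ∈ (S : Subgroup G)) : x = 1 := by
  haveI := Fact.mk Nat.prime_two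
  obtain ⟨m, hm⟩ := IsPGroup.iff_card.1 S.2
  have := (Subgroup.disjoint_of_coprime_natCard (hm ▸
    (Nat.coprime_two_right.2 (odd_card_oC M)).pow_right m : (Nat.card (oC M)).Coprime
      (Nat.card (S : Subgroup G)))).eq_bot
  exact mem_bot.1 (this ▸ mem_inf.2 ⟨hx, hxS⟩)

/-- Two elements of `E₀` congruent modulo `O(M)` are equal. -/
theorem eq_of_conj {x e e' : G} (hx : x ∈ oC M) (he : e ∈ (S : Subgroup G))
    (he' : e' ∈ (S : Subgroup G)) (h : x * e * x⁻¹ = e') : e' = e := by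
  have hd : e' * e⁻¹ ∈ oC M := by
    have := (oC M).mul_mem hx (c.le_normalizer_oC_conj (c.le he) ((oC M).inv_mem hx))
    rw [← h]
    simpa [mul_assoc] using this
  exact mul_inv_eq_one.1 (c.disjoint_core hd (mul_mem he' (inv_mem he)))

/-- An element of `M` moves `z` inside `S` only into `E₀`, as an element of `N(R)` does. -/
theorem conj_mem_e0 {m : G} (hm : m ∈ M) (hmS : m * z * m⁻¹ ∈ (S : Subgroup G)) :
    ∃ n ∈ M ⊓ normalizer (r0 S M : Set G),
      n * z * n⁻¹ = m * z * m⁻¹ ∧ m * z * m⁻¹ ∈ e0 S M := by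
  obtain ⟨o, ho, n, hn, rfl⟩ := exists_mul_normalizer c.sylIn hm
  have hne : n * z * n⁻¹ ∈ e0 S M := conj_mem_zOmega hn.2 c.zE
  have he : o * n * z * (o * n)⁻¹ = o * (n * z * n⁻¹) * o⁻¹ := by group
  have heq := c.eq_of_conj ho (c.e0_le hne) hmS he.symm
  exact ⟨n, hn, heq.symm, heq ▸ hne⟩

theorem exists_conj_z {a : G} (ha : a ∈ M) (ha2 : orderOf a = 2) : ∃ m ∈ M, m * z * m⁻¹ = a := by
  obtain ⟨m, hm⟩ := isConj_iff.1 (CfsgLib.Involutions.SE.isConj c.se c.z2 ha2)
  exact ⟨m, CfsgLib.Involutions.SE.mem_of_conj c.se c.z2 c.zM (hm ▸ ha), hm⟩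

theorem mem_e0_of_invol {s : G} (hs : s ∈ (S : Subgroup G)) (hs2 : orderOf s = 2) :
    s ∈ e0 S M := by
  obtain ⟨m, hm, rfl⟩ := c.exists_conj_z (c.le hs) hs2
  obtain ⟨-, -, -, h⟩ := c.conj_mem_e0 hm hs
  exact h

theorem exists_normalizer_conj {e : G} (he : e ∈ e0 S M) (he1 : e ≠ 1) :
    ∃ n ∈ M ⊓ normalizer (r0 S M : Set G), n * z * n⁻¹ = e := by
  obtain ⟨m, hm, rfl⟩ := c.exists_conj_z (c.e0_le_M he) (c.e0_invol he he1)
  obtain ⟨n, hn, h, -⟩ := c.conj_mem_e0 hm (c.e0_le he)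
  exact ⟨n, hn, h⟩

/-- Every involution of `M` is conjugate under `O(M)` to one of `E₀`. -/
theorem exists_core_conj {a : G} (ha : a ∈ M) (ha2 : orderOf a = 2) :
    ∃ x ∈ oC M, ∃ e ∈ e0 S M, e ≠ 1 ∧ x * e * x⁻¹ = a := by
  obtain ⟨m, hm, rfl⟩ := c.exists_conj_z ha ha2
  obtain ⟨o, ho, n, hn, rfl⟩ := exists_mul_normalizer c.sylIn hm
  exact ⟨o, ho, n * z * n⁻¹, conj_mem_zOmega hn.2 c.zE,
    fun e => c.z1 (conj_eq_one_iff.1 e), by group⟩

/-- The number of involutions of `M`. -/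
theorem card_invol :
    Nat.card {t : G // orderOf t = 2 ∧ t ∈ M} =
      Nat.card {e : G // e ∈ e0 S M ∧ e ≠ 1} * Nat.card {y : G // ∃ x ∈ oC M, x * z * x⁻¹ = y} := by
  classical
  choose n hn hnz using fun e : {e : G // e ∈ e0 S M ∧ e ≠ 1} => c.exists_normalizer_conj e.2.1 e.2.2
  rw [← Nat.card_prod]
  refine (Nat.card_congr (Equiv.ofBijective
    (fun q : {e : G // e ∈ e0 S M ∧ e ≠ 1} × {y : G // ∃ x ∈ oC M, x * z * x⁻¹ = y} =>
      (⟨n q.1 * q.2.1 * (n q.1)⁻¹, ?_, ?_⟩ : {t : G // orderOf t = 2 ∧ t ∈ M})) ⟨?_, ?_⟩)).symm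
  · obtain ⟨x, hx, e⟩ := q.2.2
    rw [← e, show n q.1 * (x * z * x⁻¹) * (n q.1)⁻¹ = MulAut.conj (n q.1 * x) z by
      simp [mul_assoc], MulEquiv.orderOf_eq, c.z2]
  · obtain ⟨x, hx, e⟩ := q.2.2
    rw [← e]
    exact mul_mem (mul_mem (hn q.1).1 (mul_mem (mul_mem (oC_le M hx) c.zM) (inv_mem (oC_le M hx))))
      (inv_mem (hn q.1).1)
  · rintro ⟨e, y, x, hx, rfl⟩ ⟨e', y', x', hx', rfl⟩ h
    have h' : n e * (x * z * x⁻¹) * (n e)⁻¹ = n e' * (x' * z * x'⁻¹) * (n e')⁻¹ :=
      congrArg Subtype.val h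
    have key : ∀ (e : {e : G // e ∈ e0 S M ∧ e ≠ 1}) (x : G), x ∈ oC M →
        ∃ o ∈ oC M, n e * (x * z * x⁻¹) * (n e)⁻¹ = o * e.1 * o⁻¹ := fun e x hx =>
      ⟨n e * x * (n e)⁻¹, c.le_normalizer_oC_conj (hn e).1 hx, by rw [← hnz e]; group⟩
    obtain ⟨o, ho, ho'⟩ := key e x hx
    obtain ⟨o', ho₂, ho₂'⟩ := key e' x' hx'
    rw [ho', ho₂'] at h'
    have he : e' = e := Subtype.ext (c.eq_of_conj (mul_mem (inv_mem ho₂) ho) (c.e0_le e.2.1)
      (c.e0_le e'.2.1) (by
        calc o'⁻¹ * o * e.1 * (o'⁻¹ * o)⁻¹ = o'⁻¹ * (o * e.1 * o⁻¹) * o' := by group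
          _ = _ := by rw [h']; group))
    subst he
    have h'' : n e' * (x * z * x⁻¹) * (n e')⁻¹ = n e' * (x' * z * x'⁻¹) * (n e')⁻¹ :=
      congrArg Subtype.val h
    exact Prod.ext rfl (Subtype.ext (mul_left_cancel (mul_right_cancel h'')))
  · rintro ⟨a, ha2, ha⟩
    obtain ⟨x, hx, e, he, he1, rfl⟩ := c.exists_core_conj ha ha2
    set e' : {e : G // e ∈ e0 S M ∧ e ≠ 1} := ⟨e, he, he1⟩ with he'
    have hnn := (hn e').1
    refine ⟨(e', ⟨(n e')⁻¹ * x * n e' * z * ((n e')⁻¹ * x * n e')⁻¹, (n e')⁻¹ * x * n e', ?_, rfl⟩),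
      Subtype.ext ?_⟩
    · simpa using c.le_normalizer_oC_conj (inv_mem hnn) hx
    · show n e' * ((n e')⁻¹ * x * n e' * z * ((n e')⁻¹ * x * n e')⁻¹) * (n e')⁻¹ = x * e * x⁻¹
      calc n e' * ((n e')⁻¹ * x * n e' * z * ((n e')⁻¹ * x * n e')⁻¹) * (n e')⁻¹
          = x * (n e' * z * (n e')⁻¹) * x⁻¹ := by group
        _ = _ := by rw [hnz e']

/-- The elements of `M` inverted by `u ∉ M` are as many as the involutions of `M`. -/
theorem card_inverted {u : G} (hu : orderOf u = 2) (huM : u ∉ M) :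
    Nat.card {d : G // d ∈ M ∧ u * d * u⁻¹ = d⁻¹} = Nat.card {t : G // orderOf t = 2 ∧ t ∈ M} := by
  have huu : u * u = 1 := by rw [← sq, ← hu]; exact pow_orderOf_eq_one u
  have hui : u⁻¹ = u := inv_eq_of_mul_eq_one_left huu
  have hxy : ((1 : G) : G ⧸ M) ≠ u • ((1 : G) : G ⧸ M) := by
    rw [ne_comm, Ne, CfsgLib.Involutions.SE.smul_mk_eq_iff]
    simpa using huM
  have hx : z • ((1 : G) : G ⧸ M) = ((1 : G) : G ⧸ M) :=
    CfsgLib.Involutions.SE.smul_mk_eq_iff.2 (by simpa using c.zM)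
  rw [← CfsgLib.Involutions.SE.card_fixing (u • ((1 : G) : G ⧸ M)),
    ← CfsgLib.Involutions.SE.card_carry c.se c.z2 hxy hx]
  refine Nat.card_congr (Equiv.ofBijective (fun d => ⟨u * d.1, ?_, ?_⟩) ⟨?_, ?_⟩)
  · refine orderOf_eq_prime ?_ fun e => huM ?_
    · rw [sq]
      calc u * d.1 * (u * d.1) = (u * d.1 * u⁻¹) * (u * u) * d.1 := by group
        _ = 1 := by rw [d.2.2, huu]; group
    · rw [mul_eq_one_iff_eq_inv.1 e]; exact inv_mem d.2.1
  · rw [MulAction.Quotient.smul_mk, MulAction.Quotient.smul_mk, QuotientGroup.eq, smul_eq_mul,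
      smul_eq_mul, mul_one, mul_one, mul_inv_rev, mul_assoc, inv_mul_cancel, mul_one]
    exact inv_mem d.2.1
  · intro d d' e
    exact Subtype.ext (mul_left_cancel (congrArg Subtype.val e))
  · rintro ⟨i, hi2, hi⟩
    rw [MulAction.Quotient.smul_mk, MulAction.Quotient.smul_mk, QuotientGroup.eq, smul_eq_mul,
      smul_eq_mul, mul_one, mul_one] at hi
    have hii : i * i = 1 := by rw [← sq, ← hi2]; exact pow_orderOf_eq_one i
    have hii' : i⁻¹ = i := inv_eq_of_mul_eq_one_left hii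
    rw [hii'] at hi
    refine ⟨⟨u * i, ?_, ?_⟩, Subtype.ext ?_⟩
    · have := M.inv_mem hi
      rwa [mul_inv_rev, hui, hii'] at this
    · rw [mul_inv_rev, hii', hui, ← mul_assoc, huu, one_mul]
    · show u * (u * i) = i
      rw [← mul_assoc, huu, one_mul]

theorem exists_outside : ∃ u, u ∉ M ∧ orderOf u = 2 :=
  CfsgLib.Involutions.SE.exists_invol_not_mem c.se

/-- The number of involutions of `M` is a power of `p`. -/
theorem exists_card_invol : ∃ a, Nat.card {t : G // orderOf t = 2 ∧ t ∈ M} = p ^ a := by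
  classical
  obtain ⟨u, huM, hu⟩ := c.exists_outside
  have huu : u * u = 1 := by rw [← sq, ← hu]; exact pow_orderOf_eq_one u
  have hui : u⁻¹ = u := inv_eq_of_mul_eq_one_left huu
  set D : Subgroup G := M ⊓ cj u M with hD
  have hDodd : Odd (Nat.card D) := c.se.2.2 u huM
  have huD : u ∈ normalizer (D : Set G) := by
    rw [mem_normalizer_iff_cj, hD, cj_inf, ← cj_mul, huu, inf_comm]
    congr 1
    exact cj_eq_self_of_mem (one_mem M)
  rw [← c.card_inverted hu huM]
  have he : Nat.card {d : G // d ∈ M ∧ u * d * u⁻¹ = d⁻¹} =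
      (D ⊓ centralizer ({u} : Set G)).relIndex D := by
    rw [CfsgLib.Involutions.ZStar.card_inverted hu D hDodd huD]
    refine Nat.card_congr (Equiv.subtypeEquivRight fun d => ⟨fun hd => ⟨⟨hd.1, ?_⟩, hd.2⟩,
      fun hd => ⟨hd.1.1, hd.2⟩⟩)
    refine mem_cj.2 ?_
    have := M.inv_mem hd.1
    rw [← hd.2, hui] at this
    rwa [hui]
  rw [he]
  set k := (D ⊓ centralizer ({u} : Set G)).relIndex D with hk
  have hk0 : k ≠ 0 := Subgroup.index_ne_zero_of_finite
  refine ⟨k.primeFactorsList.length,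
    Nat.eq_prime_pow_of_unique_prime_dvd hk0 fun {q} hq hqk => ?_⟩
  by_contra hqp
  haveI := Fact.mk hq
  have hA : IsPGroup 2 ↥(zpowers u) := IsPGroup.iff_card.2 ⟨1, by rw [Nat.card_zpowers, hu, pow_one]⟩
  have hcop : (Nat.card (zpowers u)).Coprime (Nat.card D) := by
    rw [Nat.card_zpowers, hu]; exact Nat.coprime_two_left.2 hDodd
  haveI : Fact (Nat.Prime 2) := ⟨Nat.prime_two⟩
  obtain ⟨Q, hQ⟩ := CfsgLib.Coprime.exists_invariant_sylow (p := q) (zpowers_le.2 huD) hcop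
    (Or.inl (haveI := hA.isNilpotent; inferInstance))
  set Q₀ : Subgroup G := (Q : Subgroup D).map D.subtype with hQ₀
  obtain ⟨j, hj⟩ := IsPGroup.iff_card.1 (Q.2.map D.subtype)
  have hQcard : Nat.card Q₀ = q ^ j := hj
  have hq2 : q ≠ 2 := fun e => by
    have h2k : 2 ∣ Nat.card D :=
      (e ▸ hqk).trans (Subgroup.index_dvd_card _ |>.trans (dvd_refl _))
    exact Nat.not_even_iff_odd.2 hDodd (even_iff_two_dvd.2 h2k)
  have hc := c.min.centralize (X := Q₀) (y := u)
    (by rw [hQcard]; exact ((Nat.coprime_primes hq c.min.prime).2 hqp).pow_left j)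
    (by rw [hu]; exact c.min.coprime_two)
    (by rw [hQcard, hu]; exact ((Nat.coprime_primes hq Nat.prime_two).2 hq2).pow_left j)
    (hQ (mem_zpowers u))
  have hle : (Q : Subgroup D) ≤ (D ⊓ centralizer ({u} : Set G)).subgroupOf D := fun x hx =>
    mem_subgroupOf.2 ⟨x.2, mem_centralizer_singleton_iff.2
      (mem_centralizer_iff.1 hc _ (mem_map_of_mem D.subtype hx))⟩
  exact Q.not_dvd_index (hqk.trans (index_dvd_of_le hle))

theorem card_e0_sub : Nat.card {e : G // e ∈ e0 S M ∧ e ≠ 1} + 1 = Nat.card (e0 S M) := by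
  classical
  haveI : Fintype (e0 S M) := Fintype.ofFinite _
  rw [show Nat.card {e : G // e ∈ e0 S M ∧ e ≠ 1} = Nat.card {e : e0 S M // e ≠ 1} from
    Nat.card_congr { toFun := fun e => ⟨⟨e.1, e.2.1⟩, fun h => e.2.2 (congrArg Subtype.val h)⟩
                     invFun := fun e => ⟨e.1.1, e.1.2, fun h => e.2 (Subtype.ext h)⟩
                     left_inv := fun _ => rfl
                     right_inv := fun _ => rfl }]
  rw [Nat.card_eq_fintype_card, Nat.card_eq_fintype_card, Fintype.card_subtype_compl,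
    Fintype.card_subtype_eq]
  have : 0 < Fintype.card (e0 S M) := Fintype.card_pos
  omega

/-- `E₀` has order `p + 1`. -/
theorem card_e0 : Nat.card (e0 S M) = p + 1 := by
  haveI := Fact.mk Nat.prime_two
  obtain ⟨a, ha⟩ := c.exists_card_invol
  obtain ⟨n, hn⟩ := IsPGroup.iff_card.1 (CfsgLib.Base.isPGroup_of_isElementaryAbelian c.e0_el)
  have hsub := c.card_e0_sub
  have h8 := c.eight
  have hdvd : Nat.card {e : G // e ∈ e0 S M ∧ e ≠ 1} ∣ p ^ a := ha ▸ c.card_invol ▸ dvd_mul_right _ _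
  obtain ⟨b, -, hb⟩ := (Nat.dvd_prime_pow c.min.prime).1 hdvd
  have hb0 : b ≠ 0 := fun e => by rw [e, pow_zero] at hb; omega
  have hn2 : 2 ≤ n := by
    rcases n with _ | _ | n
    · rw [pow_zero] at hn; omega
    · rw [pow_one] at hn; omega
    · omega
  have h1 := CfsgLib.Rec.TransVec.exp_one_of_two_pow_sub_one c.min.prime hn2 hb0
    (show 2 ^ n - 1 = p ^ b by omega)
  rw [h1, pow_one] at hb
  omega

theorem card_sub_eq : Nat.card {e : G // e ∈ e0 S M ∧ e ≠ 1} = p := by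
  have := c.card_e0_sub
  have := c.card_e0
  omega

/-- No involution of `M` centralises a nontrivial element inverted by `u ∉ M`. -/
theorem not_commute {u y s : G} (hu : orderOf u = 2) (huM : u ∉ M) (hy : y ∈ M) (hy1 : y ≠ 1)
    (hyu : u * y * u⁻¹ = y⁻¹) (hs : orderOf s = 2) (hsM : s ∈ M) : ¬ Commute s y := by
  intro hc
  have hui : u⁻¹ = u := inv_eq_of_mul_eq_one_left (by rw [← sq, ← hu]; exact pow_orderOf_eq_one u)
  have hyD : y ∈ M ⊓ cj u M := by
    refine mem_inf.2 ⟨hy, mem_cj.2 ?_⟩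
    have := M.inv_mem hy
    rw [← hyu, hui] at this
    rwa [hui]
  have hodd : Odd (orderOf y) :=
    (c.se.2.2 u huM).of_dvd_nat (Subgroup.orderOf_dvd_natCard _ hyD)
  have hYtop : zpowers y ≠ ⊤ := fun e => c.se.1 (top_le_iff.1 (e ▸ zpowers_le.2 hy))
  have hsH : s ∈ normalizer (zpowers y : Set G) := by
    rw [mem_normalizer_iff_cj, cj, MonoidHom.map_zpowers]
    show zpowers (s * y * s⁻¹) = _
    rw [hc.eq, mul_inv_cancel_right]
  have huH : u ∈ normalizer (zpowers y : Set G) := by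
    rw [mem_normalizer_iff_cj, cj, MonoidHom.map_zpowers]
    show zpowers (u * y * u⁻¹) = _
    rw [hyu, zpowers_inv]
  obtain ⟨g, hg, hgs⟩ := conj_of_straddle c.se
    (c.min.solvable_normalizer (fun e => hy1 (zpowers_eq_bot.1 e)) hYtop) hs hsM hsH hu huM huH
  have hgy : g⁻¹ * y * g ∈ zpowers y := (mem_set_normalizer_iff''.1 hg y).1 (mem_zpowers y)
  obtain ⟨i, hi⟩ := mem_zpowers_iff.1 hgy
  have hcy : u * y * u⁻¹ = y := by
    have h1 : s * (g⁻¹ * y * g) * s⁻¹ = g⁻¹ * y * g := by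
      rw [← hi, ← conj_zpow, hc.eq, mul_inv_cancel_right]
    calc u * y * u⁻¹ = g * (s * (g⁻¹ * y * g) * s⁻¹) * g⁻¹ := by rw [← hgs]; group
      _ = y := by rw [h1]; group
  rw [hyu] at hcy
  have h2 : orderOf y ∣ 2 := orderOf_dvd_of_pow_eq_one (by
    rw [sq]; nth_rw 1 [← hcy]; exact inv_mul_cancel y)
  rcases (Nat.dvd_prime Nat.prime_two).1 h2 with h3 | h3
  · exact hy1 (orderOf_eq_one_iff.1 h3)
  · rw [h3] at hodd; exact absurd hodd (by decide)

end Emb

end CfsgLib.NilPPrime
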