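import Cfsg.Agent.Lib.FgsB.NilpotentPPrime.CountTrivial
import Cfsg.Agent.Lib.Transfer.ControlZJ
import Cfsg.Agent.Lib.Transfer.ThompsonFactor
import Cfsg.Agent.Lib.FgsC.HallHigmanB
import Cfsg.Agent.Lib.LocalEven.CommutatorAB

/-!
# The case where `O(M)` moves the involutions of `M`

The elements inverted by an involution outside `M` lie in `O_p(O(M))`, and there are too many of
them.
-/

set_option autoImplicit false
set_option linter.style.haveILetI false

namespace CfsgLib.NilPPrime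

open Cfsg Subgroup CfsgLib.Techniques
open scoped commutatorElement

universe u

variable {G : Type u} [Group G] [Finite G] {p : ℕ} {S : Sylow 2 G} {M : Subgroup G} {z : G}

/-- `O_p(O(M))`. -/
def pc (p : ℕ) (M : Subgroup G) : Subgroup G := (pCore p ↥(oC M)).map (oC M).subtype

theorem pc_le (p : ℕ) (M : Subgroup G) : pc p M ≤ oC M := map_subtype_le _

theorem le_normalizer_pc (p : ℕ) (M : Subgroup G) : M ≤ normalizer (pc p M : Set G) := by
  intro g hg
  have hX : cj g (oC M) = oC M := mem_normalizer_iff_cj.1 (le_normalizer_oC M hg)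
  rw [mem_normalizer_iff_cj]
  let e : oC M ≃* ↥(cj g (oC M)) :=
    (oC M).equivMapOfInjective _ (MulAut.conj g).injective
  have h : cj g (pc p M) = (pCore p ↥(cj g (oC M))).map (cj g (oC M)).subtype := by
    rw [pc, ← CfsgLib.Base.map_pCore_mulEquiv e, Subgroup.map_map]
    exact Subgroup.map_map _ _ _
  rw [h, hX]
  rfl

/-- The orbit formula for conjugation by a subgroup. -/
theorem card_orbit_mul (K : Subgroup G) (z : G) :
    Nat.card {y : G // ∃ x ∈ K, x * z * x⁻¹ = y} * Nat.card ↥(K ⊓ centralizer ({z} : Set G)) =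
      Nat.card K := by
  set C : Subgroup K := (centralizer ({z} : Set G)).subgroupOf K with hC
  have h1 : Nat.card {y : G // ∃ x ∈ K, x * z * x⁻¹ = y} = C.index := by
    refine (Nat.card_congr (Equiv.ofBijective (Quotient.lift
      (fun x : K => (⟨(x : G) * z * (x : G)⁻¹, x, x.2, rfl⟩ :
        {y : G // ∃ x ∈ K, x * z * x⁻¹ = y})) ?_) ⟨?_, ?_⟩)).symm
    · intro g k hgk
      have hk := mem_centralizer_singleton_iff.1 (mem_subgroupOf.1 (QuotientGroup.leftRel_apply.1 hgk))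
      rw [coe_mul, coe_inv] at hk
      refine Subtype.ext ?_
      show (g : G) * z * (g : G)⁻¹ = k * z * (k : G)⁻¹
      calc (g : G) * z * (g : G)⁻¹ = g * (z * ((g : G)⁻¹ * k)) * (k : G)⁻¹ := by group
        _ = g * (((g : G)⁻¹ * k) * z) * (k : G)⁻¹ := by rw [hk]
        _ = _ := by group
    · rintro ⟨g⟩ ⟨k⟩ e
      have e' : (g : G) * z * (g : G)⁻¹ = k * z * (k : G)⁻¹ := congrArg Subtype.val e
      refine Quotient.sound (QuotientGroup.leftRel_apply.2 (mem_subgroupOf.2
        (mem_centralizer_singleton_iff.2 ?_)))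
      rw [coe_mul, coe_inv]
      calc (g : G)⁻¹ * k * z = (g : G)⁻¹ * (k * z * (k : G)⁻¹) * k := by group
        _ = (g : G)⁻¹ * (g * z * (g : G)⁻¹) * k := by rw [e']
        _ = _ := by group
    · rintro ⟨y, x, hx, rfl⟩
      exact ⟨Quotient.mk'' ⟨x, hx⟩, rfl⟩
  have h2 : C.index * Nat.card C = Nat.card K := C.index_mul_card
  rw [h1, ← h2, hC]
  congr 1
  rw [← Nat.card_congr (subgroupOfEquivOfLe (inf_le_left : K ⊓ centralizer ({z} : Set G) ≤ K)).toEquiv,
    inf_comm K, inf_subgroupOf_right]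

theorem eq_inv_odd {c : G} (ho : Odd (orderOf c)) (h : c = c⁻¹) : c = 1 := by
  have h2 : orderOf c ∣ 2 := orderOf_dvd_of_pow_eq_one (by
    rw [sq]; nth_rw 1 [h]; exact inv_mul_cancel c)
  rcases (Nat.dvd_prime Nat.prime_two).1 h2 with h1 | h1
  · exact orderOf_eq_one_iff.1 h1
  · rw [h1] at ho; exact absurd ho (by decide)

theorem mem_of_sq_mem {H : Subgroup G} {c : G} (ho : Odd (orderOf c)) (h : c * c ∈ H) : c ∈ H := by
  obtain ⟨m, hm⟩ := ho
  have : c = (c * c) ^ (m + 1) := by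
    rw [← sq, ← pow_mul, show 2 * (m + 1) = orderOf c + 1 by omega, pow_succ, pow_orderOf_eq_one,
      one_mul]
  rw [this]
  exact pow_mem h _

namespace Emb

variable (c : Emb p S M z)
include c

theorem odd_oC {x : G} (hx : x ∈ oC M) : Odd (orderOf x) :=
  (odd_card_oC M).of_dvd_nat (Subgroup.orderOf_dvd_natCard _ hx)

theorem invol_comm_mem {a x : G} (ha : a ∈ M) (hx : x ∈ oC M) :
    x⁻¹ * a * x * a⁻¹ ∈ oC M := by
  have := (oC M).mul_mem ((oC M).inv_mem hx) (c.le_normalizer_oC_conj ha hx)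
  simpa [mul_assoc] using this

/-- An involution of `M` centralises `O(M)` modulo `O_p(O(M))`. -/
theorem comm_mem_pc {a : G} (ha : a ∈ M) (ha2 : orderOf a = 2) {x : G} (hx : x ∈ oC M) :
    x⁻¹ * a * x * a⁻¹ ∈ pc p M := by
  classical
  haveI := Fact.mk c.min.prime
  haveI := Fact.mk Nat.prime_two
  set X := oC M with hX
  have haa : a * a = 1 := by rw [← sq, ← ha2]; exact pow_orderOf_eq_one a
  have hai : a⁻¹ = a := inv_eq_of_mul_eq_one_left haa
  haveI : Group.IsSolvable ↥X :=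
    haveI := c.solvable
    solvable_of_solvable_injective (inclusion_injective (oC_le M))
  set Pc : Subgroup ↥X := pCore p ↥X with hPc
  let π := QuotientGroup.mk' Pc
  set N : Subgroup ↥X := (pPrimeCore p (↥X ⧸ Pc)).comap π with hN
  haveI hNn : N.Normal := Normal.comap inferInstance π
  have hPN : Pc ≤ N := fun y hy => by
    rw [hN, mem_comap, show π y = 1 from (QuotientGroup.eq_one_iff y).2 hy]
    exact one_mem _
  set NG : Subgroup G := N.map X.subtype with hNG
  set PG : Subgroup G := Pc.map X.subtype with hPG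
  have hrel : (PG.relIndex NG).Coprime p := by
    rw [hPG, hNG, relIndex_map_map_of_injective _ _ X.subtype_injective]
    have : Pc.relIndex N = Nat.card (N.map π) := by
      rw [← relIndex_ker, QuotientGroup.ker_mk']
    rw [this, hN, map_comap_eq_self_of_surjective (QuotientGroup.mk'_surjective Pc)]
    exact CfsgLib.Base.pPrimeCore_coprime p _
  -- `a` normalises `N`
  have haX : a ∈ normalizer (X : Set G) := le_normalizer_oC M ha
  have hPGn : a ∈ normalizer (PG : Set G) := le_normalizer_pc p M ha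
  have hbig : ∀ y ∈ NG, a * y * a⁻¹ ∈ NG := by
    have hcl : ∀ y : ↥X, a * (y : G) * a⁻¹ ∈ X := fun y =>
      (mem_set_normalizer_iff.1 haX _).1 y.2
    let σ : ↥X →* ↥X := MonoidHom.mk' (fun y => ⟨a * y * a⁻¹, hcl y⟩) fun y w =>
      Subtype.ext (by simp only [coe_mul]; group)
    have hσ : Function.Surjective σ := fun y => ⟨⟨a * y * a⁻¹, hcl y⟩, Subtype.ext (by
      show a * (a * (y : G) * a⁻¹) * a⁻¹ = y
      rw [hai, show a * (a * (y : G) * a) * a = (a * a) * y * (a * a) by group, haa, one_mul,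
        mul_one])⟩
    haveI : (N.map σ).Normal := hNn.map σ hσ
    have hPc' : Pc ≤ N.map σ := by
      intro y hy
      obtain ⟨w, rfl⟩ := hσ y
      refine mem_map_of_mem σ (hPN ?_)
      have : a * (w : G) * a⁻¹ ∈ PG := ⟨σ w, hy, rfl⟩
      obtain ⟨w', hw', e⟩ := (mem_set_normalizer_iff.1 hPGn _).2 this
      rwa [← (Subtype.ext e : w' = w)]
    have hσi : Function.Injective σ := fun y w e => Subtype.ext (mul_left_cancel (mul_right_cancel
      (congrArg Subtype.val e :)))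
    have hle : N.map σ ≤ N := by
      refine map_le_iff_le_comap.1 ?_
      haveI : ((N.map σ).map π).Normal := Normal.map inferInstance π (QuotientGroup.mk'_surjective Pc)
      refine CfsgLib.Base.le_pPrimeCore ?_
      rw [← relIndex_ker, QuotientGroup.ker_mk']
      have he : Pc.relIndex (N.map σ) = Pc.relIndex N := by
        refine mul_left_cancel₀ (Nat.card_pos (α := Pc)).ne' ?_
        rw [← relIndex_bot_left, relIndex_mul_relIndex _ _ _ bot_le hPc',
          relIndex_mul_relIndex _ _ _ bot_le hPN, relIndex_bot_left, relIndex_bot_left,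
          card_map_of_injective hσi]
      rw [he, ← relIndex_map_map_of_injective _ _ X.subtype_injective]
      exact hrel
    rintro _ ⟨y, hy, rfl⟩
    exact ⟨σ y, hle (mem_map_of_mem σ hy), rfl⟩
  have haN : a ∈ normalizer (NG : Set G) := mem_set_normalizer_iff.2 fun y => ⟨hbig y, fun hy => by
    have := hbig _ hy
    rwa [hai, show a * (a * y * a) * a = (a * a) * y * (a * a) by group, haa, one_mul,
      mul_one] at this⟩
  have hNX : NG ≤ X := map_subtype_le _
  have hPNG : PG ≤ NG := map_mono hPN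
  -- `a` centralises `N` modulo `P`
  have hcent : ∀ y ∈ NG, a * y * a⁻¹ * y⁻¹ ∈ PG := by
    have hle : NG ≤ PG ⊔ (NG ⊓ centralizer ({a} : Set G)) := by
      rw [← relIndex_eq_one]
      have hdvd : (PG ⊔ (NG ⊓ centralizer ({a} : Set G))).relIndex NG ∣ PG.relIndex NG :=
        relIndex_dvd_of_le_left _ le_sup_left
      by_contra hne
      obtain ⟨q, hq, hqd⟩ := Nat.exists_prime_and_dvd hne
      haveI := Fact.mk hq
      have hqp : q ≠ p := fun e =>
        c.min.prime.coprime_iff_not_dvd.1 hrel.symm (by rw [← e]; exact hqd.trans hdvd)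
      have hA : IsPGroup 2 ↥(zpowers a) :=
        IsPGroup.iff_card.2 ⟨1, by rw [Nat.card_zpowers, ha2, pow_one]⟩
      have hodd : Odd (Nat.card NG) := (odd_card_oC M).of_dvd_nat (card_dvd_of_le hNX)
      obtain ⟨Q, hQ⟩ := CfsgLib.Coprime.exists_invariant_sylow (p := q) (zpowers_le.2 haN)
        (by rw [Nat.card_zpowers, ha2]; exact Nat.coprime_two_left.2 hodd)
        (Or.inl (haveI := hA.isNilpotent; inferInstance))
      obtain ⟨j, hj⟩ := IsPGroup.iff_card.1 (Q.2.map NG.subtype)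
      have hq2 : q ≠ 2 := fun e => by
        have h2 : 2 ∣ Nat.card NG := (e ▸ hqd).trans (index_dvd_card _)
        exact Nat.not_even_iff_odd.2 hodd (even_iff_two_dvd.2 h2)
      have hj' : Nat.card ((Q : Subgroup NG).map NG.subtype) = q ^ j := hj
      have hc := c.min.centralize (X := (Q : Subgroup NG).map NG.subtype) (y := a)
        (by rw [hj']; exact ((Nat.coprime_primes hq c.min.prime).2 hqp).pow_left j)
        (by rw [ha2]; exact c.min.coprime_two)
        (by rw [hj', ha2]; exact ((Nat.coprime_primes hq Nat.prime_two).2 hq2).pow_left j)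
        (hQ (mem_zpowers a))
      have hQle : (Q : Subgroup NG) ≤ (PG ⊔ (NG ⊓ centralizer ({a} : Set G))).subgroupOf NG :=
        fun y hy => mem_subgroupOf.2 (mem_sup_right (mem_inf.2 ⟨y.2,
          mem_centralizer_singleton_iff.2 (mem_centralizer_iff.1 hc _
            (mem_map_of_mem NG.subtype hy))⟩))
      exact Q.not_dvd_index (hqd.trans (index_dvd_of_le hQle))
    intro y hy
    have hn : NG ⊓ centralizer ({a} : Set G) ≤ normalizer (PG : Set G) := fun w hw =>
      le_normalizer_pc p M (oC_le M (hNX hw.1))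
    have hy' := hle hy
    rw [← SetLike.mem_coe, coe_mul_of_right_le_normalizer_left _ _ hn] at hy'
    obtain ⟨u, hu, w, hw, rfl⟩ := hy'
    have hwa : w * a = a * w := mem_centralizer_singleton_iff.1 hw.2
    have : a * (u * w) * a⁻¹ * (u * w)⁻¹ = (a * u * a⁻¹) * u⁻¹ := by
      calc a * (u * w) * a⁻¹ * (u * w)⁻¹ = a * u * (w * a⁻¹) * w⁻¹ * u⁻¹ := by group
        _ = a * u * (a⁻¹ * w) * w⁻¹ * u⁻¹ := by
          rw [((show Commute w a from hwa).inv_right).eq]
        _ = _ := by group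
    rw [this]
    exact mul_mem ((mem_set_normalizer_iff.1 hPGn u).1 hu) (inv_mem hu)
  -- the commutator centralises `N/P`
  set k := x⁻¹ * a * x * a⁻¹ with hk
  have hkX : k ∈ X := c.invol_comm_mem ha hx
  have hxN : x ∈ normalizer (NG : Set G) := mem_set_normalizer_iff.2 fun y => ⟨fun ⟨w, hw, e⟩ =>
      ⟨⟨x, hx⟩ * w * ⟨x, hx⟩⁻¹, hNn.conj_mem w hw _, by rw [← e]; rfl⟩, fun ⟨w, hw, e⟩ =>
      ⟨⟨x, hx⟩⁻¹ * w * ⟨x, hx⟩, by simpa using hNn.conj_mem w hw (⟨x, hx⟩ : ↥X)⁻¹, by
        change x⁻¹ * (w : G) * x = y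
        rw [show (w : G) = x * y * x⁻¹ from e]
        group⟩⟩
  have hxP : x ∈ normalizer (PG : Set G) := le_normalizer_pc p M (oC_le M hx)
  have hkN : (⟨k, hkX⟩ : ↥X) ∈ N := by
    rw [hN, mem_comap]
    refine CfsgLib.FgsC.HallHigmanB.centralizer_pPrimeCore_le
      (CfsgLib.PLocal.isPSolvable_of_isSolvable (p := p) (G := ↥X ⧸ Pc))
      (CfsgLib.Base.pCore_quotient_pCore p ↥X) (mem_centralizer_iff.2 ?_)
    intro w hw
    obtain ⟨y, rfl⟩ := QuotientGroup.mk'_surjective Pc w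
    rw [eq_comm, ← mul_inv_eq_one, ← map_mul, ← map_mul, ← map_inv, ← map_mul]
    refine (QuotientGroup.eq_one_iff _).2 ?_
    have hyN : (y : G) ∈ NG := mem_map_of_mem X.subtype hw
    set y₁ := a⁻¹ * (y : G) * a with hy₁
    have hy₁N : y₁ ∈ NG := (mem_set_normalizer_iff''.1 haN _).1 hyN
    set y₂ := x * y₁ * x⁻¹ with hy₂
    have hy₂N : y₂ ∈ NG := (mem_set_normalizer_iff.1 hxN _).1 hy₁N
    have h1 : y₁ * (y : G)⁻¹ ∈ PG := by
      have := hcent _ hyN
      rwa [hy₁, hai] at *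
    have h2 : x⁻¹ * (a * y₂ * a⁻¹ * y₂⁻¹) * x ∈ PG :=
      (mem_set_normalizer_iff''.1 hxP _).1 (hcent _ hy₂N)
    have h3 : k * (y : G) * k⁻¹ * (y : G)⁻¹ =
        (x⁻¹ * (a * y₂ * a⁻¹ * y₂⁻¹) * x) * (y₁ * (y : G)⁻¹) := by
      rw [hk, hy₂, hy₁]; group
    obtain ⟨w', hw', e⟩ := h3 ▸ PG.mul_mem h2 h1
    have : w' = ⟨k, hkX⟩ * y * (y * ⟨k, hkX⟩)⁻¹ := Subtype.ext (by
      rw [show (w' : G) = _ from e]; simp [mul_assoc])
    rw [← this]
    exact hw'
  have hinv : a * k * a⁻¹ = k⁻¹ := by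
    rw [hk, mul_inv_rev, mul_inv_rev, mul_inv_rev, inv_inv, inv_inv, hai]
    calc a * (x⁻¹ * a * x * a) * a = a * x⁻¹ * a * x * (a * a) := by group
      _ = _ := by rw [haa]; group
  have h4 := hcent k (mem_map_of_mem X.subtype hkN)
  rw [hinv] at h4
  have h5 : k * k ∈ PG := by
    have := inv_mem h4
    simpa using this
  exact mem_of_sq_mem (c.odd_oC hkX) h5

theorem pc_le_M : pc p M ≤ M := (pc_le p M).trans (oC_le M)

theorem isPGroup_pc : IsPGroup p ↥(pc p M) := (CfsgLib.Base.isPGroup_pCore p _).map _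

/-- An `O(M)`-conjugate of an involution `a` is a `P`-conjugate. -/
theorem exists_pc_conj {a x : G} (ha : a ∈ M) (ha2 : orderOf a = 2) (hx : x ∈ oC M) :
    ∃ π ∈ pc p M, π * a * π⁻¹ = x * a * x⁻¹ := by
  haveI := Fact.mk Nat.prime_two
  have hA : IsPGroup 2 ↥(zpowers a) :=
    IsPGroup.iff_card.2 ⟨1, by rw [Nat.card_zpowers, ha2, pow_one]⟩
  obtain ⟨w, hw, hwx⟩ := CfsgLib.Coprime.exists_centralizing_in_coset (k := x)
    (zpowers_le.2 (le_normalizer_pc p M ha))
    (by rw [Nat.card_zpowers, ha2]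
        exact Nat.coprime_two_left.2 ((odd_card_oC M).of_dvd_nat (card_dvd_of_le (pc_le p M))))
    (Or.inl (haveI := hA.isNilpotent; inferInstance)) fun b hb => by
      obtain ⟨i, rfl⟩ := mem_zpowers_iff.1 hb
      have haa : a ^ 2 = 1 := by rw [← ha2]; exact pow_orderOf_eq_one a
      rcases Int.even_or_odd i with ⟨j, rfl⟩ | ⟨j, rfl⟩
      · have : a ^ (j + j) = 1 := by
          rw [← two_mul, zpow_mul, show a ^ (2 : ℤ) = 1 from mod_cast haa, one_zpow]
        rw [this]; simp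
      · have : a ^ (2 * j + 1) = a := by
          rw [zpow_add, zpow_mul, show a ^ (2 : ℤ) = 1 from mod_cast haa, one_zpow, one_mul, zpow_one]
        rw [this]
        have h := c.comm_mem_pc ha ha2 hx
        simpa [mul_assoc] using h
  refine ⟨x * w⁻¹, ?_, ?_⟩
  · have h := (mem_set_normalizer_iff.1 (le_normalizer_pc p M (oC_le M hx)) _).1
      ((pc p M).inv_mem hwx)
    simpa [mul_assoc] using h
  · have hwa : w * a = a * w := (mem_centralizer_iff.1 hw a (mem_zpowers a)).symm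
    calc x * w⁻¹ * a * (x * w⁻¹)⁻¹ = x * w⁻¹ * (a * w) * x⁻¹ := by group
      _ = x * w⁻¹ * (w * a) * x⁻¹ := by rw [hwa]
      _ = _ := by group

theorem card_orbit_pc :
    Nat.card {y : G // ∃ x ∈ oC M, x * z * x⁻¹ = y} =
      Nat.card {y : G // ∃ x ∈ pc p M, x * z * x⁻¹ = y} := by
  refine Nat.card_congr (Equiv.subtypeEquivRight fun y => ⟨?_, ?_⟩)
  · rintro ⟨x, hx, rfl⟩
    exact c.exists_pc_conj c.zM c.z2 hx
  · rintro ⟨x, hx, rfl⟩
    exact ⟨x, pc_le p M hx, rfl⟩

section Moving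

variable (hX : ¬ ∀ x ∈ oC M, x * z = z * x)
include hX

theorem exists_moved_core : ∃ x ∈ oC M, x⁻¹ * z * x * z⁻¹ ≠ 1 := by
  push Not at hX
  obtain ⟨x, hx, hne⟩ := hX
  refine ⟨x, hx, fun e => hne ?_⟩
  have h1 : x⁻¹ * z * x = z := mul_inv_eq_one.1 e
  calc x * z = x * (x⁻¹ * z * x) := by rw [h1]
    _ = _ := by group

/-- `O_{p'}(M)` lies in `O(M)`. -/
theorem pPrimeCore_le_oC : (pPrimeCore p ↥M).map M.subtype ≤ oC M := by
  haveI := Fact.mk c.min.prime
  refine Subgroup.map_mono (CfsgLib.Base.le_oddCore ?_ )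
  by_contra hev
  rw [Nat.not_odd_iff_even, CfsgLib.Involutions.even_card_iff] at hev
  obtain ⟨t, ht, ht2⟩ := hev
  obtain ⟨m, hm, hmz⟩ := c.exists_conj_z t.2 (by rw [Subgroup.orderOf_coe]; exact ht2)
  have hzQ : (⟨z, c.zM⟩ : ↥M) ∈ pPrimeCore p ↥M := by
    have := (inferInstance : (pPrimeCore p ↥M).Normal).conj_mem t ht (⟨m, hm⟩ : ↥M)⁻¹
    convert this using 1
    refine Subtype.ext ?_
    simp [← hmz, mul_assoc]
  obtain ⟨x, hx, hne⟩ := c.exists_moved_core hX
  set k := x⁻¹ * z * x * z⁻¹ with hk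
  set Y : Subgroup G := (pPrimeCore p ↥M).map M.subtype ⊓ oC M with hY
  have hkY : k ∈ Y := by
    refine mem_inf.2 ⟨?_, c.invol_comm_mem c.zM hx⟩
    refine ⟨(⟨x, oC_le M hx⟩ : ↥M)⁻¹ * ⟨z, c.zM⟩ * ⟨x, oC_le M hx⟩ * ⟨z, c.zM⟩⁻¹,
      (pPrimeCore p ↥M).mul_mem ?_ ((pPrimeCore p ↥M).inv_mem hzQ), rfl⟩
    simpa using (inferInstance : (pPrimeCore p ↥M).Normal).conj_mem _ hzQ (⟨x, oC_le M hx⟩ : ↥M)⁻¹
  have hzY : z ∈ normalizer (Y : Set G) := mem_set_normalizer_iff.2 fun y =>
    and_congr (mem_set_normalizer_iff.1 (CfsgLib.Base.le_normalizer_map_pPrimeCore M c.zM) y)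
      (mem_set_normalizer_iff.1 (le_normalizer_oC M c.zM) y)
  have hYodd : Odd (Nat.card Y) := (odd_card_oC M).of_dvd_nat (card_dvd_of_le inf_le_right)
  have hYp : (Nat.card Y).Coprime p :=
    (CfsgLib.Base.coprime_card_map_pPrimeCore (p := p) M).coprime_dvd_left
      (card_dvd_of_le inf_le_left)
  have hc := c.min.centralize (X := Y) (y := z) hYp (by rw [c.z2]; exact c.min.coprime_two)
    (by rw [c.z2]; exact Nat.coprime_two_right.2 hYodd) hzY
  have hkz : k * z = z * k := mem_centralizer_iff.1 hc k hkY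
  refine hne (eq_inv_odd (hYodd.of_dvd_nat (Subgroup.orderOf_dvd_natCard _ hkY)) ?_)
  have hinv : z * k * z⁻¹ = k⁻¹ := by
    rw [hk, mul_inv_rev, mul_inv_rev, mul_inv_rev, inv_inv, inv_inv, c.zinv]
    calc z * (x⁻¹ * z * x * z) * z = z * x⁻¹ * z * x * (z * z) := by group
      _ = _ := by rw [c.zz]; group
  rwa [← hkz, mul_inv_cancel_right] at hinv

theorem pc_ne_bot : pc p M ≠ ⊥ := fun e => by
  obtain ⟨x, hx, hne⟩ := c.exists_moved_core hX
  exact hne (mem_bot.1 (e ▸ c.comm_mem_pc c.zM c.z2 hx))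

/-- A Sylow `p`-subgroup of `M` is one of `G` and its `N(Z(J))` lies in `M`. -/
theorem exists_sylow_le : ∃ P : Sylow p G, (P : Subgroup G) ≤ M ∧
    normalizer (centerThompsonOf p (P : Subgroup G) : Set G) ≤ M := by
  classical
  haveI := Fact.mk c.min.prime
  haveI := c.solvable
  haveI := Fact.mk Nat.prime_two
  obtain ⟨T, hT, hPT⟩ := exists_sylIn_ge c.isPGroup_pc c.pc_le_M
  have hT1 : T ≠ ⊥ := fun e => c.pc_ne_bot hX (le_bot_iff.1 (e ▸ hPT))
  set Z : Subgroup G := centerThompsonOf p T with hZ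
  have hfun := CfsgLib.Transfer.subgroupFunctor_centerThompsonOf.{u} (p := p)
  have hZT : Z ≤ T := hfun.le G T
  have hZ1 : Z ≠ ⊥ := hfun.ne_bot G T hT.isPGroup hT1
  set N : Subgroup G := normalizer (Z : Set G) with hN
  set Q₀ : Subgroup ↥M := pPrimeCore p ↥M with hQ₀
  let T₀ : Sylow p ↥M := (hT.isPGroup.comap_subtype (K := M)).toSylow hT.not_dvd
  let π := QuotientGroup.mk' Q₀
  have hT₀ : ((T₀ : Subgroup ↥M).map M.subtype) = T := map_subgroupOf_eq_of_le hT.le
  -- `M = O_{p'}(M) N_M(Z)`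
  have hinjM : Function.Injective (M.subtype.comp (T₀ : Subgroup ↥M).subtype) :=
    M.subtype_injective.comp (T₀ : Subgroup ↥M).subtype_injective
  have hZ₀ : (centerThompsonOf p (T₀ : Subgroup ↥M)).map M.subtype = Z := by
    rw [CfsgLib.Transfer.map_centerThompsonOf M.subtype _ hinjM, hT₀]
  set Z₀ := centerThompsonOf p (T₀ : Subgroup ↥M) with hZ₀'
  have hcore : Subgroup.centralizer (pCore p (↥M ⧸ Q₀) : Set (↥M ⧸ Q₀)) ≤ pCore p (↥M ⧸ Q₀) :=
    CfsgLib.PLocal.isPConstrained_iff.1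
      (CfsgLib.PLocal.isPConstrained_of_isPSolvable CfsgLib.PLocal.isPSolvable_of_isSolvable)
  have hp3 : p = 3 → ∀ T : Sylow 2 (↥M ⧸ Q₀), IsMulCommutative T := fun e => by
    have := c.min.five; omega
  have hst := CfsgLib.Transfer.quadStable_of_not_involvesSL2 c.min.ne_two
    (CfsgLib.Transfer.not_involvesSL2_of_isSolvable (G := ↥M ⧸ Q₀) c.min.ne_two inferInstance hp3)
  set T' : Sylow p (↥M ⧸ Q₀) := T₀.mapSurjective (QuotientGroup.mk'_surjective Q₀) with hT'
  have hnorm := CfsgLib.Transfer.centerThompsonOf_normal_of_stronglyClosed c.min.ne_two hcore hst T'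
    (CfsgLib.Transfer.isStronglyClosed_self (T' : Subgroup (↥M ⧸ Q₀)))
  have hinj : Function.Injective (π.comp (T₀ : Subgroup ↥M).subtype) := by
    rw [← MonoidHom.ker_eq_bot_iff]
    refine (Subgroup.eq_bot_iff_forall _).2 fun x hx => ?_
    have hxQ : (x : ↥M) ∈ Q₀ := (QuotientGroup.eq_one_iff _).1 hx
    have := CfsgLib.Base.inf_eq_bot_of_isPGroup_of_coprime T₀.2 (CfsgLib.Base.pPrimeCore_coprime p ↥M)
    exact Subtype.ext (mem_bot.1 (this ▸ mem_inf.2 ⟨x.2, hxQ⟩))
  have hmap : Z₀.map π = centerThompsonOf p (T' : Subgroup (↥M ⧸ Q₀)) :=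
    CfsgLib.Transfer.map_centerThompsonOf π _ hinj
  rw [← hmap] at hnorm
  have htop : (normalizer (Z₀ : Set ↥M)).map π = ⊤ := by
    rw [CfsgLib.PLocal.map_normalizer_mk' Q₀ (CfsgLib.Base.pPrimeCore_coprime p ↥M)
      (T₀.2.to_le (hfun.le ↥M _)), normalizer_eq_top]
  -- so `N_M(Z)` contains a Sylow `2`-subgroup of `M`
  have hidx : Odd (normalizer (Z₀ : Set ↥M)).index := by
    have h1 : normalizer (Z₀ : Set ↥M) ⊔ Q₀ = ⊤ := by
      rw [← QuotientGroup.ker_mk' Q₀, ← comap_map_eq, htop, comap_top]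
    have hQodd : Odd (Nat.card Q₀) := by
      refine (odd_card_oC M).of_dvd_nat ?_
      rw [← card_map_of_injective M.subtype_injective]
      exact card_dvd_of_le (c.pPrimeCore_le_oC hX)
    have h2 : (normalizer (Z₀ : Set ↥M)).index ∣ Nat.card Q₀ := by
      have h3 : Nat.card ↥(normalizer (Z₀ : Set ↥M) ⊔ Q₀) ∣
          Nat.card (normalizer (Z₀ : Set ↥M)) * Nat.card Q₀ := by
        have := CfsgLib.Coprime.card_sup_mul_card_inf (H := normalizer (Z₀ : Set ↥M)) (N := Q₀)
          (le_normalizer_of_normal)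
        exact this ▸ dvd_mul_right _ _
      rw [h1, card_top, ← card_mul_index (normalizer (Z₀ : Set ↥M))] at h3
      exact Nat.dvd_of_mul_dvd_mul_left Nat.card_pos h3
    exact hQodd.of_dvd_nat h2
  have hmapN : (normalizer (Z₀ : Set ↥M)).map M.subtype ≤ N := by
    rw [hN, ← hZ₀]
    exact le_normalizer_map _
  obtain ⟨T₂, hT₂⟩ := exists_sylIn (p := 2) (G := G) ((normalizer (Z₀ : Set ↥M)).map M.subtype)
  have hT₂M : SylIn 2 T₂ M := by
    refine ⟨hT₂.le.trans (map_subtype_le _), hT₂.isPGroup, fun hd => ?_⟩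
    rw [← relIndex_mul_relIndex T₂ ((normalizer (Z₀ : Set ↥M)).map M.subtype) M hT₂.le
      (map_subtype_le _)] at hd
    rcases (Nat.prime_two.dvd_mul).1 hd with h | h
    · exact hT₂.not_dvd h
    · rw [relIndex, subgroupOf, comap_map_eq_self_of_injective M.subtype_injective] at h
      exact Nat.not_even_iff_odd.2 hidx (even_iff_two_dvd.2 h)
  obtain ⟨k, hk, hkS⟩ := hT₂M.exists_conj_eq c.sylIn
  obtain ⟨e, he, he1, hez⟩ : ∃ e ∈ e0 S M, e ≠ 1 ∧ e ≠ z := by
    by_contra hc
    push Not at hc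
    have hle : e0 S M ≤ zpowers z := fun e he => by
      by_cases he1 : e = 1
      · exact he1 ▸ one_mem _
      · exact hc e he he1 ▸ mem_zpowers z
    have := card_le_of_le hle
    rw [Nat.card_zpowers, c.z2] at this
    have := c.eight
    omega
  have hkN : ∀ s ∈ (S : Subgroup G), k * s * k⁻¹ ∈ N := fun s hs =>
    hmapN (hT₂.le (hkS ▸ conj_mem_cj.2 hs))
  have hNsol : Group.IsSolvable ↥N := c.min.solvable_normalizer hZ1
    fun e => c.se.1 (top_le_iff.1 (e ▸ hZT.trans hT.le))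
  have hNM : N ≤ M := by
    by_contra hne
    have heq := commuting_eq_of_straddle c.se hNsol hne
      (s := k * z * k⁻¹) (t := k * e * k⁻¹)
      (by rw [show k * z * k⁻¹ = MulAut.conj k z from rfl, MulEquiv.orderOf_eq, c.z2])
      (by rw [show k * e * k⁻¹ = MulAut.conj k e from rfl, MulEquiv.orderOf_eq, c.e0_invol he he1])
      (hkN z c.zS) (hkN e (c.e0_le he)) (mul_mem (mul_mem hk c.zM) (inv_mem hk))
      ((show Commute z e from (c.zc e (c.e0_le he)).symm).map (MulAut.conj k).toMonoidHom)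
    exact hez (mul_left_cancel (mul_right_cancel heq)).symm
  obtain ⟨P, hP⟩ := hT.isPGroup.exists_le_sylow
  have hPT' : (P : Subgroup G) = T := by
    by_contra hne
    have hlt : T < (P : Subgroup G) := lt_of_le_of_ne hP (Ne.symm hne)
    have h1 := lt_inf_normalizer' P.2 hlt
    have hle : (P : Subgroup G) ⊓ normalizer (T : Set G) ≤ M :=
      inf_le_right.trans ((CfsgLib.Transfer.SubgroupFunctor.normalizer_le hfun T).trans hNM)
    exact h1.ne (hT.eq_of_le (P.2.to_le inf_le_left) h1.le hle).symm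
  exact ⟨P, hPT' ▸ hT.le, by rw [hPT']; exact hNM⟩

/-- `G` has no section `SL(2,p)`. -/
theorem not_involves_SL2 : ¬ CfsgLib.OddOrder.InvolvesSL2 p G := by
  haveI := Fact.mk c.min.prime
  haveI := c.min.simple
  haveI : Fact (2 < p) := ⟨by have := c.min.five; omega⟩
  have hp3 : ∀ (H : Subgroup G), p = 3 → ∀ T : Sylow 2 ↥H, IsMulCommutative T := fun H e => by
    have := c.min.five; omega
  rintro ⟨K₀, f, hf⟩
  by_cases hK : K₀ = ⊤
  · subst hK
    have hne : (-1 : Matrix.SpecialLinearGroup (Fin 2) (ZMod p)) ≠ 1 := fun e => by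
      have h00 := congrArg (fun g : Matrix.SpecialLinearGroup (Fin 2) (ZMod p) =>
        (g : Matrix (Fin 2) (Fin 2) (ZMod p)) 0 0) e
      simp at h00
      exact ZMod.neg_one_ne_one h00
    obtain ⟨x, hx⟩ := hf (-1)
    let g : G →* Matrix.SpecialLinearGroup (Fin 2) (ZMod p) :=
      f.comp Subgroup.topEquiv.symm.toMonoidHom
    rcases (inferInstance : g.ker.Normal).eq_bot_or_eq_top with hk | hk
    · have hinj := (MonoidHom.ker_eq_bot_iff g).1 hk
      have hgx : g (x : G) = -1 := hx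
      refine hne ?_
      have hc : (x : G) ∈ center G := mem_center_iff.2 fun y => hinj (by
        rw [map_mul, map_mul, hgx, mul_neg, mul_one, neg_mul, one_mul])
      rw [c.min.center_eq_bot, mem_bot] at hc
      rw [← hgx, hc, map_one]
    · refine hne (hx.symm.trans ?_)
      have : g (x : G) = 1 := MonoidHom.mem_ker.1 (by rw [hk]; exact mem_top _)
      exact this
  · exact CfsgLib.Transfer.not_involvesSL2_of_isSolvable (G := ↥K₀) c.min.ne_two
      (c.min.proper K₀ hK) (hp3 K₀) ⟨⊤, f.comp Subgroup.topEquiv.toMonoidHom,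
        by rw [MonoidHom.coe_comp]; exact hf.comp Subgroup.topEquiv.surjective⟩

/-- An element of `M` inverted by an involution outside `M` lies in `P` and is inverted by an
involution of `M`. -/
theorem inverted_mem_pc {u y : G} (hu : orderOf u = 2) (huM : u ∉ M) (hy : y ∈ M)
    (hyu : u * y * u⁻¹ = y⁻¹) :
    ∃ a ∈ M, orderOf a = 2 ∧ a * y * a⁻¹ = y⁻¹ ∧ y ∈ pc p M := by
  classical
  haveI := Fact.mk c.min.prime
  rcases eq_or_ne y 1 with rfl | hy1
  · exact ⟨z, c.zM, c.z2, by simp, one_mem _⟩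
  have hui : u⁻¹ = u := inv_eq_of_mul_eq_one_left (by rw [← sq, ← hu]; exact pow_orderOf_eq_one u)
  have hyD : y ∈ M ⊓ cj u M := by
    refine mem_inf.2 ⟨hy, mem_cj.2 ?_⟩
    have := M.inv_mem hy
    rw [← hyu, hui] at this
    rwa [hui]
  have hodd : Odd (orderOf y) :=
    (c.se.2.2 u huM).of_dvd_nat (Subgroup.orderOf_dvd_natCard _ hyD)
  have hYp : IsPGroup p ↥(zpowers y) := by
    rintro ⟨b, hb⟩
    obtain ⟨i, rfl⟩ := mem_zpowers_iff.1 hb
    refine ⟨(orderOf y).factorization p, Subtype.ext ?_⟩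
    show (y ^ i) ^ (p ^ (orderOf y).factorization p) = 1
    rw [← zpow_natCast, zpow_comm, zpow_natCast, c.min.pow_eq_one_of_inverted hodd hu hyu,
      one_zpow]
  obtain ⟨P, hPM, hNM⟩ := c.exists_sylow_le hX
  obtain ⟨g, hg, hgP⟩ := (sylIn_of_le P hPM).exists_conj hYp (zpowers_le.2 hy)
  have hy' : g * y * g⁻¹ ∈ (P : Subgroup G) := cj_le_iff.1 hgP _ (mem_zpowers y)
  -- fusion gives an inverting element in `M`
  obtain ⟨n, hn, hn'⟩ := CfsgLib.Transfer.controlsFusion_centerThompsonOf c.min.ne_two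
    (c.not_involves_SL2 hX) P {g * y * g⁻¹} (Set.singleton_subset_iff.2 hy') (g * u * g⁻¹)
    (fun b hb => by
      rw [Set.mem_singleton_iff] at hb
      subst hb
      have : (g * u * g⁻¹)⁻¹ * (g * y * g⁻¹) * (g * u * g⁻¹) = (g * y * g⁻¹)⁻¹ := by
        calc _ = g * (u⁻¹ * y * u⁻¹⁻¹) * g⁻¹ := by group
          _ = g * y⁻¹ * g⁻¹ := by rw [inv_inv]; nth_rw 1 [hui]; nth_rw 1 [← hui]; rw [hui] ; rw [← hyu, hui]
          _ = _ := by group
      rw [this]
      exact inv_mem hy')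
  set m := g⁻¹ * n⁻¹ * g with hm
  have hmM : m ∈ M := mul_mem (mul_mem (inv_mem hg) (inv_mem (hNM hn))) hg
  have hmy : m * y * m⁻¹ = y⁻¹ := by
    have h := hn' _ rfl
    calc m * y * m⁻¹ = g⁻¹ * (n⁻¹ * (g * y * g⁻¹) * n) * g := by rw [hm]; group
      _ = g⁻¹ * ((g * u * g⁻¹)⁻¹ * (g * y * g⁻¹) * (g * u * g⁻¹)) * g := by rw [h]
      _ = u⁻¹ * y * u⁻¹⁻¹ := by group
      _ = _ := by rw [hui]; exact hyu
  -- its `2`-part
  set m₁ := m ^ (orderOf m / 2 ^ (orderOf m).factorization 2) with hm₁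
  have hodd' : Odd (orderOf m / 2 ^ (orderOf m).factorization 2) :=
    Nat.not_even_iff_odd.1 fun he =>
      Nat.not_dvd_ordCompl Nat.prime_two (orderOf_pos m).ne' (even_iff_two_dvd.1 he)
  have hpow : ∀ j : ℕ, (Even j → m ^ j * y * (m ^ j)⁻¹ = y) ∧
      (Odd j → m ^ j * y * (m ^ j)⁻¹ = y⁻¹) := by
    intro j
    induction j with
    | zero => exact ⟨fun _ => by simp, fun h => absurd h (by decide)⟩
    | succ j ih =>
      have e : m ^ (j + 1) * y * (m ^ (j + 1))⁻¹ = m * (m ^ j * y * (m ^ j)⁻¹) * m⁻¹ := by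
        rw [pow_succ']; group
      refine ⟨fun hj => ?_, fun hj => ?_⟩
      · rw [e, ih.2 (by rwa [Nat.even_add_one, Nat.not_even_iff_odd] at hj), ← conj_inv, hmy,
          inv_inv]
      · rw [e, ih.1 (by rwa [Nat.odd_add_one, Nat.not_odd_iff_even] at hj), hmy]
  have hm₁y : m₁ * y * m₁⁻¹ = y⁻¹ := (hpow _).2 hodd'
  have hy_ne : y⁻¹ ≠ y := fun e => hy1 (eq_inv_odd hodd e.symm)
  have hord : orderOf m₁ = 2 ^ (orderOf m).factorization 2 := by
    rw [hm₁, orderOf_pow, Nat.gcd_eq_right (Nat.ordCompl_dvd _ _)]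
    exact Nat.div_div_self (Nat.ordProj_dvd _ 2) (orderOf_pos m).ne'
  have hone : (orderOf m).factorization 2 = 1 := by
    rcases hk : (orderOf m).factorization 2 with _ | _ | k
    · rw [hk, pow_zero, orderOf_eq_one_iff] at hord
      rw [hord, one_mul, inv_one, mul_one] at hm₁y
      exact absurd hm₁y.symm hy_ne
    · rfl
    · exfalso
      set s := m₁ ^ (2 ^ (k + 1)) with hs
      have hs2 : orderOf s = 2 := by
        rw [hs, orderOf_pow, hord, hk, Nat.gcd_eq_right (pow_dvd_pow 2 (Nat.le_succ _)),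
          Nat.pow_div (Nat.le_succ _) two_pos]
        simp
      refine c.not_commute hu huM hy hy1 hyu hs2 (pow_mem (pow_mem hmM _) _) ?_
      have := (hpow ((orderOf m / 2 ^ (orderOf m).factorization 2) * 2 ^ (k + 1))).1
        (by rw [pow_succ, ← mul_assoc]; exact even_two.mul_left _)
      rw [pow_mul] at this
      exact mul_inv_eq_iff_eq_mul.1 this
  rw [hone, pow_one] at hord
  have ha : m₁ ∈ M := pow_mem hmM _
  refine ⟨m₁, ha, hord, hm₁y, ?_⟩
  -- `y ∈ O(M)`
  have hyX : y ∈ oC M := by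
    obtain ⟨x, hx, e, he, -, hxe⟩ := c.exists_core_conj ha hord
    have he2 := c.e0_sq he
    have heM := c.e0_le_M he
    have hxM := oC_le M hx
    -- `m₁ ≡ e` and `y m₁ y⁻¹ = y² m₁ ≡ e'` modulo `O(M)`
    have h1 : y * y * m₁ = y * m₁ * y⁻¹ := by
      have h0 : m₁ * y⁻¹ * m₁⁻¹ = y := by rw [← conj_inv, hm₁y, inv_inv]
      calc y * y * m₁ = y * (m₁ * y⁻¹ * m₁⁻¹) * m₁ := by rw [h0]
        _ = _ := by group
    have hconj : orderOf (y * m₁ * y⁻¹) = 2 := by
      rw [show y * m₁ * y⁻¹ = MulAut.conj y m₁ from rfl, MulEquiv.orderOf_eq, hord]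
    obtain ⟨x', hx', e', he', -, hxe'⟩ :=
      c.exists_core_conj (mul_mem (mul_mem hy ha) (inv_mem hy)) hconj
    have hmod : ∀ x ∈ oC M, ∀ e ∈ e0 S M, ∃ o ∈ oC M, x * e * x⁻¹ = o * e := by
      intro x hx e he
      refine ⟨x * (e * x⁻¹ * e⁻¹), (oC M).mul_mem hx
        (c.le_normalizer_oC_conj (c.e0_le_M he) ((oC M).inv_mem hx)), by group⟩
    obtain ⟨o, ho, hoe⟩ := hmod x hx e he
    obtain ⟨o', ho', hoe'⟩ := hmod x' hx' e' he'
    rw [hoe] at hxe
    rw [hoe'] at hxe'
    have hei : e⁻¹ = e := inv_eq_of_mul_eq_one_left he2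
    have hyy : y * y = o' * ((e' * e) * o⁻¹ * (e' * e)⁻¹) * (e' * e) := by
      calc y * y = y * y * m₁ * m₁⁻¹ := by group
        _ = o' * e' * (o * e)⁻¹ := by rw [h1, ← hxe', ← hxe]
        _ = _ := by rw [mul_inv_rev, hei]; group
    have hsq : (e' * e) * (e' * e) = 1 := c.e0_sq (mul_mem he' he)
    have hmem : o' * ((e' * e) * o⁻¹ * (e' * e)⁻¹) ∈ oC M := (oC M).mul_mem ho'
      (c.le_normalizer_oC_conj (c.e0_le_M (mul_mem he' he)) ((oC M).inv_mem ho))
    set d := o' * ((e' * e) * o⁻¹ * (e' * e)⁻¹) with hd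
    have h4 : (y * y) * (y * y) ∈ oC M := by
      rw [hyy]
      have h5 : d * ((e' * e) * d * (e' * e)⁻¹) ∈ oC M :=
        (oC M).mul_mem hmem (c.le_normalizer_oC_conj (c.e0_le_M (mul_mem he' he)) hmem)
      have h6 : d * (e' * e) * (d * (e' * e)) = d * ((e' * e) * d * (e' * e)⁻¹) := by
        rw [inv_eq_of_mul_eq_one_left hsq]; group
      rw [h6]
      exact h5
    exact mem_of_sq_mem hodd (mem_of_sq_mem (by rw [← sq]; exact hodd.of_dvd_nat (orderOf_pow_dvd 2)) h4)
  have h := c.comm_mem_pc ha hord hyX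
  refine mem_of_sq_mem hodd ?_
  have e : y⁻¹ * m₁ * y * m₁⁻¹ = y⁻¹ * y⁻¹ := by
    calc y⁻¹ * m₁ * y * m₁⁻¹ = y⁻¹ * (m₁ * y * m₁⁻¹) := by group
      _ = _ := by rw [hm₁y]
  rw [e, ← mul_inv_rev] at h
  exact inv_mem_iff.1 h

theorem false_of_moving : False := by
  classical
  haveI := Fact.mk c.min.prime
  haveI := Fact.mk Nat.prime_two
  obtain ⟨u, huM, hu⟩ := c.exists_outside
  have huu : u * u = 1 := by rw [← sq, ← hu]; exact pow_orderOf_eq_one u
  have hui : u⁻¹ = u := inv_eq_of_mul_eq_one_left huu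
  let J : Subgroup G → Type u := fun X' => {j : G // j ∈ X' ∧ u * j * u⁻¹ = j⁻¹}
  suffices key : ∀ (n : ℕ) (X' : Subgroup G), X' ≤ pc p M → M ≤ normalizer (X' : Set G) →
      Nat.card X' ≤ n →
      Nat.card (J X') * Nat.card ↥(X' ⊓ centralizer ({z} : Set G)) ≤ Nat.card X' by
    have h := key _ (pc p M) le_rfl (le_normalizer_pc p M) le_rfl
    have hJ : Nat.card (J (pc p M)) = Nat.card {d : G // d ∈ M ∧ u * d * u⁻¹ = d⁻¹} :=
      Nat.card_congr (Equiv.subtypeEquivRight fun d => ⟨fun hd => ⟨c.pc_le_M hd.1, hd.2⟩,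
        fun hd => by
          obtain ⟨-, -, -, -, hd'⟩ := c.inverted_mem_pc hX hu huM hd.1 hd.2
          exact ⟨hd', hd.2⟩⟩)
    rw [hJ, c.card_inverted hu huM, c.card_invol, c.card_sub_eq, c.card_orbit_pc, mul_assoc,
      card_orbit_mul] at h
    have h2 := c.min.prime.two_le
    have hpos : 0 < Nat.card (pc p M) := Nat.card_pos
    nlinarith
  intro n
  induction n with
  | zero => intro X' _ _ h; exact absurd h (not_le.2 Nat.card_pos)
  | succ n ih =>
    intro X' hX'P hX'M hcard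
    rcases eq_or_ne X' ⊥ with rfl | hne
    · have h1 : Nat.card (J ⊥) ≤ 1 := Finite.card_le_one_iff_subsingleton.2
        ⟨fun a b => Subtype.ext ((mem_bot.1 a.2.1).trans (mem_bot.1 b.2.1).symm)⟩
      rw [bot_inf_eq, card_bot, mul_one]
      exact h1
    set P := pc p M with hP
    set X'' : Subgroup G := ⁅X', P⁆ with hX''
    have hPn : P ≤ normalizer (X' : Set G) := c.pc_le_M.trans hX'M
    have hle : X'' ≤ X' := commutator_le.2 fun a ha b hb => by
      have := X'.mul_mem ha ((mem_set_normalizer_iff.1 (hPn hb) _).1 (X'.inv_mem ha))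
      simpa [commutatorElement_def, mul_assoc] using this
    have hlt : X'' < X' := lt_of_le_of_ne hle fun e =>
      hne (CfsgLib.LocalEven.CommutatorAB.eq_bot_of_le_commutator c.isPGroup_pc hX'P e.ge)
    have hX''M : M ≤ normalizer (X'' : Set G) := by
      intro m hm
      rw [mem_normalizer_iff_cj, hX'', cj_commutator, mem_normalizer_iff_cj.1 (hX'M hm),
        mem_normalizer_iff_cj.1 (le_normalizer_pc p M hm)]
    have hIH := ih X'' (hle.trans hX'P) hX''M (by have := card_lt_of_lt hlt; omega)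
    -- the abelian section
    set N₀ : Subgroup ↥X' := X''.subgroupOf X' with hN₀
    haveI : N₀.Normal := (normal_subgroupOf_iff_le_normalizer hle).2
      ((hX'P.trans c.pc_le_M).trans hX''M)
    let π := QuotientGroup.mk' N₀
    have hcomm : ∀ a b : ↥X' ⧸ N₀, a * b = b * a := by
      intro a b
      obtain ⟨a, rfl⟩ := QuotientGroup.mk'_surjective N₀ a
      obtain ⟨b, rfl⟩ := QuotientGroup.mk'_surjective N₀ b
      rw [← map_mul, ← map_mul]
      refine (QuotientGroup.eq.2 ?_)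
      rw [mem_subgroupOf]
      have h : ⁅(b : G)⁻¹, (a : G)⁻¹⁆ ∈ X'' :=
        commutator_mem_commutator (X'.inv_mem b.2) (P.inv_mem (hX'P a.2))
      have h' : (((a * b)⁻¹ * (b * a) : ↥X') : G) = ⁅(b : G)⁻¹, (a : G)⁻¹⁆ := by
        simp [commutatorElement_def, mul_assoc]
      rw [h']; exact h
    -- the elements that `u` keeps in `X'`
    set U : Subgroup G := X' ⊓ cj u X' with hU
    have huU : u ∈ normalizer (U : Set G) := by
      rw [mem_normalizer_iff_cj, hU, cj_inf, ← cj_mul, huu, inf_comm]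
      congr 1
      exact cj_eq_self_of_mem (one_mem X')
    have hUodd : Odd (Nat.card U) := (odd_card_oC M).of_dvd_nat
      (card_dvd_of_le (inf_le_left.trans (hX'P.trans (pc_le p M))))
    have hφm : ∀ d : U, (d : G)⁻¹ * (u * d * u⁻¹) ∈ X' := fun d => X'.mul_mem
      (X'.inv_mem (inf_le_left (a := X') d.2))
      (inf_le_left (a := X') ((mem_set_normalizer_iff.1 huU _).1 d.2))
    let φ : ↥U →* ↥X' ⧸ N₀ := MonoidHom.mk' (fun d => π ⟨_, hφm d⟩) fun d d' => by
      have h1 : (⟨_, hφm (d * d')⟩ : ↥X') = (⟨d', inf_le_left (a := X') d'.2⟩ : ↥X')⁻¹ *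
          ⟨_, hφm d⟩ * ⟨u * d' * u⁻¹, inf_le_left (a := X') ((mem_set_normalizer_iff.1 huU _).1 d'.2)⟩ :=
        Subtype.ext (by simp only [coe_mul, coe_inv]; group)
      rw [h1, map_mul π, map_mul π, map_inv π, hcomm (π _)⁻¹ (π ⟨_, hφm d⟩), mul_assoc, ← map_inv π,
        ← map_mul π]
      rfl
    -- `|J ∩ X'| ≤ |J ∩ X''| |im φ|`
    have hJU : ∀ j : J X', (j.1 : G) ∈ U := fun ⟨j, h1, h2⟩ => mem_inf.2 ⟨h1, mem_cj.2 (by
      have := X'.inv_mem h1
      rw [← h2, hui] at this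
      show u⁻¹ * j * u ∈ X'
      rwa [hui])⟩
    have hsqrt : ∀ j : J X', ∃ d : U, (d : G)⁻¹ * (u * d * u⁻¹) = j.1 := by
      intro j
      obtain ⟨k, hk⟩ := CfsgLib.Involutions.exists_zpow_sq_eq (a := j.1)
        (hUodd.of_dvd_nat (Subgroup.orderOf_dvd_natCard _ (hJU j)))
      refine ⟨⟨(j.1 ^ k)⁻¹, U.inv_mem (U.zpow_mem (hJU j) k)⟩, ?_⟩
      show ((j.1 ^ k)⁻¹)⁻¹ * (u * (j.1 ^ k)⁻¹ * u⁻¹) = j.1
      rw [inv_inv, ← conj_inv, ← conj_zpow, j.2.2, inv_zpow, inv_inv, ← sq, hk]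
    have hJcard : Nat.card (J X') * Nat.card ↥(U ⊓ centralizer ({u} : Set G)) = Nat.card U := by
      have := CfsgLib.Involutions.ZStar.card_inverted hu U hUodd huU
      have e : Nat.card (J X') = Nat.card {x : G // x ∈ U ∧ u * x * u⁻¹ = x⁻¹} :=
        Nat.card_congr (Equiv.subtypeEquivRight fun x => ⟨fun hx => ⟨hJU ⟨x, hx⟩, hx.2⟩,
          fun hx => ⟨inf_le_left (a := X') hx.1, hx.2⟩⟩)
      rw [e, ← this, mul_comm, relIndex,
        ← Nat.card_congr (subgroupOfEquivOfLe (inf_le_left : U ⊓ centralizer ({u} : Set G) ≤ U)).toEquiv]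
      exact card_mul_index _
    have hker : Nat.card (J X'') * Nat.card ↥(U ⊓ centralizer ({u} : Set G)) = Nat.card φ.ker := by
      rw [← Nat.card_prod]
      choose sq hsq using hsqrt
      let lift : J X'' → J X' := fun j => ⟨j.1, hle j.2.1, j.2.2⟩
      have hmem : ∀ q : J X'' × ↥(U ⊓ centralizer ({u} : Set G)),
          (⟨(q.2 : G) * (sq (lift q.1) : G), U.mul_mem q.2.2.1 (sq (lift q.1)).2⟩ : U) ∈ φ.ker := by
        rintro ⟨j, ⟨w, hwU, hwC⟩⟩
        refine MonoidHom.mem_ker.2 ((QuotientGroup.eq_one_iff _).2 (mem_subgroupOf.2 ?_))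
        show (w * (sq (lift j) : G))⁻¹ * (u * (w * (sq (lift j) : G)) * u⁻¹) ∈ X''
        have hw : u * w * u⁻¹ = w := by
          rw [← mem_centralizer_singleton_iff.1 hwC, mul_inv_cancel_right]
        have : (w * (sq (lift j) : G))⁻¹ * (u * (w * (sq (lift j) : G)) * u⁻¹) = j.1 := by
          calc _ = (sq (lift j) : G)⁻¹ * (w⁻¹ * (u * w * u⁻¹)) *
              (u * (sq (lift j) : G) * u⁻¹) := by group
            _ = _ := by rw [hw, inv_mul_cancel, mul_one]; exact hsq (lift j)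
        rw [this]
        exact j.2.1
      refine Nat.card_congr (Equiv.ofBijective (fun q => ⟨_, hmem q⟩) ⟨?_, ?_⟩)
      · rintro ⟨j, w, hw⟩ ⟨j', w', hw'⟩ e
        have e' : w * (sq (lift j) : G) = w' * (sq (lift j') : G) :=
          congrArg Subtype.val (congrArg Subtype.val e)
        have hval : ∀ (w : G) (j : J X''), w ∈ U ⊓ centralizer ({u} : Set G) →
            (w * (sq (lift j) : G))⁻¹ * (u * (w * (sq (lift j) : G)) * u⁻¹) = j.1 := by
          intro w j hw
          have hw' : u * w * u⁻¹ = w := by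
            rw [← mem_centralizer_singleton_iff.1 hw.2, mul_inv_cancel_right]
          calc _ = (sq (lift j) : G)⁻¹ * (w⁻¹ * (u * w * u⁻¹)) *
              (u * (sq (lift j) : G) * u⁻¹) := by group
            _ = _ := by rw [hw', inv_mul_cancel, mul_one]; exact hsq (lift j)
        have hj : j = j' := Subtype.ext ((hval w j hw).symm.trans (e' ▸ hval w' j' hw'))
        subst hj
        exact Prod.ext rfl (Subtype.ext (mul_right_cancel e'))
      · rintro ⟨⟨d, hd⟩, hdk⟩
        have hd'' : d⁻¹ * (u * d * u⁻¹) ∈ X'' :=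
          mem_subgroupOf.1 ((QuotientGroup.eq_one_iff _).1 hdk)
        set j : J X'' := ⟨_, hd'', by
          calc u * (d⁻¹ * (u * d * u⁻¹)) * u⁻¹ = (u * d * u⁻¹)⁻¹ * ((u * u) * d * (u * u)⁻¹) := by group
            _ = _ := by rw [huu]; group⟩ with hj
        set r : G := (sq (lift j) : G) with hr
        have hrj : r⁻¹ * (u * r * u⁻¹) = d⁻¹ * (u * d * u⁻¹) := hsq (lift j)
        have hwC : d * r⁻¹ ∈ centralizer ({u} : Set G) := by
          rw [mem_centralizer_singleton_iff]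
          calc d * r⁻¹ * u = d * (r⁻¹ * (u * r * u⁻¹)) * u * r⁻¹ * u⁻¹ * u := by group
            _ = d * (d⁻¹ * (u * d * u⁻¹)) * u * r⁻¹ * u⁻¹ * u := by rw [hrj]
            _ = _ := by group
        refine ⟨(j, ⟨d * r⁻¹, mem_inf.2 ⟨U.mul_mem hd (U.inv_mem (sq (lift j)).2), hwC⟩⟩),
          Subtype.ext (Subtype.ext ?_)⟩
        show d * r⁻¹ * r = d
        group
    have hJle : Nat.card (J X') ≤ Nat.card (J X'') * Nat.card φ.range := by
      have hU' : Nat.card U = Nat.card φ.ker * Nat.card φ.range := by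
        rw [← φ.ker.card_mul_index, index_ker]
      rw [← hJcard, ← hker] at hU'
      have hpos : 0 < Nat.card ↥(U ⊓ centralizer ({u} : Set G)) := Nat.card_pos
      exact le_of_eq (Nat.eq_of_mul_eq_mul_right hpos (by rw [hU']; ring))
    -- each element of the image is inverted by an element of `E₀`
    let I : {e : G // e ∈ e0 S M ∧ e ≠ 1} → Subgroup (↥X' ⧸ N₀) := fun e =>
      { carrier := {v | ∃ d : ↥X', π d = v ∧ (d : G) * (e.1 * d * e.1⁻¹) ∈ X''}
        one_mem' := ⟨1, map_one π, by simp⟩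
        mul_mem' := by
          rintro _ _ ⟨a, rfl, ha⟩ ⟨b, rfl, hb⟩
          refine ⟨a * b, map_mul π a b, ?_⟩
          have hea : e.1 * (a : G) * e.1⁻¹ ∈ X' :=
            (mem_set_normalizer_iff.1 (hX'M (c.e0_le_M e.2.1)) _).1 a.2
          have heb : e.1 * (b : G) * e.1⁻¹ ∈ X' :=
            (mem_set_normalizer_iff.1 (hX'M (c.e0_le_M e.2.1)) _).1 b.2
          have e1 : π ((a * b) * (⟨_, hea⟩ * ⟨_, heb⟩)) = 1 := by
            rw [map_mul π, map_mul π, map_mul π, mul_assoc, ← mul_assoc (π b),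
              hcomm (π b) (π ⟨_, hea⟩), mul_assoc, ← mul_assoc (π a), ← map_mul π a,
              ← map_mul π b, show π (a * ⟨_, hea⟩) = 1 from (QuotientGroup.eq_one_iff _).2
                (mem_subgroupOf.2 ha),
              show π (b * ⟨_, heb⟩) = 1 from (QuotientGroup.eq_one_iff _).2 (mem_subgroupOf.2 hb),
              mul_one]
          have := mem_subgroupOf.1 ((QuotientGroup.eq_one_iff _).1 e1)
          simp only [coe_mul] at this ⊢
          rwa [conj_mul] at this
        inv_mem' := by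
          rintro _ ⟨a, rfl, ha⟩
          refine ⟨a⁻¹, map_inv π a, ?_⟩
          have hea : e.1 * (a : G) * e.1⁻¹ ∈ X' :=
            (mem_set_normalizer_iff.1 (hX'M (c.e0_le_M e.2.1)) _).1 a.2
          have e1 : π (a⁻¹ * (⟨_, hea⟩ : ↥X')⁻¹) = 1 := by
            rw [← mul_inv_rev, map_inv, inv_eq_one, map_mul, hcomm, ← map_mul]
            exact (QuotientGroup.eq_one_iff _).2 (mem_subgroupOf.2 ha)
          have := mem_subgroupOf.1 ((QuotientGroup.eq_one_iff _).1 e1)
          simp only [coe_mul, coe_inv] at this ⊢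
          rwa [conj_inv] at this }
    have hcover : ∀ v ∈ φ.range, v ≠ 1 → ∃ e, v ∈ I e := by
      rintro _ ⟨d, rfl⟩ hv
      set j : G := (d : G)⁻¹ * (u * d * u⁻¹) with hj
      have hju : u * j * u⁻¹ = j⁻¹ := by
        calc u * ((d : G)⁻¹ * (u * d * u⁻¹)) * u⁻¹
            = (u * (d : G) * u⁻¹)⁻¹ * ((u * u) * d * (u * u)⁻¹) := by group
          _ = _ := by rw [huu, hj]; group
      obtain ⟨a, ha, ha2, haj, -⟩ :=
        c.inverted_mem_pc hX hu huM (c.pc_le_M (hX'P (hφm d))) hju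
      change a * j * a⁻¹ = j⁻¹ at haj
      obtain ⟨x, hx, e, he, he1, hxe⟩ := c.exists_core_conj ha ha2
      obtain ⟨π₀, hπ₀, hπe⟩ := c.exists_pc_conj (c.e0_le_M he) (c.e0_invol he he1) hx
      refine ⟨⟨e, he, he1⟩, ⟨j, hφm d⟩, rfl, ?_⟩
      have hei : e⁻¹ = e := inv_eq_of_mul_eq_one_left (c.e0_sq he)
      -- `π₀⁻¹ j π₀` is inverted by `e`
      set j' := π₀⁻¹ * j * π₀ with hj'
      have hej : e * j' * e⁻¹ = j'⁻¹ := by
        have : a = π₀ * e * π₀⁻¹ := hxe.symm.trans hπe.symm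
        calc e * j' * e⁻¹ = π₀⁻¹ * (a * j * a⁻¹) * π₀ := by rw [hj', this]; group
          _ = _ := by rw [haj, hj']; group
      have hk : j * j'⁻¹ ∈ X'' := by
        have h := commutator_mem_commutator (hφm d) (P.inv_mem hπ₀)
        rw [← hX''] at h
        have h2 : j * j'⁻¹ = ⁅j, π₀⁻¹⁆ := by
          rw [hj', commutatorElement_def]; group
        rwa [h2]
      have he'' : e * (j * j'⁻¹) * e⁻¹ ∈ X'' :=
        (mem_set_normalizer_iff.1 (hX''M (c.e0_le_M he)) _).1 hk
      have h3 : j * (e * j * e⁻¹) = j * (e * (j * j'⁻¹) * e⁻¹) * j⁻¹ * (j * (e * j' * e⁻¹)) := by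
        group
      show j * (e * j * e⁻¹) ∈ X''
      rw [h3, hej]
      exact X''.mul_mem ((mem_set_normalizer_iff.1 (hX''M (c.pc_le_M (hX'P (hφm d)))) _).1 he'') hk
    obtain ⟨e, hWI⟩ : ∃ e, φ.range ≤ I e := by
      by_contra hc
      push Not at hc
      set W := φ.range with hW
      have hWp : IsPGroup p ↥W := by
        have h1 : IsPGroup p ↥U := c.isPGroup_pc.to_le (inf_le_left.trans hX'P)
        exact h1.of_surjective φ.rangeRestrict φ.rangeRestrict_surjective
      obtain ⟨w, hw⟩ := IsPGroup.iff_card.1 hWp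
      haveI : Fintype (↥X' ⧸ N₀) := Fintype.ofFinite _
      haveI : Fintype {e : G // e ∈ e0 S M ∧ e ≠ 1} := Fintype.ofFinite _
      have hlt : ∀ e, p * Nat.card ↥(W ⊓ I e) ≤ Nat.card W := by
        intro e
        obtain ⟨i, hiw, hi⟩ := (Nat.dvd_prime_pow c.min.prime).1
          (hw ▸ card_dvd_of_le (inf_le_left : W ⊓ I e ≤ W))
        have hne : Nat.card ↥(W ⊓ I e) ≠ Nat.card W := fun h => hc e
          (inf_eq_left.1 (eq_of_le_of_card_ge inf_le_left h.ge))
        rw [hi, hw] at hne ⊢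
        rw [← pow_succ']
        exact Nat.pow_le_pow_right c.min.prime.pos
          (lt_of_le_of_ne hiw fun h => hne (by rw [h]))
      let F : Subgroup (↥X' ⧸ N₀) → Finset (↥X' ⧸ N₀) := fun K => Finset.univ.filter (· ∈ K)
      have hF : ∀ K, (F K).card = Nat.card K := fun K => by
        rw [Nat.card_eq_fintype_card, Fintype.card_subtype]
      have hsub : (F W).erase 1 ⊆ Finset.univ.biUnion (fun e => (F (W ⊓ I e)).erase 1) := by
        intro v hv
        rw [Finset.mem_erase, Finset.mem_filter] at hv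
        obtain ⟨e, he⟩ := hcover v hv.2.2 hv.1
        simp only [Finset.mem_biUnion, Finset.mem_univ, true_and, Finset.mem_erase, F,
          Finset.mem_filter]
        exact ⟨e, hv.1, hv.2.2, he⟩
      have h1 := (Finset.card_le_card hsub).trans Finset.card_biUnion_le
      have hone : ∀ K, ((F K).erase 1).card = Nat.card K - 1 := fun K => by
        rw [Finset.card_erase_of_mem (by simp [F]), hF]
      rw [hone, Finset.sum_congr rfl (fun e _ => hone (W ⊓ I e))] at h1
      have h2 : p * (Nat.card W - 1) ≤ Nat.card {e : G // e ∈ e0 S M ∧ e ≠ 1} * (Nat.card W - p) := by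
        refine (Nat.mul_le_mul_left p h1).trans ?_
        rw [Finset.mul_sum, Nat.card_eq_fintype_card, ← Finset.card_univ, ← smul_eq_mul,
          ← Finset.sum_const]
        refine Finset.sum_le_sum fun e _ => ?_
        rw [Nat.mul_sub, mul_one]
        have := hlt e
        omega
      rw [c.card_sub_eq] at h2
      have h3 := Nat.le_of_mul_le_mul_left h2 c.min.prime.pos
      have h4 := hlt ⟨z, c.zE, c.z1⟩
      have h5 : 1 ≤ Nat.card ↥(W ⊓ I ⟨z, c.zE, c.z1⟩) := Nat.card_pos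
      have h6 : p * 1 ≤ p * Nat.card ↥(W ⊓ I ⟨z, c.zE, c.z1⟩) := Nat.mul_le_mul_left p h5
      have := c.min.prime.two_le
      omega
    -- the fixed points of `e` meet the inverted elements trivially
    set Cz : Subgroup G := X' ⊓ centralizer ({e.1} : Set G) with hCz
    have heq : ∀ Y : Subgroup G, M ≤ normalizer (Y : Set G) →
        Nat.card ↥(Y ⊓ centralizer ({z} : Set G)) = Nat.card ↥(Y ⊓ centralizer ({e.1} : Set G)) := by
      intro Y hY
      obtain ⟨k, hk, hkz⟩ := c.exists_normalizer_conj e.2.1 e.2.2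
      rw [← card_cj k (Y ⊓ centralizer ({z} : Set G)), cj_inf, mem_normalizer_iff_cj.1 (hY hk.1)]
      refine congrArg (fun X : Subgroup G => Nat.card ↥(Y ⊓ X)) ?_
      ext x
      rw [mem_cj, mem_centralizer_singleton_iff, mem_centralizer_singleton_iff, ← hkz]
      constructor
      · intro h
        calc x * (k * z * k⁻¹) = k * ((k⁻¹ * x * k) * z) * k⁻¹ := by group
          _ = k * (z * (k⁻¹ * x * k)) * k⁻¹ := by rw [h]
          _ = _ := by group
      · intro h
        calc k⁻¹ * x * k * z = k⁻¹ * (x * (k * z * k⁻¹)) * k := by group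
          _ = k⁻¹ * (k * z * k⁻¹ * x) * k := by rw [h]
          _ = _ := by group
    set CV : Subgroup (↥X' ⧸ N₀) := (Cz.subgroupOf X').map π with hCV
    have hdisj : φ.range ⊓ CV = ⊥ := by
      refine (Subgroup.eq_bot_iff_forall _).2 fun v hv => ?_
      obtain ⟨a, haπ, ha⟩ := hWI hv.1
      obtain ⟨b, hb, hbπ⟩ := hv.2
      have hb' : e.1 * (b : G) * e.1⁻¹ = b := by
        rw [← mem_centralizer_singleton_iff.1 (mem_subgroupOf.1 hb).2, mul_inv_cancel_right]
      have hab : (a : G)⁻¹ * b ∈ X'' := mem_subgroupOf.1 (QuotientGroup.eq.1 (haπ.trans hbπ.symm))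
      have heab : e.1 * ((a : G)⁻¹ * b) * e.1⁻¹ ∈ X'' :=
        (mem_set_normalizer_iff.1 (hX''M (c.e0_le_M e.2.1)) _).1 hab
      have haa : (a : G) * a ∈ X'' := by
        have hba : (b : G)⁻¹ * a ∈ X'' := by simpa using X''.inv_mem hab
        have h1 : (a : G) * b ∈ X'' := by
          have := X''.mul_mem ha heab
          rw [← conj_mul, hb'] at this
          simpa [mul_assoc] using this
        have := X''.mul_mem h1 hba
        simpa [mul_assoc] using this
      have : (a : G) ∈ X'' := mem_of_sq_mem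
        ((odd_card_oC M).of_dvd_nat (Subgroup.orderOf_dvd_natCard _ (pc_le p M (hX'P a.2)))) haa
      rw [← haπ]
      exact (QuotientGroup.eq_one_iff a).2 (mem_subgroupOf.2 this)
    have hprod : Nat.card φ.range * Nat.card CV ≤ Nat.card (↥X' ⧸ N₀) := by
      rw [← Nat.card_prod]
      refine Nat.card_le_card_of_injective
        (fun q : φ.range × CV => (q.1 : ↥X' ⧸ N₀) * q.2) ?_
      rintro ⟨⟨a, ha⟩, ⟨b, hb⟩⟩ ⟨⟨a', ha'⟩, ⟨b', hb'⟩⟩ h
      change a * b = a' * b' at h
      have hmem : a'⁻¹ * a ∈ φ.range ⊓ CV := by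
        refine mem_inf.2 ⟨φ.range.mul_mem (φ.range.inv_mem ha') ha, ?_⟩
        have : a'⁻¹ * a = b' * b⁻¹ := by
          calc a'⁻¹ * a = a'⁻¹ * (a * b) * b⁻¹ := by group
            _ = a'⁻¹ * (a' * b') * b⁻¹ := by rw [h]
            _ = _ := by group
        rw [this]
        exact CV.mul_mem hb' (CV.inv_mem hb)
      rw [hdisj, mem_bot, inv_mul_eq_one] at hmem
      subst hmem
      exact Prod.ext rfl (Subtype.ext (mul_left_cancel h))
    have hCcard : Nat.card ↥(X'' ⊓ centralizer ({e.1} : Set G)) * Nat.card CV = Nat.card Cz := by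
      rw [hCV, ← relIndex_ker, QuotientGroup.ker_mk', hN₀]
      rw [show (X''.subgroupOf X').relIndex (Cz.subgroupOf X') = X''.relIndex Cz from
        relIndex_subgroupOf (inf_le_left : Cz ≤ X')]
      rw [← inf_relIndex_right]
      have : X'' ⊓ Cz = X'' ⊓ centralizer ({e.1} : Set G) := by
        rw [hCz, ← inf_assoc, inf_eq_left.2 hle]
      rw [this, ← relIndex_bot_left, relIndex_mul_relIndex _ _ _ bot_le, relIndex_bot_left]
      exact inf_le_inf_right _ hle
    rw [heq X' hX'M]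
    rw [heq X'' hX''M] at hIH
    calc Nat.card (J X') * Nat.card Cz
        ≤ Nat.card (J X'') * Nat.card φ.range *
          (Nat.card ↥(X'' ⊓ centralizer ({e.1} : Set G)) * Nat.card CV) := by
          rw [hCcard]; exact Nat.mul_le_mul_right _ hJle
      _ = (Nat.card (J X'') * Nat.card ↥(X'' ⊓ centralizer ({e.1} : Set G))) *
          (Nat.card φ.range * Nat.card CV) := by ring
      _ ≤ Nat.card X'' * Nat.card (↥X' ⧸ N₀) := Nat.mul_le_mul hIH hprod
      _ = Nat.card X' := by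
        rw [card_eq_card_quotient_mul_card_subgroup N₀, mul_comm,
          Nat.card_congr (subgroupOfEquivOfLe hle).toEquiv]

end Moving

end Emb

end CfsgLib.NilPPrime
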