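import Cfsg.Agent.Lib.FgsB.NilpotentPPrime.CountBasic

/-!
# The case where `O(M)` centralises the involutions of `M`

The involutions outside `M` are partitioned by abelian Sylow `p`-subgroups.
-/

set_option autoImplicit false
set_option linter.style.haveILetI false

namespace CfsgLib.NilPPrime

open Cfsg Subgroup CfsgLib.Techniques

variable {G : Type*} [Group G] [Finite G] {p : ℕ} {S : Sylow 2 G} {M : Subgroup G} {z : G}

namespace Emb

variable (c : Emb p S M z)
include c

theorem zz : z * z = 1 := by rw [← sq, ← c.z2]; exact pow_orderOf_eq_one z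

theorem zinv : z⁻¹ = z := inv_eq_of_mul_eq_one_left c.zz

/-- With a trivial action of `O(M)`, the involutions of `M` are those of `E₀`. -/
theorem invol_mem_e0 (hX : ∀ x ∈ oC M, x * z = z * x) {a : G} (ha : a ∈ M) (ha2 : orderOf a = 2) :
    a ∈ e0 S M := by
  obtain ⟨x, hx, e, he, he1, rfl⟩ := c.exists_core_conj ha ha2
  obtain ⟨n, hn, rfl⟩ := c.exists_normalizer_conj he he1
  have h1 := hX _ (by simpa using c.le_normalizer_oC_conj (inv_mem hn.1) hx : n⁻¹ * x * n ∈ oC M)
  have e1 : x * (n * z * n⁻¹) * x⁻¹ = n * z * n⁻¹ := by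
    calc x * (n * z * n⁻¹) * x⁻¹ = n * ((n⁻¹ * x * n) * z) * (n⁻¹ * x * n)⁻¹ * n⁻¹ := by group
      _ = n * (z * (n⁻¹ * x * n)) * (n⁻¹ * x * n)⁻¹ * n⁻¹ := by rw [h1]
      _ = n * z * n⁻¹ := by group
  rw [e1]
  exact he

theorem card_invol_trivial (hX : ∀ x ∈ oC M, x * z = z * x) :
    Nat.card {t : G // orderOf t = 2 ∧ t ∈ M} = p := by
  rw [c.card_invol, c.card_sub_eq]
  have : Nat.card {y : G // ∃ x ∈ oC M, x * z * x⁻¹ = y} = 1 := by
    refine (Nat.card_eq_one_iff_unique).2 ⟨⟨fun a b => Subtype.ext ?_⟩, ⟨⟨z, 1, one_mem _, by simp⟩⟩⟩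
    obtain ⟨x, hx, hxa⟩ := a.2
    obtain ⟨y, hy, hyb⟩ := b.2
    rw [← hxa, ← hyb, hX x hx, hX y hy, mul_inv_cancel_right, mul_inv_cancel_right]
  rw [this, mul_one]

theorem centralizer_z_le : centralizer ({z} : Set G) ≤ M :=
  CfsgLib.Involutions.SE.centralizer_le c.se c.z2 c.zM

theorem mem_normalizer_e0 (hX : ∀ x ∈ oC M, x * z = z * x) {m : G} (hm : m ∈ M) :
    m ∈ normalizer (e0 S M : Set G) := by
  have h : ∀ m ∈ M, ∀ e ∈ e0 S M, m * e * m⁻¹ ∈ e0 S M := by
    intro m hm e he
    rcases eq_or_ne e 1 with rfl | he1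
    · simp
    · refine c.invol_mem_e0 hX (mul_mem (mul_mem hm (c.e0_le_M he)) (inv_mem hm)) ?_
      rw [show m * e * m⁻¹ = MulAut.conj m e from rfl, MulEquiv.orderOf_eq, c.e0_invol he he1]
  exact mem_set_normalizer_iff.2 fun e => ⟨h m hm e, fun he => by
    simpa [mul_assoc] using h m⁻¹ (inv_mem hm) _ he⟩

variable {v : G}

theorem zv_inverted (hv : orderOf v = 2) :
    z * (z * v) * z⁻¹ = (z * v)⁻¹ ∧ v * (z * v) * v⁻¹ = (z * v)⁻¹ := by
  have hvv : v * v = 1 := by rw [← sq, ← hv]; exact pow_orderOf_eq_one v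
  have hvi : v⁻¹ = v := inv_eq_of_mul_eq_one_left hvv
  rw [mul_inv_rev, hvi, c.zinv]
  constructor
  · rw [← mul_assoc z z v, c.zz, one_mul]
  · rw [mul_assoc, mul_assoc z v v, hvv, mul_one]

theorem zv_ne_one (hvM : v ∉ M) : z * v ≠ 1 := fun e => hvM (by
  rw [eq_inv_of_mul_eq_one_right e]; exact inv_mem c.zM)

theorem odd_centralizer (hv : orderOf v = 2) (hvM : v ∉ M) :
    Odd (Nat.card (centralizer ({z * v} : Set G))) := by
  rw [CfsgLib.Involutions.odd_card_iff]
  intro s hs hs2
  obtain ⟨g, rfl⟩ := isConj_iff.1 (CfsgLib.Involutions.SE.isConj c.se c.z2 hs2)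
  rw [mem_centralizer_singleton_iff] at hs
  set y := g⁻¹ * (z * v) * g with hy
  have hzy : Commute z y := by
    show z * y = y * z
    calc z * y = g⁻¹ * ((g * z * g⁻¹) * (z * v)) * g := by rw [hy]; group
      _ = g⁻¹ * ((z * v) * (g * z * g⁻¹)) * g := by rw [hs]
      _ = _ := by rw [hy]; group
  have hyM : y ∈ M := c.centralizer_z_le (mem_centralizer_singleton_iff.2 hzy.eq.symm)
  have hy1 : y ≠ 1 := fun e => c.zv_ne_one hvM (by
    calc z * v = g * y * g⁻¹ := by rw [hy]; group
      _ = 1 := by rw [e]; group)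
  have key : ∀ w : G, orderOf w = 2 → w * (z * v) * w⁻¹ = (z * v)⁻¹ → g⁻¹ * w * g ∈ M := by
    intro w hw hwy
    by_contra hwM
    refine c.not_commute (u := g⁻¹ * w * g) ?_ hwM hyM hy1 ?_ c.z2 c.zM hzy
    · rw [show g⁻¹ * w * g = MulAut.conj g⁻¹ w by simp, MulEquiv.orderOf_eq, hw]
    · calc g⁻¹ * w * g * y * (g⁻¹ * w * g)⁻¹ = g⁻¹ * (w * (z * v) * w⁻¹) * g := by rw [hy]; group
        _ = _ := by rw [hwy, hy]; group
  have h1 := key z c.z2 (c.zv_inverted hv).1
  have h2 := key v hv (c.zv_inverted hv).2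
  have hg : g⁻¹ ∈ M := CfsgLib.Involutions.SE.mem_of_conj c.se c.z2 c.zM (by rwa [inv_inv])
  refine hvM ?_
  have := mul_mem (mul_mem (inv_mem hg) h2) hg
  simpa [mul_assoc] using this

theorem centralizer_inverted (hX : ∀ x ∈ oC M, x * z = z * x) (hv : orderOf v = 2) (hvM : v ∉ M) :
    ∀ x ∈ centralizer ({z * v} : Set G), z * x * z⁻¹ = x⁻¹ := by
  classical
  set P : Subgroup G := centralizer ({z * v} : Set G) with hP
  have hodd : Odd (Nat.card P) := c.odd_centralizer hv hvM
  have hzP : z ∈ normalizer (P : Set G) := by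
    have h : ∀ x ∈ P, z * x * z⁻¹ ∈ P := by
      intro x hx
      rw [hP, mem_centralizer_singleton_iff] at hx ⊢
      have hx' : Commute x (z * v)⁻¹ := (show Commute x (z * v) from hx).inv_right
      have he : z⁻¹ * (z * v) * z = (z * v)⁻¹ := by
        have h1 := (c.zv_inverted hv).1
        rw [c.zinv] at h1 ⊢
        exact h1
      calc z * x * z⁻¹ * (z * v) = z * (x * (z⁻¹ * (z * v) * z)) * z⁻¹ := by group
        _ = z * ((z⁻¹ * (z * v) * z) * x) * z⁻¹ := by
          rw [he, hx'.eq]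
        _ = _ := by group
    exact mem_set_normalizer_iff.2 fun x => ⟨h x, fun hx => by
      have := h _ hx
      rwa [c.zinv, show z * (z * x * z) * z = (z * z) * x * (z * z) by group, c.zz, one_mul,
        mul_one] at this⟩
  have hbot : P ⊓ centralizer ({z} : Set G) = ⊥ := by
    refine (Subgroup.eq_bot_iff_forall _).2 fun x ⟨hxy, hxz⟩ => ?_
    by_contra hx1
    rw [hP] at hxy
    replace hxy : x * (z * v) = z * v * x := mem_centralizer_singleton_iff.1 hxy
    replace hxz : x * z = z * x := mem_centralizer_singleton_iff.1 hxz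
    have hxv : x * v = v * x := by
      have := congrArg (z * ·) hxy
      simp only [← mul_assoc] at this
      rwa [← hxz, mul_assoc x z z, c.zz, mul_one, one_mul] at this
    have hxM : x ∈ M := c.centralizer_z_le (mem_centralizer_singleton_iff.2 hxz)
    have hxodd : Odd (orderOf x) := hodd.of_dvd_nat (P.orderOf_dvd_natCard
      (by rw [hP]; exact mem_centralizer_singleton_iff.2 hxy))
    have hxE := c.min.centralize_of_fixed c.e0_el c.card_e0 hxodd (c.mem_normalizer_e0 hX hxM) c.zE
      c.z1 hxz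
    obtain ⟨e, he, he1, hez⟩ : ∃ e ∈ e0 S M, e ≠ 1 ∧ e ≠ z := by
      by_contra hc
      push Not at hc
      have hle : e0 S M ≤ zpowers z := fun e he => by
        by_cases he1 : e = 1
        · exact he1 ▸ one_mem _
        · exact hc e he he1 ▸ mem_zpowers z
      have := card_le_of_le hle
      rw [Nat.card_zpowers, c.z2] at this
      have := c.eight
      omega
    exact hez (commuting_eq_of_straddle c.se (c.min.solvable_centralizer hx1)
      (fun hle => hvM (hle (mem_centralizer_singleton_iff.2 hxv.symm)))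
      (c.e0_invol he he1) c.z2
      (mem_centralizer_singleton_iff.2 (mem_centralizer_iff.1 hxE e he))
      (mem_centralizer_singleton_iff.2 hxz.symm) (c.e0_le_M he) (c.zc e (c.e0_le he)))
  have hcard := CfsgLib.Involutions.ZStar.card_inverted c.z2 P hodd hzP
  rw [hbot, relIndex_bot_left] at hcard
  intro x hx
  have hbij : Function.Bijective
      (fun q : {x : G // x ∈ P ∧ z * x * z⁻¹ = x⁻¹} => (⟨q.1, q.2.1⟩ : P)) :=
    (Nat.bijective_iff_injective_and_card _).2
      ⟨fun a b e => Subtype.ext (Subtype.mk.inj e), hcard.symm⟩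
  obtain ⟨q, hq⟩ := hbij.2 ⟨x, hx⟩
  have hq' : q.1 = x := congrArg Subtype.val hq
  exact hq' ▸ q.2.2

theorem centralizer_comm (hX : ∀ x ∈ oC M, x * z = z * x) (hv : orderOf v = 2) (hvM : v ∉ M)
    {a b : G} (ha : a ∈ centralizer ({z * v} : Set G)) (hb : b ∈ centralizer ({z * v} : Set G)) :
    a * b = b * a := by
  have h1 := c.centralizer_inverted hX hv hvM _ (mul_mem ha hb)
  have h2 : z * (a * b) * z⁻¹ = a⁻¹ * b⁻¹ := by
    rw [← c.centralizer_inverted hX hv hvM a ha, ← c.centralizer_inverted hX hv hvM b hb]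
    group
  rw [h2, ← mul_inv_rev] at h1
  exact (inv_injective h1).symm

theorem isPGroup_centralizer (hX : ∀ x ∈ oC M, x * z = z * x) (hv : orderOf v = 2) (hvM : v ∉ M) :
    IsPGroup p ↥(centralizer ({z * v} : Set G)) := by
  rintro ⟨a, ha⟩
  exact ⟨_, Subtype.ext (c.min.pow_eq_one_of_inverted
    ((c.odd_centralizer hv hvM).of_dvd_nat (Subgroup.orderOf_dvd_natCard _ ha)) c.z2
    (c.centralizer_inverted hX hv hvM a ha))⟩

/-- A nontrivial element of `C(zv)` gives an involution `za` outside `M` with the same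
centralizer. -/
theorem centralizer_eq (hX : ∀ x ∈ oC M, x * z = z * x) (hv : orderOf v = 2) (hvM : v ∉ M) {a : G}
    (ha : a ∈ centralizer ({z * v} : Set G)) (ha1 : a ≠ 1) :
    orderOf (z * a) = 2 ∧ z * a ∉ M ∧
      centralizer ({a} : Set G) = centralizer ({z * v} : Set G) := by
  haveI := Fact.mk Nat.prime_two
  have hinv := c.centralizer_inverted hX hv hvM a ha
  have hodd : Odd (orderOf a) :=
    (c.odd_centralizer hv hvM).of_dvd_nat (Subgroup.orderOf_dvd_natCard _ ha)
  have hsq : a * a ≠ 1 := fun e => by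
    rcases (Nat.dvd_prime Nat.prime_two).1 (orderOf_dvd_of_pow_eq_one ((sq a).trans e)) with h | h
    · exact ha1 (orderOf_eq_one_iff.1 h)
    · rw [h] at hodd; exact absurd hodd (by decide)
  have hza2 : (z * a) * (z * a) = 1 := by
    calc z * a * (z * a) = z * a * z⁻¹ * a := by rw [c.zinv]; group
      _ = 1 := by rw [hinv, inv_mul_cancel]
  have hne : z * a ≠ 1 := fun e => hsq (by
    rw [eq_inv_of_mul_eq_one_right e, c.zinv, c.zz])
  have ho : orderOf (z * a) = 2 := orderOf_eq_prime ((sq _).trans hza2) hne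
  have hnM : z * a ∉ M := fun hM => hsq (c.e0_sq (by
    have := mul_mem c.zE (c.invol_mem_e0 hX hM ho)
    rwa [← mul_assoc, c.zz, one_mul] at this))
  refine ⟨ho, hnM, le_antisymm (fun x hx => ?_)
    fun x hx => mem_centralizer_singleton_iff.2 (c.centralizer_comm hX hv hvM hx ha)⟩
  have he : z * (z * a) = a := by rw [← mul_assoc, c.zz, one_mul]
  have hy : z * v ∈ centralizer ({a} : Set G) :=
    mem_centralizer_singleton_iff.2 (mem_centralizer_singleton_iff.1 ha).symm
  have h := c.centralizer_comm hX ho hnM (a := x) (b := z * v) (by rwa [he]) (by rwa [he])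
  exact mem_centralizer_singleton_iff.2 h

theorem false_of_trivial (hX : ∀ x ∈ oC M, x * z = z * x) : False := by
  classical
  haveI := Fact.mk c.min.prime
  haveI := Fact.mk Nat.prime_two
  obtain ⟨v₀, hv₀M, hv₀⟩ := c.exists_outside
  set A : G → Subgroup G := fun v => centralizer ({z * v} : Set G) with hA
  have hyA : ∀ v, z * v ∈ A v := fun v => mem_centralizer_singleton_iff.2 rfl
  -- they are Sylow subgroups
  have hsyl : ∀ v, orderOf v = 2 → v ∉ M → ∃ P : Sylow p G, (P : Subgroup G) = A v := by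
    intro v hv hvM
    obtain ⟨P, hP⟩ := (c.isPGroup_centralizer hX hv hvM).exists_le_sylow
    refine ⟨P, le_antisymm ?_ hP⟩
    haveI : Nontrivial P := ⟨⟨z * v, hP (hyA v)⟩, 1, fun e =>
      c.zv_ne_one hvM (congrArg Subtype.val e)⟩
    haveI := P.2.center_nontrivial
    obtain ⟨⟨d, hd⟩, hd1⟩ := exists_ne (1 : center (P : Subgroup G))
    have hd1' : (d : G) ≠ 1 := fun e => hd1 (Subtype.ext (Subtype.ext e))
    have hdA : (d : G) ∈ A v := mem_centralizer_singleton_iff.2
      (congrArg Subtype.val (mem_center_iff.1 hd ⟨z * v, hP (hyA v)⟩)).symm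
    intro x hx
    show x ∈ centralizer ({z * v} : Set G)
    rw [← (c.centralizer_eq hX hv hvM hdA hd1').2.2]
    exact mem_centralizer_singleton_iff.2 (congrArg Subtype.val (mem_center_iff.1 hd ⟨x, hx⟩))
  obtain ⟨P₀, hP₀⟩ := hsyl v₀ hv₀ hv₀M
  -- `p` does not divide `|C(z)|`
  have hpC : ¬ p ∣ Nat.card (centralizer ({z} : Set G)) := by
    intro hd
    obtain ⟨⟨x, hxz⟩, hx⟩ := exists_prime_orderOf_dvd_card' p hd
    rw [Subgroup.orderOf_mk] at hx
    obtain ⟨P, hP⟩ := (IsPGroup.iff_card.2 ⟨1, by rw [Nat.card_zpowers, hx, pow_one]⟩ :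
      IsPGroup p ↥(zpowers x)).exists_le_sylow
    obtain ⟨g, rfl⟩ := MulAction.exists_smul_eq G P₀ P
    have hxA : g⁻¹ * x * g ∈ A v₀ := by
      rw [← hP₀]
      exact CfsgLib.Transfer.mem_coe_smul_sylow_iff.1 (hP (mem_zpowers x))
    have hx1 : g⁻¹ * x * g ≠ 1 := fun e => by
      have : x = 1 := by
        calc x = g * (g⁻¹ * x * g) * g⁻¹ := by group
          _ = 1 := by rw [e]; group
      rw [this, orderOf_one] at hx
      exact c.min.prime.ne_one hx.symm
    have hmem : g⁻¹ * z * g ∈ A v₀ := by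
      show g⁻¹ * z * g ∈ centralizer ({z * v₀} : Set G)
      rw [← (c.centralizer_eq hX hv₀ hv₀M hxA hx1).2.2, mem_centralizer_singleton_iff]
      calc g⁻¹ * z * g * (g⁻¹ * x * g) = g⁻¹ * (z * x) * g := by group
        _ = g⁻¹ * (x * z) * g := by rw [mem_centralizer_singleton_iff.1 hxz]
        _ = _ := by group
    refine (CfsgLib.Involutions.odd_card_iff _).1 (c.odd_centralizer hv₀ hv₀M) _ hmem ?_
    rw [show g⁻¹ * z * g = MulAut.conj g⁻¹ z by simp, MulEquiv.orderOf_eq, c.z2]
  have hpA : p ∣ Nat.card (A v₀) := by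
    obtain ⟨k, hk⟩ := IsPGroup.iff_card.1 (c.isPGroup_centralizer hX hv₀ hv₀M)
    change Nat.card (A v₀) = p ^ k at hk
    rw [hk]
    refine dvd_pow_self p fun e => c.zv_ne_one hv₀M ?_
    rw [e, pow_zero, card_eq_one] at hk
    exact mem_bot.1 (hk ▸ hyA v₀)
  -- `p` divides the number of involutions outside `M`
  set T := {v : G // orderOf v = 2 ∧ v ∉ M} with hT
  have hpT : p ∣ Nat.card T := by
    have hall : Nat.card {t : G // orderOf t = 2} = (centralizer ({z} : Set G)).index := by
      refine (Nat.card_congr (Equiv.ofBijective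
        (Quotient.lift (fun g : G => (⟨g * z * g⁻¹, by
          rw [show g * z * g⁻¹ = MulAut.conj g z from rfl, MulEquiv.orderOf_eq, c.z2]⟩ :
            {t : G // orderOf t = 2})) ?_) ⟨?_, ?_⟩)).symm
      · intro g k hgk
        have hk := mem_centralizer_singleton_iff.1 (QuotientGroup.leftRel_apply.1 hgk)
        refine Subtype.ext ?_
        show g * z * g⁻¹ = k * z * k⁻¹
        calc g * z * g⁻¹ = g * (z * (g⁻¹ * k)) * k⁻¹ := by group
          _ = g * ((g⁻¹ * k) * z) * k⁻¹ := by rw [hk]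
          _ = _ := by group
      · rintro ⟨g⟩ ⟨k⟩ e
        have e' : g * z * g⁻¹ = k * z * k⁻¹ := congrArg Subtype.val e
        refine Quotient.sound (QuotientGroup.leftRel_apply.2 (mem_centralizer_singleton_iff.2 ?_))
        calc g⁻¹ * k * z = g⁻¹ * (k * z * k⁻¹) * k := by group
          _ = g⁻¹ * (g * z * g⁻¹) * k := by rw [e']
          _ = _ := by group
      · rintro ⟨t, ht⟩
        obtain ⟨g, hg⟩ := isConj_iff.1 (CfsgLib.Involutions.SE.isConj c.se c.z2 ht)
        exact ⟨Quotient.mk'' g, Subtype.ext hg⟩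
    have hpi : p ∣ Nat.card {t : G // orderOf t = 2} := by
      rw [hall]
      have hG : p ∣ Nat.card G := hpA.trans (card_subgroup_dvd_card _)
      rw [← card_mul_index (centralizer ({z} : Set G))] at hG
      exact (c.min.prime.dvd_mul.1 hG).resolve_left hpC
    have hsplit : Nat.card {t : G // orderOf t = 2} =
        Nat.card {t : G // orderOf t = 2 ∧ t ∈ M} + Nat.card T := by
      rw [← Nat.card_sum]
      refine Nat.card_congr ((Equiv.sumCompl (fun t : {t : G // orderOf t = 2} => t.1 ∈ M)).symm.trans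
        (Equiv.sumCongr (Equiv.subtypeSubtypeEquivSubtypeInter _ (fun t => t ∈ M))
          (Equiv.subtypeSubtypeEquivSubtypeInter _ (fun t => t ∉ M))))
    rw [hsplit, c.card_invol_trivial hX] at hpi
    exact (Nat.dvd_add_right (dvd_refl p)).1 hpi
  -- the partition of `T`
  set AA := {B : Subgroup G // ∃ v : T, A v.1 = B} with hAA
  have hcount : Nat.card T = Nat.card AA * (Nat.card (A v₀) - 1) := by
    have hfib : ∀ B : AA, Nat.card {a : B.1 // a ≠ 1} = Nat.card (A v₀) - 1 := by
      rintro ⟨B, ⟨v, hv, hvM⟩, rfl⟩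
      obtain ⟨P, hP⟩ := hsyl v hv hvM
      haveI : Fintype (A v) := Fintype.ofFinite _
      show Nat.card {a : A v // a ≠ 1} = _
      rw [Nat.card_eq_fintype_card, Fintype.card_subtype_compl, Fintype.card_subtype_eq,
        ← Nat.card_eq_fintype_card, ← hP₀, ← hP]
      exact congrArg (· - 1) (P.card_eq_multiplicity.trans P₀.card_eq_multiplicity.symm)
    have hequiv : Nat.card T = Nat.card ((B : AA) × {a : B.1 // a ≠ 1}) := by
      refine Nat.card_congr (Equiv.ofBijective (fun v => ⟨⟨A v.1, v, rfl⟩, ⟨⟨z * v.1, hyA v.1⟩,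
        fun e => c.zv_ne_one v.2.2 (congrArg Subtype.val e)⟩⟩) ⟨?_, ?_⟩)
      · intro v w e
        have := congrArg (fun q : (B : AA) × {a : B.1 // a ≠ 1} => (q.2.1 : G)) e
        exact Subtype.ext (mul_left_cancel this)
      · rintro ⟨⟨B, ⟨v, hv, hvM⟩, rfl⟩, ⟨⟨a, ha⟩, ha1⟩⟩
        obtain ⟨h1, h2, h3⟩ := c.centralizer_eq hX hv hvM ha fun e => ha1 (Subtype.ext e)
        refine ⟨⟨z * a, h1, h2⟩, ?_⟩
        have he : z * (z * a) = a := by rw [← mul_assoc, c.zz, one_mul]
        have hB : A (z * a) = A v := by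
          show centralizer ({z * (z * a)} : Set G) = _
          rw [he, h3]
        have key : ∀ (B B' : AA) (a : {a : B.1 // a ≠ 1}) (b : {a : B'.1 // a ≠ 1}), B = B' →
            (a.1 : G) = b.1 → (⟨B, a⟩ : (B : AA) × {a : B.1 // a ≠ 1}) = ⟨B', b⟩ := by
          rintro B _ a b rfl h
          rw [show a = b from Subtype.ext (Subtype.ext h)]
        exact key _ _ _ _ (Subtype.ext hB) he
    haveI : Fintype AA := Fintype.ofFinite _
    rw [hequiv, Nat.card_sigma, Finset.sum_congr rfl (fun B _ => hfib B), Finset.sum_const,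
      smul_eq_mul, Finset.card_univ, Nat.card_eq_fintype_card (α := AA)]
  -- transitivity of `C(z)`
  have hdvd : Nat.card AA ∣ Nat.card (centralizer ({z} : Set G)) := by
    have hcj : ∀ g ∈ centralizer ({z} : Set G), ∀ v, cj g (A v) = A (g * v * g⁻¹) := by
      intro g hg v
      have e : g * (z * v) * g⁻¹ = z * (g * v * g⁻¹) := by
        calc g * (z * v) * g⁻¹ = g * z * v * g⁻¹ := by group
          _ = z * g * v * g⁻¹ := by rw [mem_centralizer_singleton_iff.1 hg]
          _ = _ := by group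
      show cj g (centralizer _) = centralizer ({z * (g * v * g⁻¹)} : Set G)
      rw [← e]
      ext x
      rw [mem_cj, mem_centralizer_singleton_iff, mem_centralizer_singleton_iff]
      constructor
      · intro h
        calc x * (g * (z * v) * g⁻¹) = g * ((g⁻¹ * x * g) * (z * v)) * g⁻¹ := by group
          _ = g * ((z * v) * (g⁻¹ * x * g)) * g⁻¹ := by rw [h]
          _ = _ := by group
      · intro h
        calc g⁻¹ * x * g * (z * v) = g⁻¹ * (x * (g * (z * v) * g⁻¹)) * g := by group
          _ = g⁻¹ * (g * (z * v) * g⁻¹ * x) * g := by rw [h]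
          _ = _ := by group
    set C : Subgroup G := centralizer ({z} : Set G) with hC
    set K : Subgroup C := (normalizer (A v₀ : Set G)).subgroupOf C with hK
    have heq : Nat.card AA = K.index := by
      refine (Nat.card_congr (Equiv.ofBijective (Quotient.lift
        (fun g : C => (⟨cj (g : G) (A v₀), ⟨(g : G) * v₀ * (g : G)⁻¹, by
            rw [show (g : G) * v₀ * (g : G)⁻¹ = MulAut.conj (g : G) v₀ from rfl,
              MulEquiv.orderOf_eq, hv₀], fun hM => hv₀M (by
            have := mul_mem (mul_mem (inv_mem (c.centralizer_z_le g.2)) hM) (c.centralizer_z_le g.2)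
            simpa [mul_assoc] using this)⟩, (hcj g g.2 v₀).symm⟩ : AA)) ?_) ⟨?_, ?_⟩)).symm
      · intro g k hgk
        have hk : ((g⁻¹ * k : C) : G) ∈ normalizer (A v₀ : Set G) :=
          mem_subgroupOf.1 (QuotientGroup.leftRel_apply.1 hgk)
        refine Subtype.ext ?_
        show cj (g : G) (A v₀) = cj (k : G) (A v₀)
        nth_rw 1 [← mem_normalizer_iff_cj.1 hk]
        rw [← cj_mul, coe_mul, coe_inv, mul_inv_cancel_left]
      · rintro ⟨g⟩ ⟨k⟩ e
        have e' : cj (g : G) (A v₀) = cj (k : G) (A v₀) := congrArg Subtype.val e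
        refine Quotient.sound (QuotientGroup.leftRel_apply.2 (mem_subgroupOf.2
          (mem_normalizer_iff_cj.2 ?_)))
        rw [coe_mul, coe_inv, cj_mul, ← e', cj_inv_cj]
      · rintro ⟨B, ⟨v, hv, hvM⟩, rfl⟩
        obtain ⟨P, hP⟩ := hsyl v hv hvM
        obtain ⟨g, hg⟩ := MulAction.exists_smul_eq G P₀ P
        have hgA : cj g (A v₀) = A v := by
          rw [← hP, ← hg, Sylow.coe_subgroup_smul, ← hP₀, ← CfsgLib.Base.map_conj_eq_smul]
        have hinv : ∀ b ∈ A v, g * z * g⁻¹ * b * (g * z * g⁻¹)⁻¹ = b⁻¹ := by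
          intro b hb
          have hb' : g⁻¹ * b * g ∈ A v₀ := mem_cj.1 (hgA ▸ hb)
          calc g * z * g⁻¹ * b * (g * z * g⁻¹)⁻¹ = g * (z * (g⁻¹ * b * g) * z⁻¹) * g⁻¹ := by group
            _ = g * (g⁻¹ * b * g)⁻¹ * g⁻¹ := by
              rw [c.centralizer_inverted hX hv₀ hv₀M _ hb']
            _ = _ := by group
        set b := z * (g * z * g⁻¹) with hb
        have hbA : b ∈ A v := by
          refine mem_centralizer_singleton_iff.2 ?_
          have h1 := hinv (z * v) (hyA v)
          have h2 := c.centralizer_inverted hX hv hvM _ (inv_mem (hyA v))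
          rw [inv_inv] at h2
          have h3 : b * (z * v) * b⁻¹ = z * v := by
            calc b * (z * v) * b⁻¹
                = z * ((g * z * g⁻¹) * (z * v) * (g * z * g⁻¹)⁻¹) * z⁻¹ := by rw [hb]; group
              _ = z * v := by rw [h1, h2]
          exact mul_inv_eq_iff_eq_mul.1 h3
        obtain ⟨i, hi⟩ := CfsgLib.Involutions.exists_zpow_sq_eq (a := b)
          ((c.odd_centralizer hv hvM).of_dvd_nat (Subgroup.orderOf_dvd_natCard _ hbA))
        set k := b ^ i with hk
        have hkA : k ∈ A v := zpow_mem hbA i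
        have hzk : z * k = k⁻¹ * z := by
          rw [← c.centralizer_inverted hX hv hvM k hkA, inv_mul_cancel_right]
        have hfix : k * g * z = z * (k * g) := by
          have hw : g * z * g⁻¹ = k⁻¹ * z * k := by
            calc g * z * g⁻¹ = z * b := by rw [hb, ← mul_assoc, c.zz, one_mul]
              _ = z * (k * k) := by rw [← sq k, hi]
              _ = z * k * k := (mul_assoc _ _ _).symm
              _ = _ := by rw [hzk]
          calc k * g * z = k * (g * z * g⁻¹) * g := by group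
            _ = k * (k⁻¹ * z * k) * g := by rw [hw]
            _ = _ := by group
        refine ⟨Quotient.mk'' ⟨k * g, mem_centralizer_singleton_iff.2 hfix⟩, Subtype.ext ?_⟩
        show cj (k * g) (A v₀) = A v
        rw [cj_mul, hgA, cj_eq_self_of_mem hkA]
    rw [heq]
    exact index_dvd_card K
  rw [hcount] at hpT
  rcases c.min.prime.dvd_mul.1 hpT with h1 | h1
  · exact hpC (h1.trans hdvd)
  · have hpos : 1 ≤ Nat.card (A v₀) := Nat.card_pos
    have := Nat.dvd_sub hpA h1
    rw [Nat.sub_sub_self hpos] at this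
    exact c.min.prime.not_dvd_one this

end Emb

end CfsgLib.NilPPrime
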