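import Cfsg.Agent.Lib.FgsB.NilpotentPPrime.LocalTop
import Cfsg.Agent.Lib.LocalEven.StrongEmb3

/-!
# There is a strongly embedded subgroup
-/

set_option autoImplicit false
set_option linter.style.haveILetI false

namespace CfsgLib.NilPPrime

open Cfsg Subgroup CfsgLib.Techniques

variable {G : Type*} [Group G] [Finite G] {p : ℕ}

/-- An involution centralises a subgroup of index at most the order of its centralizer. -/
theorem card_le_sq {H : Subgroup G} (hH : IsElementaryAbelian 2 H) {a : G} (ha : a * a = 1)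
    (hn : a ∈ normalizer (H : Set G)) :
    Nat.card H ≤ Nat.card ↥(H ⊓ centralizer ({a} : Set G)) ^ 2 := by
  obtain ⟨hc, h2⟩ := CfsgLib.Base.isElementaryAbelian_iff.1 hH
  have hai : a⁻¹ = a := inv_eq_of_mul_eq_one_left ha
  have hcj : ∀ x : H, a * (x : G) * a⁻¹ ∈ H := fun x => (mem_set_normalizer_iff.1 hn _).1 x.2
  let f : H →* H := MonoidHom.mk' (fun x => ⟨a * x * a⁻¹, hcj x⟩ * x) fun x y => Subtype.ext <| by
    calc a * ((x : G) * y) * a⁻¹ * ((x : G) * y)
        = a * x * a⁻¹ * (a * y * a⁻¹ * x) * y := by group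
      _ = a * x * a⁻¹ * (x * (a * y * a⁻¹)) * y := by rw [hc _ (hcj y) _ x.2]
      _ = _ := by simp only [coe_mul]; group
  set C : Subgroup G := H ⊓ centralizer ({a} : Set G) with hC
  have hker : f.ker.map H.subtype ≤ C := by
    rintro _ ⟨x, hx, rfl⟩
    refine mem_inf.2 ⟨x.2, mem_centralizer_singleton_iff.2 ?_⟩
    have e : a * (x : G) * a⁻¹ * x = 1 := congrArg Subtype.val (MonoidHom.mem_ker.1 hx)
    have hx2 : (x : G) * x = 1 := (sq _).symm.trans (h2 _ x.2)
    show (x : G) * a = a * x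
    rw [← mul_inv_eq_iff_eq_mul.1 (mul_right_cancel (e.trans hx2.symm))]
  have hrange : f.range.map H.subtype ≤ C := by
    rintro _ ⟨_, ⟨x, rfl⟩, rfl⟩
    refine mem_inf.2 ⟨(f x).2, mem_centralizer_singleton_iff.2 ?_⟩
    show a * (x : G) * a⁻¹ * x * a = a * (a * x * a⁻¹ * x)
    rw [hai]
    calc a * (x : G) * a * x * a = a * (x * (a * x * a)) := by group
      _ = a * ((a * x * a) * x) := by rw [hc _ x.2 _ (by simpa [hai] using hcj x)]
      _ = _ := by group
  have h1 : Nat.card f.ker ≤ Nat.card C := by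
    rw [← card_map_of_injective H.subtype_injective]; exact card_le_of_le hker
  have h3 : Nat.card f.range ≤ Nat.card C := by
    rw [← card_map_of_injective H.subtype_injective]; exact card_le_of_le hrange
  rw [← card_mul_index f.ker, index_ker, sq]
  exact Nat.mul_le_mul h1 h3

/-- A `2`-group of order four is generated by two of its involutions. -/
theorem sup_eq_of_four {V : Subgroup G} (hV : IsElementaryAbelian 2 V) (h4 : Nat.card V ≤ 4)
    {v w : G} (hv : v ∈ V) (hw : w ∈ V) (hv1 : v ≠ 1) (hw1 : w ≠ 1) (hvw : v ≠ w) :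
    zpowers v ⊔ zpowers w = V := by
  haveI := Fact.mk Nat.prime_two
  have hle : zpowers v ⊔ zpowers w ≤ V := sup_le (zpowers_le.2 hv) (zpowers_le.2 hw)
  refine eq_of_le_of_card_ge hle ?_
  obtain ⟨k, hk⟩ := IsPGroup.iff_card.1
    ((CfsgLib.Base.isPGroup_of_isElementaryAbelian hV).to_le hle)
  have h3 : 3 ≤ Nat.card ↥(zpowers v ⊔ zpowers w) := by
    classical
    haveI : Fintype ↥(zpowers v ⊔ zpowers w) := Fintype.ofFinite _
    rw [Nat.card_eq_fintype_card]
    refine le_trans (le_of_eq ?_) (Finset.card_le_univ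
      ({⟨1, one_mem _⟩, ⟨v, mem_sup_left (mem_zpowers v)⟩, ⟨w, mem_sup_right (mem_zpowers w)⟩} :
        Finset ↥(zpowers v ⊔ zpowers w)))
    rw [Finset.card_insert_of_notMem, Finset.card_insert_of_notMem, Finset.card_singleton]
    · simp only [Finset.mem_singleton, Subtype.mk.injEq]; exact hvw
    · simp only [Finset.mem_insert, Finset.mem_singleton, Subtype.mk.injEq, not_or]
      exact ⟨Ne.symm hv1, Ne.symm hw1⟩
  rw [hk] at h3 ⊢
  have : 2 ≤ k := by
    rcases k with _ | _ | k
    · norm_num at h3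
    · norm_num at h3
    · omega
  exact h4.trans (le_trans (by norm_num) (Nat.pow_le_pow_right two_pos this))

/-- An elementary subgroup of order at least four lies in a good one, given a normal good one. -/
theorem exists_good_of_four {S : Sylow 2 G} {E : Subgroup G} (hE : Good E)
    (hES : E ≤ (S : Subgroup G)) (hSE : (S : Subgroup G) ≤ normalizer (E : Set G)) {V : Subgroup G}
    (hV : IsElementaryAbelian 2 V) (hVS : V ≤ (S : Subgroup G)) (h4 : 4 ≤ Nat.card V) :
    ∃ A, Good A ∧ V ≤ A ∧ A ≤ (S : Subgroup G) := by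
  haveI := Fact.mk Nat.prime_two
  by_cases h8 : 8 ≤ Nat.card V
  · exact ⟨V, ⟨hV, h8⟩, le_rfl, hVS⟩
  have hle4 : Nat.card V ≤ 4 := by
    by_contra hc
    exact h8 (eight_le_of_four_lt (CfsgLib.Base.isPGroup_of_isElementaryAbelian hV) (by omega))
  have hnorm : ∀ x ∈ V, x ∈ normalizer (E : Set G) := fun x hx => hSE (hVS hx)
  have hsq : ∀ x ∈ V, x * x = 1 := fun x hx => (sq x).symm.trans (hV.2 x hx)
  have hEV : ∀ C : Subgroup G, C ≤ E → C ≤ centralizer (V : Set G) → 4 < Nat.card ↥(C ⊔ V) →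
      ∃ A, Good A ∧ V ≤ A ∧ A ≤ (S : Subgroup G) := fun C hCE hCV hlt =>
    ⟨C ⊔ V, ⟨CfsgLib.Base.isElementaryAbelian_sup
      (CfsgLib.Base.isElementaryAbelian_le hCE hE.el) hV hCV,
      eight_le_of_four_lt (CfsgLib.Base.isPGroup_of_isElementaryAbelian
        (CfsgLib.Base.isElementaryAbelian_sup
          (CfsgLib.Base.isElementaryAbelian_le hCE hE.el) hV hCV)) hlt⟩,
      le_sup_right, sup_le (hCE.trans hES) hVS⟩
  by_cases hVE : ∃ e ∈ V, e ∈ E ∧ e ≠ 1
  · obtain ⟨e, he, heE, he1⟩ := hVE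
    obtain ⟨w, hw, hwe⟩ : ∃ w ∈ V, w ∉ zpowers e := by
      by_contra hc
      push Not at hc
      have h2 : Nat.card (zpowers e) ≤ 2 := by
        rw [Nat.card_zpowers]
        exact Nat.le_of_dvd two_pos (orderOf_dvd_of_pow_eq_one ((sq e).trans (hsq e he)))
      have := card_le_of_le (show V ≤ zpowers e from hc)
      omega
    have hgen := sup_eq_of_four hV hle4 he hw he1 (fun e1 => hwe (e1 ▸ one_mem _))
      (fun e1 => hwe (e1 ▸ mem_zpowers e))
    set C : Subgroup G := E ⊓ centralizer ({w} : Set G) with hC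
    have hCV : C ≤ centralizer (V : Set G) := by
      rw [le_centralizer_iff, ← hgen, sup_le_iff, zpowers_le, zpowers_le]
      exact ⟨mem_centralizer_iff.2 fun c hc => hE.comm hc.1 heE,
        mem_centralizer_iff.2 fun c hc => mem_centralizer_singleton_iff.1 hc.2⟩
    have hC4 : 4 ≤ Nat.card C := by
      have := card_le_sq hE.el (hsq w hw) (hnorm w hw)
      rw [← hC, sq] at this
      have h3 : 3 ≤ Nat.card C := by
        by_contra hc
        have := Nat.mul_le_mul (show Nat.card C ≤ 2 by omega) (show Nat.card C ≤ 2 by omega)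
        have := hE.eight
        omega
      obtain ⟨k, hk⟩ := IsPGroup.iff_card.1 (CfsgLib.Base.isPGroup_of_isElementaryAbelian
        (CfsgLib.Base.isElementaryAbelian_le (inf_le_left : C ≤ E) hE.el))
      rw [hk] at h3 ⊢
      have : 2 ≤ k := by
        rcases k with _ | _ | k
        · norm_num at h3
        · norm_num at h3
        · omega
      exact le_trans (by norm_num) (Nat.pow_le_pow_right two_pos this)
    by_cases hCle : C ≤ V
    · have : C = V := eq_of_le_of_card_ge hCle (hle4.trans hC4)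
      exact ⟨E, hE, this ▸ inf_le_left, hES⟩
    · refine hEV C inf_le_left hCV (lt_of_le_of_lt h4 (card_lt_of_lt ?_))
      exact lt_of_le_of_ne le_sup_right fun e2 => hCle (e2 ▸ le_sup_left)
  · push Not at hVE
    obtain ⟨v, hv, hv1⟩ : ∃ v ∈ V, v ≠ 1 := by
      by_contra hc
      push Not at hc
      have : V = ⊥ := (Subgroup.eq_bot_iff_forall V).2 hc
      rw [this, card_bot] at h4
      omega
    obtain ⟨w, hw, hwv⟩ : ∃ w ∈ V, w ∉ zpowers v := by
      by_contra hc
      push Not at hc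
      have h2 : Nat.card (zpowers v) ≤ 2 := by
        rw [Nat.card_zpowers]
        exact Nat.le_of_dvd two_pos (orderOf_dvd_of_pow_eq_one ((sq v).trans (hsq v hv)))
      have := card_le_of_le (show V ≤ zpowers v from hc)
      omega
    have hgen := sup_eq_of_four hV hle4 hv hw hv1 (fun e1 => hwv (e1 ▸ one_mem _))
      (fun e1 => hwv (e1 ▸ mem_zpowers v))
    have hvwc : v * w = w * v := (CfsgLib.Base.isElementaryAbelian_iff.1 hV).1 v hv w hw
    set C₁ : Subgroup G := E ⊓ centralizer ({v} : Set G) with hC₁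
    have hw' : w ∈ normalizer (C₁ : Set G) := by
      refine mem_set_normalizer_iff.2 fun x => ?_
      refine and_congr (mem_set_normalizer_iff.1 (hnorm w hw) x)
        (mem_set_normalizer_iff.1 (le_normalizer ?_) x)
      exact mem_centralizer_singleton_iff.2 hvwc.symm
    have h1 := card_le_sq hE.el (hsq v hv) (hnorm v hv)
    have h2 := card_le_sq (CfsgLib.Base.isElementaryAbelian_le (inf_le_left : C₁ ≤ E) hE.el)
      (hsq w hw) hw'
    rw [← hC₁] at h1
    set C : Subgroup G := C₁ ⊓ centralizer ({w} : Set G) with hC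
    have hC1 : C ≠ ⊥ := by
      intro hbot
      rw [hbot, card_bot] at h2
      rw [one_pow] at h2
      have h5 := h1.trans (Nat.pow_le_pow_left h2 2)
      rw [one_pow] at h5
      have := hE.eight
      omega
    refine hEV C (inf_le_left.trans inf_le_left) ?_ (lt_of_le_of_lt h4 (card_lt_of_lt ?_))
    · rw [le_centralizer_iff, ← hgen, sup_le_iff, zpowers_le, zpowers_le]
      exact ⟨mem_centralizer_iff.2 fun c hc => mem_centralizer_singleton_iff.1 hc.1.2,
        mem_centralizer_iff.2 fun c hc => mem_centralizer_singleton_iff.1 hc.2⟩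
    · refine lt_of_le_of_ne le_sup_right fun e2 => hC1 ((Subgroup.eq_bot_iff_forall C).2 fun c hc => ?_)
      exact hVE c (e2 ▸ mem_sup_left hc) hc.1.1

/-- Every involution of `S` lies in a good subgroup of `S`. -/
theorem exists_good_of_invol {S : Sylow 2 G} {E : Subgroup G} (hE : Good E)
    (hES : E ≤ (S : Subgroup G)) (hSE : (S : Subgroup G) ≤ normalizer (E : Set G)) {a : G}
    (ha : a * a = 1) (haS : a ∈ (S : Subgroup G)) :
    ∃ A, Good A ∧ a ∈ A ∧ A ≤ (S : Subgroup G) := by
  haveI := Fact.mk Nat.prime_two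
  by_cases haE : a ∈ E
  · exact ⟨E, hE, haE, hES⟩
  set C : Subgroup G := E ⊓ centralizer ({a} : Set G) with hC
  have hel : IsElementaryAbelian 2 (C ⊔ zpowers a) := by
    refine CfsgLib.Base.isElementaryAbelian_sup (CfsgLib.Base.isElementaryAbelian_le inf_le_left hE.el)
      (CfsgLib.Base.isElementaryAbelian_zpowers ((sq a).trans ha)) ?_
    rw [le_centralizer_iff, zpowers_le]
    exact mem_centralizer_iff.2 fun c hc => mem_centralizer_singleton_iff.1 hc.2
  have h3 : 3 ≤ Nat.card C := by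
    by_contra hc
    have h1 := card_le_sq hE.el ha (hSE haS)
    rw [← hC] at h1
    have := Nat.pow_le_pow_left (show Nat.card C ≤ 2 by omega) 2
    have := hE.eight
    omega
  have h4 : 4 ≤ Nat.card ↥(C ⊔ zpowers a) := by
    have : Nat.card C < Nat.card ↥(C ⊔ zpowers a) :=
      card_lt_of_lt (lt_of_le_of_ne le_sup_left fun e =>
        haE (inf_le_left (a := E) (e.ge (mem_sup_right (mem_zpowers a)))))
    omega
  obtain ⟨A, hA, hle, hAS⟩ := exists_good_of_four hE hES hSE hel
    (sup_le (inf_le_left.trans hES) (zpowers_le.2 haS)) h4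
  exact ⟨A, hA, hle (mem_sup_right (mem_zpowers a)), hAS⟩

omit [Finite G] in
theorem cj_sylow (S : Sylow 2 G) (g : G) :
    ((g • S : Sylow 2 G) : Subgroup G) = cj g (S : Subgroup G) := by
  rw [Sylow.coe_subgroup_smul, ← CfsgLib.Base.map_conj_eq_smul]

/-- A normal good subgroup in one Sylow subgroup gives one in each. -/
theorem exists_normal_good_all {S : Sylow 2 G} {E : Subgroup G} (hE : Good E)
    (hES : E ≤ (S : Subgroup G)) (hSE : (S : Subgroup G) ≤ normalizer (E : Set G)) (S' : Sylow 2 G) :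
    ∃ E', Good E' ∧ E' ≤ (S' : Subgroup G) ∧ (S' : Subgroup G) ≤ normalizer (E' : Set G) := by
  haveI := Fact.mk Nat.prime_two
  obtain ⟨g, rfl⟩ := MulAction.exists_smul_eq G S S'
  refine ⟨cj g E, hE.cj g, ?_, ?_⟩
  · rw [cj_sylow]; exact cj_mono hES
  · rw [cj_sylow, ← cj_normalizer]; exact cj_mono hSE

/-- A solvable overgroup of `S` moving the central involution gives a normal good subgroup. -/
theorem NMin.exists_normal_good (h : NMin G p) (S : Sylow 2 G) {z : G} (hzS : z ∈ (S : Subgroup G))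
    (hz2 : orderOf z = 2) (hzc : ∀ s ∈ (S : Subgroup G), s * z = z * s) {K : Subgroup G}
    (hK : Group.IsSolvable ↥K) (hSK : (S : Subgroup G) ≤ K) {D : Subgroup G}
    (hDS : D ≤ (S : Subgroup G)) (hzD : z ∈ zOmega D) {x : G}
    (hx : x ∈ normalizer (D : Set G)) (hxK : x ∈ K) (hxne : x * z * x⁻¹ ≠ z) :
    ∃ E, Good E ∧ E ≤ (S : Subgroup G) ∧ (S : Subgroup G) ≤ normalizer (E : Set G) := by
  obtain ⟨h1, -, h3⟩ := h.exists_eight S hzS hz2 hzc hK hSK hxK
    (hDS (zOmega_le _ (conj_mem_zOmega hx hzD))) hxne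
  exact ⟨_, ⟨isElementaryAbelian_zOmega _, h3⟩, (zOmega_le _).trans inf_le_left,
    h1.trans (normalizer_le_normalizer_zOmega _)⟩

theorem even_of_good {A H : Subgroup G} (hA : Good A) (hAH : A ≤ H) : Even (Nat.card H) := by
  haveI := Fact.mk Nat.prime_two
  obtain ⟨k, hk⟩ := IsPGroup.iff_card.1 (CfsgLib.Base.isPGroup_of_isElementaryAbelian hA.el)
  rw [even_iff_two_dvd]
  refine Dvd.dvd.trans ?_ (card_dvd_of_le hAH)
  rw [hk]
  refine dvd_pow_self 2 fun h0 => ?_
  have := hA.eight
  rw [hk, h0] at this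
  omega

/-- The case of a nontrivial signalizer. -/
theorem NMin.embedded_of_sigW (h : NMin G p) {S : Sylow 2 G} {A : Subgroup G} (hA : Good A)
    (hAS : A ≤ (S : Subgroup G)) (hW : sigW A ≠ ⊥) :
    ∃ M : Subgroup G, IsStronglyEmbedded M ∧ (S : Subgroup G) ≤ M ∧
      ∃ E, Good E ∧ E ≤ (S : Subgroup G) := by
  haveI := Fact.mk Nat.prime_two
  set W := sigW A with hWdef
  set M : Subgroup G := normalizer (W : Set G) with hM
  have hWtop : W ≠ ⊤ := fun e => by
    have := (h.sigW_spec hA).1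
    rw [← hWdef, e, card_top] at this
    exact Nat.not_even_iff_odd.2 this h.even_card
  have hWS : ∀ B, Good B → B ≤ (S : Subgroup G) → sigW B = W := fun B hB hBS =>
    (h.sigW_eq_of_sylow S hA hB hAS hBS).symm
  have hSM : (S : Subgroup G) ≤ M := by
    intro s hs
    rw [hM, mem_normalizer_iff_cj, hWdef, ← sigW_cj]
    refine hWS _ (hA.cj s) (le_trans (cj_mono hAS) (le_of_eq ?_))
    exact cj_eq_self_of_mem hs
  have hMsol : Group.IsSolvable ↥M := h.solvable_normalizer hW hWtop
  obtain ⟨z, hzS, hz2, hzc⟩ := h.exists_central_involution S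
  obtain ⟨D, hDS, hzD, -, hD8, x, hx, hxne⟩ := h.exists_moved S hzS hz2 hzc
  have hxM : x ∈ M := by
    rw [hM, ← hWS _ ⟨isElementaryAbelian_zOmega D, hD8⟩ ((zOmega_le D).trans hDS)]
    exact mem_normalizer_sigW (normalizer_le_normalizer_zOmega D hx)
  obtain ⟨E, hE, hES, hSE⟩ := h.exists_normal_good S hzS hz2 hzc hMsol hSM hDS hzD hx hxM hxne
  refine ⟨M, ?_, hSM, E, hE, hES⟩
  -- centralisers of involutions
  have hcent : ∀ a ∈ (S : Subgroup G), orderOf a = 2 → centralizer ({a} : Set G) ≤ M := by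
    intro a haS ha2
    have ha : a * a = 1 := (sq a).symm.trans (orderOf_dvd_iff_pow_eq_one.1 (dvd_of_eq ha2))
    have ha1 : a ≠ 1 := fun e => by rw [e, orderOf_one] at ha2; omega
    obtain ⟨A₁, hA₁, haA₁, hA₁S⟩ := exists_good_of_invol hE hES hSE ha haS
    set K : Subgroup G := centralizer ({a} : Set G) with hK
    have hA₁K : A₁ ≤ K := fun b hb => mem_centralizer_singleton_iff.2 (hA₁.comm hb haA₁)
    have hKsol : Group.IsSolvable ↥K := h.solvable_centralizer ha1
    obtain ⟨T, hT, hA₁T⟩ := exists_sylIn_ge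
      (CfsgLib.Base.isPGroup_of_isElementaryAbelian hA₁.el) hA₁K
    obtain ⟨S', hS'⟩ := hT.isPGroup.exists_le_sylow
    obtain ⟨E', hE', hE'S, hSE'⟩ := exists_normal_good_all hE hES hSE S'
    have hW' : ∀ B, Good B → B ≤ (S' : Subgroup G) → sigW B = W := fun B hB hBS =>
      (h.sigW_eq_of_sylow S' hB hA₁ hBS (hA₁T.trans hS')).trans (hWS _ hA₁ hA₁S)
    have hTeq : T = (S' : Subgroup G) ⊓ K :=
      (hT.eq_of_le (S'.2.to_le inf_le_left) (le_inf hS' hT.le) inf_le_right).symm
    set R : Subgroup G := T ⊓ fK K with hR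
    have hTR : T ≤ normalizer (R : Set G) := fun t ht => mem_set_normalizer_iff.2 fun y =>
      and_congr (mem_set_normalizer_iff.1 (le_normalizer ht) y)
        (mem_set_normalizer_iff.1 (le_normalizer_fK K (hT.le ht)) y)
    have haR : a ∈ R := ⟨hA₁T haA₁, centralizer_le_fK hKsol hT
      ⟨hA₁K haA₁, mem_centralizer_iff.2 fun r hr =>
        mem_centralizer_singleton_iff.1 (hT.le hr.1)⟩⟩
    -- `R` contains a four subgroup
    obtain ⟨V, hV, hVR, hV4⟩ : ∃ V : Subgroup G, IsElementaryAbelian 2 V ∧ V ≤ R ∧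
        4 ≤ Nat.card V := by
      set B : Subgroup G := E' ⊓ K with hB
      have hBT : B ≤ T := hTeq ▸ inf_le_inf_right K hE'S
      have hTB : T ≤ normalizer (B : Set G) := fun t ht => mem_set_normalizer_iff.2 fun y =>
        and_congr (mem_set_normalizer_iff.1 (hSE' (hS' ht)) y)
          (mem_set_normalizer_iff.1 (le_normalizer (hT.le ht)) y)
      have hBel : IsElementaryAbelian 2 B := CfsgLib.Base.isElementaryAbelian_le inf_le_left hE'.el
      have hB4 : 3 ≤ Nat.card B := by
        by_contra hc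
        have h1 := card_le_sq hE'.el ha (hSE' (hS' (hA₁T haA₁)))
        rw [← hK, ← hB] at h1
        have := Nat.pow_le_pow_left (show Nat.card B ≤ 2 by omega) 2
        have := hE'.eight
        omega
      have hel : IsElementaryAbelian 2 ((B ⊓ R) ⊔ zpowers a) :=
        CfsgLib.Base.isElementaryAbelian_sup (CfsgLib.Base.isElementaryAbelian_le inf_le_left hBel)
          (CfsgLib.Base.isElementaryAbelian_zpowers ((sq a).trans ha)) (by
            rw [le_centralizer_iff, zpowers_le]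
            exact mem_centralizer_iff.2 fun c hc => mem_centralizer_singleton_iff.1 hc.1.2)
      by_cases h4 : 4 ≤ Nat.card ↥((B ⊓ R) ⊔ zpowers a)
      · exact ⟨_, hel, sup_le inf_le_right (zpowers_le.2 haR), h4⟩
      exfalso
      have hBa : B ⊓ R ≤ zpowers a := by
        refine le_sup_left.trans (eq_of_le_of_card_ge (le_sup_right : zpowers a ≤ _) ?_).ge
        rw [Nat.card_zpowers, ha2]
        obtain ⟨k, hk⟩ := IsPGroup.iff_card.1 (CfsgLib.Base.isPGroup_of_isElementaryAbelian hel)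
        rw [hk] at h4 ⊢
        rcases k with _ | _ | k
        · norm_num
        · norm_num
        · exact absurd (le_trans (by norm_num) (Nat.pow_le_pow_right two_pos (Nat.le_add_left 2 k))) h4
      have hKa : ∀ k ∈ K, ∀ c ∈ zpowers a, k * c * k⁻¹ = c := by
        intro k hk c hc
        obtain ⟨i, rfl⟩ := mem_zpowers_iff.1 hc
        rw [((show Commute k a from mem_centralizer_singleton_iff.1 hk).zpow_right i).eq,
          mul_inv_cancel_right]
      let N : Subgroup G :=
        { carrier := {n | n ∈ K ⊓ normalizer (R : Set G) ∧ ∀ r ∈ R, n * r * n⁻¹ * r⁻¹ ∈ zpowers a}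
          one_mem' := ⟨one_mem _, fun r _ => by simp⟩
          mul_mem' := by
            rintro m n ⟨hm, hm'⟩ ⟨hn, hn'⟩
            refine ⟨mul_mem hm hn, fun r hr => ?_⟩
            have e : m * n * r * (m * n)⁻¹ * r⁻¹ =
                m * (n * r * n⁻¹ * r⁻¹) * m⁻¹ * (m * r * m⁻¹ * r⁻¹) := by group
            rw [e, hKa m hm.1 _ (hn' r hr)]
            exact mul_mem (hn' r hr) (hm' r hr)
          inv_mem' := by
            rintro n ⟨hn, hn'⟩
            refine ⟨inv_mem hn, fun r hr => ?_⟩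
            have := inv_mem (hn' _ ((mem_set_normalizer_iff''.1 hn.2 r).1 hr))
            simpa [mul_assoc] using this }
      have hNle : N ≤ K ⊓ normalizer (R : Set G) := fun n hn => hn.1
      have hNn : K ⊓ normalizer (R : Set G) ≤ normalizer (N : Set G) := by
        intro g hg
        have hcl : ∀ g ∈ K ⊓ normalizer (R : Set G), ∀ n ∈ N, g * n * g⁻¹ ∈ N := by
          intro g hg n hn
          refine ⟨mul_mem (mul_mem hg hn.1) (inv_mem hg), fun r hr => ?_⟩
          have hr' : g⁻¹ * r * g ∈ R := (mem_set_normalizer_iff''.1 hg.2 r).1 hr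
          have e : g * n * g⁻¹ * r * (g * n * g⁻¹)⁻¹ * r⁻¹ =
              g * (n * (g⁻¹ * r * g) * n⁻¹ * (g⁻¹ * r * g)⁻¹) * g⁻¹ := by group
          rw [e, hKa g hg.1 _ (hn.2 _ hr')]
          exact hn.2 _ hr'
        exact mem_set_normalizer_iff.2 fun n => ⟨hcl g hg n, fun hn => by
          simpa [mul_assoc] using hcl g⁻¹ (inv_mem hg) _ hn⟩
      have hsq : ∀ n ∈ N, n * n ∈ centralizer (R : Set G) := by
        intro n hn
        refine mem_centralizer_iff.2 fun r hr => ?_
        set c := n * r * n⁻¹ * r⁻¹ with hc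
        have hcm : c ∈ zpowers a := hn.2 r hr
        have hc2 : c * c = 1 := (sq c).symm.trans
          ((CfsgLib.Base.isElementaryAbelian_zpowers ((sq a).trans ha)).2 c hcm)
        have e : n * n * r * (n * n)⁻¹ = r := by
          calc n * n * r * (n * n)⁻¹ = n * c * n⁻¹ * (n * r * n⁻¹) := by rw [hc]; group
            _ = c * (n * r * n⁻¹) := by rw [hKa n hn.1.1 c hcm]
            _ = c * c * r := by rw [hc]; group
            _ = r := by rw [hc2, one_mul]
        exact (mul_inv_eq_iff_eq_mul.1 e).symm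
      have hBN : B ≤ N ⊓ T := by
        intro b hb
        refine mem_inf.2 ⟨⟨⟨hb.2, hTR (hBT hb)⟩, fun r hr => hBa (mem_inf.2 ⟨?_, ?_⟩)⟩, hBT hb⟩
        · have : r * b⁻¹ * r⁻¹ ∈ B := (mem_set_normalizer_iff.1 (hTB hr.1) _).1 (B.inv_mem hb)
          simpa [mul_assoc] using B.mul_mem hb this
        · exact R.mul_mem ((mem_set_normalizer_iff.1 (hTR (hBT hb)) r).1 hr) (R.inv_mem hr)
      have hBR : B ≤ R := hBN.trans (inf_le_of_sq_centralizes hKsol hT hNle hNn hsq)
      rw [inf_eq_left.2 hBR] at hBa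
      have := card_le_of_le hBa
      rw [Nat.card_zpowers, ha2] at this
      omega
    obtain ⟨B₁, hB₁, hVB₁, hB₁S⟩ :=
      exists_good_of_four hE' hE'S hSE' hV (hVR.trans (inf_le_left.trans hS')) hV4
    intro k hk
    obtain ⟨o, ho, n, hn, rfl⟩ := exists_mul_normalizer hT hk
    refine M.mul_mem ?_ ?_
    · have : o ∈ sigW A₁ := th_le_sigW haA₁ ha1 ho
      rw [hWS _ hA₁ hA₁S] at this
      exact le_normalizer this
    · have hVn : cj n V ≤ R := (cj_mono hVR).trans (mem_normalizer_iff_cj.1 hn.2).le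
      obtain ⟨B₂, hB₂, hVB₂, hB₂S⟩ := exists_good_of_four hE' hE'S hSE'
        (CfsgLib.Base.isElementaryAbelian_map _ hV) (hVn.trans (inf_le_left.trans hS'))
        (by rw [card_cj]; exact hV4)
      rw [hM, mem_normalizer_iff_cj]
      nth_rw 1 [← hW' _ hB₁ hB₁S]
      rw [← sigW_cj, h.sigW_eq_of_four (hB₁.cj n) hB₂ (cj_mono hVB₁) hVB₂
        (by rw [card_cj]; exact hV4), hW' _ hB₂ hB₂S]
  refine ⟨h.normalizer_ne_top hW hWtop, even_of_good hA (hAS.trans hSM), fun g hg => ?_⟩
  have hloc : CfsgLib.LocalEven.LocallyClosedIn 2 M := by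
    refine CfsgLib.LocalEven.locallyClosedIn_of_centralizer (fun a haM ha2 => ?_)
      (CfsgLib.LocalEven.sylow_normalizer_of_one ?_)
    · obtain ⟨m, hm, hmS⟩ := (sylIn_of_le S hSM).exists_conj
        (CfsgLib.LocalEven.isPGroup_zpowers_of_orderOf ha2) (zpowers_le.2 haM)
      have hma := hcent (m * a * m⁻¹) (cj_le_iff.1 hmS _ (mem_zpowers a))
        (by rw [show m * a * m⁻¹ = MulAut.conj m a from rfl, MulEquiv.orderOf_eq, ha2])
      intro c hc
      have : m * c * m⁻¹ ∈ M := hma (mem_centralizer_singleton_iff.2 (by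
        calc m * c * m⁻¹ * (m * a * m⁻¹) = m * (c * a) * m⁻¹ := by group
          _ = m * (a * c) * m⁻¹ := by rw [mem_centralizer_singleton_iff.1 hc]
          _ = _ := by group))
      exact (mem_set_normalizer_iff.1 (le_normalizer hm) c).2 this
    · refine ⟨S.subtype hSM, fun k hk => ?_⟩
      have hkS : k ∈ normalizer ((S : Subgroup G) : Set G) := by
        rwa [Sylow.coe_subtype, map_subgroupOf_eq_of_le hSM] at hk
      rw [hM, mem_normalizer_iff_cj, hWdef, ← sigW_cj]
      exact hWS _ (hA.cj k) ((cj_mono hAS).trans (mem_normalizer_iff_cj.1 hkS).le)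
  rw [← Nat.not_even_iff_odd, even_iff_two_dvd]
  exact hloc.not_dvd_inf_conj hg

/-- The case of trivial signalizers. -/
theorem NMin.embedded_of_trivial (h : NMin G p)
    (htriv : ∀ A : Subgroup G, Good A → ∀ a ∈ A, a ≠ 1 → th a = ⊥) :
    ∃ (S : Sylow 2 G) (M : Subgroup G), IsStronglyEmbedded M ∧ (S : Subgroup G) ≤ M ∧
      ∃ E, Good E ∧ E ≤ (S : Subgroup G) := by
  haveI := Fact.mk Nat.prime_two
  haveI := h.simple
  have hlocal : ∀ T : Subgroup G, IsPGroup 2 T → T ≠ ⊥ →
      (∀ t ∈ T, t ≠ 1 → t * t = 1 → (∀ u ∈ T, u * t = t * u) →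
        T ≤ centralizer ({t} : Set G) → th t = ⊥ → IsOfCharacteristicTwo (normalizer (T : Set G))) ∧
      Group.IsSolvable ↥(normalizer (T : Set G)) ∧
      ¬ Involves (Equiv.Perm (Fin 4)) ↥(normalizer (T : Set G)) := by
    intro T hT hT1
    have hsol := h.solvable_normalizer hT1 (h.ne_top_of_two_group hT)
    refine ⟨fun t _ ht1 _ _ hTt hth => ?_, hsol,
      h.not_involves (h.normalizer_ne_top hT1 (h.ne_top_of_two_group hT))⟩
    set N : Subgroup G := normalizer (T : Set G) with hN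
    have hX : oC N ≤ centralizer (T : Set G) := by
      intro x hx
      refine mem_centralizer_iff.2 fun u hu => ?_
      have hbot : oC N ⊓ T = ⊥ := by
        obtain ⟨m, hm⟩ := IsPGroup.iff_card.1 hT
        exact (Subgroup.disjoint_of_coprime_natCard (hm ▸
          (Nat.coprime_two_right.2 (odd_card_oC N)).pow_right m)).eq_bot
      have hd : x * (u * x⁻¹ * u⁻¹) ∈ oC N ⊓ T := mem_inf.2 ⟨(oC N).mul_mem hx
        ((mem_set_normalizer_iff.1 (le_normalizer_oC N (le_normalizer hu)) _).1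
          ((oC N).inv_mem hx)), by
        have := T.mul_mem ((mem_set_normalizer_iff.1 (oC_le N hx) u).1 hu) (T.inv_mem hu)
        simpa [mul_assoc] using this⟩
      rw [hbot, mem_bot] at hd
      have : x * u * x⁻¹ * u⁻¹ = 1 := by simpa [mul_assoc] using hd
      exact (mul_inv_eq_iff_eq_mul.1 (mul_inv_eq_one.1 this)).symm
    have hXt : oC N ≤ centralizer ({t} : Set G) := fun x hx =>
      mem_centralizer_singleton_iff.2 (mem_centralizer_iff.1 (hX hx) t ‹_›).symm
    have hbot : oC N = ⊥ := by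
      rw [← le_bot_iff, ← hth]
      exact le_core_of_normalizer (h.solvable_centralizer ht1) hT hTt
        (le_inf hXt (hX.trans (centralizer_le_normalizer _)))
        (inf_le_right.trans (le_normalizer_oC N)) (odd_card_oC N)
    rw [oC, map_eq_bot_iff_of_injective _ N.subtype_injective] at hbot
    haveI := hsol
    exact (CfsgLib.PLocal.isPConstrained_iff_of_eq_bot hbot).1
      (CfsgLib.PLocal.isPConstrained_of_isPSolvable CfsgLib.PLocal.isPSolvable_of_isSolvable)
  have hgood : GoodLocalHyp G := by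
    rintro M ⟨T, hT, hT1, rfl⟩ ⟨A, hA, hAN⟩
    obtain ⟨hchar, hsol, hfree⟩ := hlocal T hT hT1
    refine ⟨hsol, ?_, hfree⟩
    obtain ⟨U, hU, hAU⟩ := exists_sylIn_ge (CfsgLib.Base.isPGroup_of_isElementaryAbelian hA.el) hAN
    have hTU : T ≤ U := hU.le_of_normal hT le_normalizer le_rfl
    obtain ⟨t, htT, ht2, hUt⟩ := CfsgLib.LocalEven.exists_orderOf_eq_prime_central hU.isPGroup hTU
      hU.le hT1
    have htt : t * t = 1 := (sq t).symm.trans (orderOf_dvd_iff_pow_eq_one.1 (dvd_of_eq ht2))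
    have ht1 : t ≠ 1 := fun e => by rw [e, orderOf_one] at ht2; omega
    refine hchar t htT ht1 htt (fun u hu => mem_centralizer_singleton_iff.1 (hUt (hTU hu)))
      (hTU.trans hUt) (htriv (A ⊔ zpowers t) ⟨?_, ?_⟩ t (mem_sup_right (mem_zpowers t)) ht1)
    · refine CfsgLib.Base.isElementaryAbelian_sup hA.el
        (CfsgLib.Base.isElementaryAbelian_zpowers ((sq t).trans htt)) ?_
      rw [le_centralizer_iff, zpowers_le]
      exact mem_centralizer_iff.2 fun b hb => mem_centralizer_singleton_iff.1 (hUt (hAU hb))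
    · exact hA.eight.trans (card_le_of_le le_sup_left)
  obtain ⟨S⟩ : Nonempty (Sylow 2 G) := inferInstance
  obtain ⟨z, hzS, hz2, hzc⟩ := h.exists_central_involution S
  obtain ⟨D, hDS, hzD, hsyl, hD8, x, hx, hxne⟩ := h.exists_moved S hzS hz2 hzc
  have hz1 : z ≠ 1 := fun e => by rw [e, orderOf_one] at hz2; omega
  have hD0 : D ≠ ⊥ := fun e => hz1 (mem_bot.1 (e ▸ zOmega_le D hzD))
  have hA₀ : Good (zOmega D) := ⟨isElementaryAbelian_zOmega D, hD8⟩
  obtain ⟨M₀, hM₀⟩ := exists_top_of_good hgood h.even_card S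
    ⟨_, hA₀, (zOmega_le D).trans hDS⟩
  have hxM : x ∈ M₀ := by
    refine local_le_top hgood h.even_card (Nat.card G) _ _ ⟨D, S.2.to_le hDS, hD0, rfl⟩
      ⟨hsyl.le, hsyl.isPGroup, fun C hC hle hCN => hsyl.eq_of_le hC hle hCN⟩
      ⟨_, hA₀, le_inf ((zOmega_le D).trans hDS) ((zOmega_le D).trans le_normalizer)⟩
      (Nat.le_add_left _ _) S M₀ hM₀ inf_le_left hx
  have hM₀sol : Group.IsSolvable ↥M₀ := by
    obtain ⟨T, hT, hT1, hTe⟩ := hM₀.isLocal
    exact hTe ▸ (hlocal T hT hT1).2.1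
  obtain ⟨E, hE, hES, hSE⟩ := h.exists_normal_good S hzS hz2 hzc hM₀sol hM₀.le hDS hzD hx hxM hxne
  have hall : ∀ a : G, a ≠ 1 → a * a = 1 → th a = ⊥ := by
    intro a ha1 ha
    obtain ⟨S', hS'⟩ := (CfsgLib.Base.isPGroup_of_isElementaryAbelian
      (CfsgLib.Base.isElementaryAbelian_zpowers ((sq a).trans ha))).exists_le_sylow
    obtain ⟨E', hE', hE'S, hSE'⟩ := exists_normal_good_all hE hES hSE S'
    obtain ⟨A, hA, haA, -⟩ := exists_good_of_invol hE' hE'S hSE' ha (hS' (mem_zpowers a))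
    exact htriv A hA a haA ha1
  have hloc : CfsgLib.LocalEven.S4W.LocalHyp G := by
    rintro M ⟨T, hT, hT1, rfl⟩
    obtain ⟨hchar, hsol, hfree⟩ := hlocal T hT hT1
    refine ⟨hsol, ?_, hfree⟩
    obtain ⟨t, htT, ht2, hTt⟩ := CfsgLib.LocalEven.exists_orderOf_eq_prime_central hT le_rfl
      le_normalizer hT1
    have htt : t * t = 1 := (sq t).symm.trans (orderOf_dvd_iff_pow_eq_one.1 (dvd_of_eq ht2))
    have ht1 : t ≠ 1 := fun e => by rw [e, orderOf_one] at ht2; omega
    exact hchar t htT ht1 htt (fun u hu => mem_centralizer_singleton_iff.1 (hTt hu)) hTt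
      (hall t ht1 htt)
  have hO : pCore 2 G = ⊥ :=
    (inferInstance : (pCore 2 G).Normal).eq_bot_or_eq_top.resolve_right fun e =>
      h.ne_top_of_two_group (CfsgLib.Base.isPGroup_pCore 2 G) e
  obtain ⟨M, hM, hMmax⟩ := Set.exists_max_image {N : Subgroup G | IsTwoLocal N ∧ M₀ ≤ N}
    (fun N => Nat.card N) (Set.toFinite _) ⟨M₀, hM₀.isLocal, le_rfl⟩
  refine ⟨S, M, CfsgLib.LocalEven.S4W.isStronglyEmbedded hloc h.even_card hO ⟨hM.1, ?_⟩,
    hM₀.le.trans hM.2, E, hE, hES⟩
  exact fun N hN hle => (eq_of_le_of_card_ge hle (hMmax N ⟨hN, hM.2.trans hle⟩)).symm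

/-- The minimal configuration has a strongly embedded subgroup over a Sylow subgroup of rank at
least three. -/
theorem NMin.exists_embedded (h : NMin G p) :
    ∃ (S : Sylow 2 G) (M : Subgroup G), IsStronglyEmbedded M ∧ (S : Subgroup G) ≤ M ∧
      ∃ E, Good E ∧ E ≤ (S : Subgroup G) := by
  haveI := Fact.mk Nat.prime_two
  by_cases hc : ∃ A : Subgroup G, Good A ∧ sigW A ≠ ⊥
  · obtain ⟨A, hA, hW⟩ := hc
    obtain ⟨S, hS⟩ := (CfsgLib.Base.isPGroup_of_isElementaryAbelian hA.el).exists_le_sylow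
    exact ⟨S, h.embedded_of_sigW hA hS hW⟩
  · push Not at hc
    exact h.embedded_of_trivial fun A hA a ha ha1 => le_bot_iff.1 (hc A hA ▸ th_le_sigW ha ha1)

end CfsgLib.NilPPrime
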