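import Cfsg.Agent.Lib.FgsB.NilpotentPPrime.Signal
import Cfsg.Agent.Lib.LocalEven.S4Solvable.StrongEmbedding

/-!
# The largest local subgroup over a Sylow subgroup

The argument for `S₄`-free `2`-local subgroups of characteristic two, for the local subgroups that
contain an elementary abelian subgroup of order eight.
-/

set_option autoImplicit false

namespace CfsgLib.NilPPrime

open Cfsg Equiv CfsgLib.Techniques CfsgLib.LocalEven CfsgLib.LocalEven.S4W

variable {G : Type*} [Group G] [Finite G]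

/-- The hypothesis on the `2`-local subgroups that contain a good subgroup. -/
def GoodLocalHyp (G : Type*) [Group G] : Prop :=
  ∀ M : Subgroup G, IsTwoLocal M → (∃ A, Good A ∧ A ≤ M) →
    Group.IsSolvable M ∧ IsOfCharacteristicTwo M ∧ ¬ Involves (Perm (Fin 4)) M

/-- A central involution of a Sylow subgroup of `N(Jel U)` and the subgroup it generates there. -/
theorem exists_goodW (hloc : GoodLocalHyp G) {N U : Subgroup G} (hN : IsTwoLocal N)
    (hU : Fusion.IsSylIn 2 U N) (hgood : ∃ A, Good A ∧ A ≤ U) (hU1 : U ≠ ⊥) :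
    ∃ W U' : Subgroup G, IsTwoLocal (Subgroup.normalizer (W : Set G)) ∧
      N ≤ Subgroup.normalizer (W : Set G) ∧
      Fusion.IsSylIn 2 U' (Subgroup.normalizer (Jel U : Set G)) ∧ U ≤ U' ∧
      U' ≤ Subgroup.normalizer (W : Set G) ∧
      ∀ X, IsTwoLocal X → Fusion.IsSylIn 2 U X → X ≤ Subgroup.normalizer (W : Set G) := by
  haveI : Fact (Nat.Prime 2) := ⟨Nat.prime_two⟩
  obtain ⟨hUN, hUp, hUmax⟩ := hU
  set L := Subgroup.normalizer (Jel U : Set G) with hL
  have hUL : U ≤ L := Subgroup.le_normalizer.trans (normalizer_le_normalizer_Jel U)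
  obtain ⟨U₀, hU₀⟩ := (hUp.comap_of_injective L.subtype Subtype.val_injective).exists_le_sylow
  set U' := (U₀ : Subgroup L).map L.subtype with hU'
  have hUU' : U ≤ U' := fun y hy => ⟨⟨y, hUL hy⟩, hU₀ hy, rfl⟩
  have hU'L : U' ≤ L := Subgroup.map_subtype_le _
  have hU'p : IsPGroup 2 U' := U₀.2.map _
  have hU'1 : U' ≠ ⊥ := fun h => hU1 (eq_bot_iff.2 (h ▸ hUU'))
  haveI : Nontrivial U' := (Subgroup.nontrivial_iff_ne_bot U').2 hU'1
  obtain ⟨z, hz2⟩ : ∃ z : Subgroup.center U', orderOf z = 2 := by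
    haveI := hU'p.center_nontrivial
    obtain ⟨j, hj⟩ := IsPGroup.iff_card.1 (hU'p.to_subgroup (Subgroup.center U'))
    refine exists_prime_orderOf_dvd_card' 2 ?_
    rw [hj]
    refine dvd_pow_self 2 fun h0 => ?_
    rw [h0, pow_zero, Subgroup.card_eq_one] at hj
    exact (Subgroup.nontrivial_iff_ne_bot _).1 inferInstance hj
  set z₀ : G := ((z : U') : G) with hz₀
  have hz₀2 : z₀ * z₀ = 1 := by
    have h := pow_orderOf_eq_one z
    rw [hz2, sq] at h
    exact congrArg (fun w : Subgroup.center U' => ((w : U') : G)) h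
  have hz₀1 : z₀ ≠ 1 := fun h => by
    have h1 : z = 1 := Subtype.ext (Subtype.ext h)
    rw [h1, orderOf_one] at hz2
    exact absurd hz2 (by norm_num)
  have hz₀U' : z₀ ∈ U' := (z : U').2
  have hzc : ∀ t ∈ U', t * z₀ = z₀ * t := fun t ht =>
    congrArg Subtype.val (Subgroup.mem_center_iff.1 z.2 ⟨t, ht⟩)
  obtain ⟨T, hTp, hT1, rfl⟩ := hN
  have hTU : T ≤ U := by
    have := hUmax (U ⊔ T) (hUp.to_sup_of_normal_right' hTp hUN) le_sup_left
      (sup_le hUN Subgroup.le_normalizer)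
    exact this ▸ le_sup_right
  have hzU : z₀ ∈ U := by
    have hcent : z₀ ∈ Subgroup.centralizer (U : Set G) :=
      Subgroup.mem_centralizer_iff.2 fun t ht => hzc t (hUU' ht)
    have hzp : IsPGroup 2 (Subgroup.zpowers z₀) := hU'p.to_le (Subgroup.zpowers_le.2 hz₀U')
    have hzn : z₀ ∈ Subgroup.normalizer (T : Set G) :=
      Subgroup.centralizer_le_normalizer _ (Subgroup.centralizer_le hTU hcent)
    have := hUmax (U ⊔ Subgroup.zpowers z₀) (hUp.to_sup_of_normal_left' hzp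
      (Subgroup.zpowers_le.2 (Subgroup.centralizer_le_normalizer _ hcent))) le_sup_left
      (sup_le hUN (Subgroup.zpowers_le.2 hzn))
    exact this ▸ Subgroup.mem_sup_right (Subgroup.mem_zpowers z₀)
  set Z : Subgroup G := Subgroup.zpowers z₀
  set W := Subgroup.closure {y | ∃ l ∈ L, ∃ w ∈ Z, y = l * w * l⁻¹} with hW
  have hmapL : ∀ A, MaxEl U A → ∀ l ∈ L, MaxEl U (cj l A) := fun A hA l hl =>
    hA.map ((cj_mono hA.le_Jel).trans ((le_of_eq (mem_normalizer_iff_cj.1 hl)).trans (Jel_le U)))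
  have hWA : ∀ A, MaxEl U A → W ≤ A := by
    intro A hA
    rw [hW, Subgroup.closure_le]
    rintro _ ⟨l, hl, w, hw, rfl⟩
    have hA' := hmapL A hA l⁻¹ (L.inv_mem hl)
    suffices hz : z₀ ∈ cj l⁻¹ A by
      have := mem_cj.1 ((Subgroup.zpowers_le.2 hz) hw)
      simpa using this
    -- `z₀` lies in every elementary abelian subgroup of largest order
    have hcent : ∀ b ∈ cj l⁻¹ A, b * z₀ = z₀ * b := fun b hb => hzc b (hUU' (hA'.le hb))
    have hZel : IsElementaryAbelian 2 Z := by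
      refine ⟨inferInstance, fun b hb => ?_⟩
      obtain ⟨m, rfl⟩ := Subgroup.mem_zpowers_iff.1 hb
      rw [← zpow_natCast, zpow_comm, zpow_natCast, sq, hz₀2, one_zpow]
    have hZc : Z ≤ Subgroup.centralizer (cj l⁻¹ A : Set G) := Subgroup.zpowers_le.2
      (Subgroup.mem_centralizer_iff.2 hcent)
    have hel : IsElementaryAbelian 2 (⨆ i : Bool, bif i then cj l⁻¹ A else Z) := el_iSup
      (fun i => by cases i <;> first | exact hA'.el | exact hZel)
      (fun i j => by
        cases i <;> cases j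
        · exact le_centralizer_el hZel
        · exact hZc
        · exact Subgroup.le_centralizer_iff.1 hZc
        · exact le_centralizer_el hA'.el)
    have heq : cj l⁻¹ A = ⨆ i : Bool, bif i then cj l⁻¹ A else Z :=
      Subgroup.eq_of_le_of_card_ge (le_iSup_of_le true le_rfl)
        (hA'.card_le _ (iSup_le fun i => by
          cases i <;> first | exact hA'.le | exact Subgroup.zpowers_le.2 hzU) hel)
    rw [heq]
    exact le_iSup (fun i : Bool => bif i then cj l⁻¹ A else Z) false (Subgroup.mem_zpowers z₀)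
  obtain ⟨A₀, hA₀⟩ := exists_maxEl U
  have hWel : IsElementaryAbelian 2 W := el_mono hA₀.el (hWA A₀ hA₀)
  have hWU : W ≤ U := (hWA A₀ hA₀).trans hA₀.le
  have hzW : z₀ ∈ W :=
    Subgroup.subset_closure ⟨1, L.one_mem, z₀, Subgroup.mem_zpowers z₀, by group⟩
  have hLW : L ≤ Subgroup.normalizer (W : Set G) := by
    intro g hg
    rw [mem_normalizer_iff_cj]
    refine Subgroup.eq_of_le_of_card_ge ?_ (le_of_eq (card_cj g W).symm)
    show Subgroup.map _ W ≤ W
    rw [hW, MonoidHom.map_closure, Subgroup.closure_le]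
    rintro _ ⟨_, ⟨l, hl, w, hw, rfl⟩, rfl⟩
    exact Subgroup.subset_closure ⟨g * l, L.mul_mem hg hl, w, hw, by
      show g * (l * w * l⁻¹) * g⁻¹ = _
      group⟩
  have hW1 : W ≠ ⊥ := fun h => hz₀1 (Subgroup.mem_bot.1 (h ▸ hzW))
  have hJ1 : Jel U ≠ ⊥ := fun h => hW1 (eq_bot_iff.2 (h ▸ (hWA A₀ hA₀).trans hA₀.le_Jel))
  obtain ⟨hsolL, -, hfreeL⟩ := hloc L ⟨Jel U, hUp.to_le (Jel_le U), hJ1, rfl⟩
    (hgood.imp fun _ h => ⟨h.1, h.2.trans hUL⟩)
  have hbdd : Bdd L W := bdd U₀ hsolL hfreeL hWel (hWU.trans hUL) hLW hW fun t ht w hw => by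
    obtain ⟨m, rfl⟩ := Subgroup.mem_zpowers_iff.1 hw
    exact ((show Commute (t : G) z₀ from hzc t ⟨t, ht, rfl⟩).zpow_right m).eq
  have hmain : ∀ X, IsTwoLocal X → Fusion.IsSylIn 2 U X → X ≤ Subgroup.normalizer (W : Set G) := by
    rintro X hX ⟨hUX, -, hmax⟩
    obtain ⟨hsol, hchar, hfree⟩ := hloc X hX (hgood.imp fun _ h => ⟨h.1, h.2.trans hUX⟩)
    exact le_normalizer hUp hWel hWU (hUL.trans hLW) hWA hUL hbdd hUX
      (fun P hP hle hPX => hmax P hP hle hPX) hsol hfree hchar (inf_le_right.trans hLW)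
  have hsylU' : Fusion.IsSylIn 2 U' L := (Fusion.exists_sylow_iff hU'L).1
    ⟨U₀, (Subgroup.comap_map_eq_self_of_injective L.subtype_injective _).symm⟩
  exact ⟨W, U', ⟨W, hUp.to_le hWU, hW1, rfl⟩,
    hmain _ ⟨T, hTp, hT1, rfl⟩ ⟨hUN, hUp, hUmax⟩, hsylU', hUU', hU'L.trans hLW, hmain⟩

theorem exists_top_of_good (hloc : GoodLocalHyp G) (heven : Even (Nat.card G)) (S : Sylow 2 G)
    (hgood : ∃ A, Good A ∧ A ≤ (S : Subgroup G)) :
    ∃ M, Top S M := by
  haveI : Fact (Nat.Prime 2) := ⟨Nat.prime_two⟩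
  have hS1 : (S : Subgroup G) ≠ ⊥ := fun h => by
    have := S.not_dvd_index
    rw [h, Subgroup.index_bot] at this
    exact this (even_iff_two_dvd.1 heven)
  set N := Subgroup.normalizer ((S : Subgroup G) : Set G) with hN
  have hNloc : IsTwoLocal N := ⟨S, S.2, hS1, rfl⟩
  obtain ⟨W, U', hWloc, hNW, -, -, -, hall⟩ :=
    exists_goodW hloc hNloc (isSylIn_of_le S Subgroup.le_normalizer) hgood hS1
  exact ⟨_, hWloc, Subgroup.le_normalizer.trans hNW, fun X hX hSX => hall X hX (isSylIn_of_le S hSX)⟩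

theorem top_eq_of_good (hloc : GoodLocalHyp G) (heven : Even (Nat.card G)) :
    ∀ d : ℕ, ∀ n : ℕ, Nat.card G ≤ n + d → 2 ≤ n → ∀ (S₁ S₂ : Sylow 2 G) (M₁ M₂ : Subgroup G),
      Top S₁ M₁ → Top S₂ M₂ → (∃ A, Good A ∧ A ≤ (S₁ : Subgroup G) ⊓ S₂) →
      n ≤ Nat.card ↥((S₁ : Subgroup G) ⊓ S₂) → M₁ = M₂ := by
  haveI : Fact (Nat.Prime 2) := ⟨Nat.prime_two⟩
  intro d
  induction d with
  | zero =>
    intro n hn _ S₁ S₂ M₁ M₂ h₁ h₂ _ hI
    have h : (S₁ : Subgroup G) ⊓ S₂ = ⊤ := Subgroup.eq_top_of_le_card _ (by omega)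
    have : S₁ = S₂ := Sylow.ext ((inf_eq_top_iff.1 h).1.trans (inf_eq_top_iff.1 h).2.symm)
    subst this
    exact h₁.unique h₂
  | succ d ihd =>
    intro n hn hn2 S₁ S₂ M₁ M₂ h₁ h₂ hgood hI
    by_cases hlt : n < Nat.card ↥((S₁ : Subgroup G) ⊓ S₂)
    · exact ihd (n + 1) (by omega) (by omega) S₁ S₂ M₁ M₂ h₁ h₂ hgood hlt
    set T := (S₁ : Subgroup G) ⊓ S₂ with hT
    have hTn : Nat.card T = n := by omega
    by_cases heq : S₁ = S₂
    · subst heq; exact h₁.unique h₂
    have hTp : IsPGroup 2 T := S₁.2.to_le inf_le_left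
    have hT1 : T ≠ ⊥ := fun h => by rw [h, Subgroup.card_bot] at hTn; omega
    -- local subgroups with large Sylow subgroups
    have hA : ∀ k, ∀ (N U : Subgroup G), IsTwoLocal N → Fusion.IsSylIn 2 U N →
        (∃ A, Good A ∧ A ≤ U) → n < Nat.card U → Nat.card G ≤ Nat.card U + k →
        ∀ (S : Sylow 2 G) (M : Subgroup G), Top S M → U ≤ S → N ≤ M := by
      intro k
      induction k with
      | zero =>
        intro N U hN hU _ _ hk S M hM hUS
        refine hM.greatest N hN ?_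
        rw [Subgroup.eq_top_of_le_card U (by omega)] at hU
        exact le_top.trans hU.1
      | succ k ihk =>
        intro N U hN hU hgU hUn hk S M hM hUS
        rcases eq_or_lt_of_le hUS with e | hlt'
        · exact hM.greatest N hN (e ▸ hU.1)
        have hU1 : U ≠ ⊥ := fun h => by rw [h, Subgroup.card_bot] at hUn; omega
        obtain ⟨W, U', hWloc, hNW, hU'L, hUU', hU'W, -⟩ := exists_goodW hloc hN hU hgU hU1
        have hbig : Nat.card U < Nat.card U' := by
          refine lt_of_le_of_ne (Subgroup.card_le_of_le hUU') fun e => ?_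
          have heU : U = U' := Subgroup.eq_of_le_of_card_ge hUU' e.ge
          have hlt2 := Fusion.lt_inf_normalizer S.2 hlt'
          have := hU'L.2.2 _ (S.2.to_le inf_le_left : IsPGroup 2 ↥((S : Subgroup G) ⊓
            Subgroup.normalizer (U : Set G))) (heU ▸ hlt2.le)
            (inf_le_right.trans (normalizer_le_normalizer_Jel U))
          exact hlt2.ne (heU.trans this.symm)
        obtain ⟨V, hV⟩ := (hU'L.2.1.comap_of_injective (Subgroup.normalizer (W : Set G)).subtype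
          Subtype.val_injective).exists_le_sylow
        set V' := (V : Subgroup (Subgroup.normalizer (W : Set G))).map
          (Subgroup.normalizer (W : Set G)).subtype with hV'
        have hU'V : U' ≤ V' := fun y hy => ⟨⟨y, hU'W hy⟩, hV hy, rfl⟩
        obtain ⟨S₃, hS₃⟩ := (V.2.map (Subgroup.normalizer (W : Set G)).subtype).exists_le_sylow
        have hgV : ∃ A, Good A ∧ A ≤ V' := hgU.imp fun _ h => ⟨h.1, h.2.trans (hUU'.trans hU'V)⟩
        obtain ⟨M₃, hM₃⟩ := exists_top_of_good hloc heven S₃ (hgV.imp fun _ h => ⟨h.1, h.2.trans hS₃⟩)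
        have hMM : M = M₃ := by
          refine ihd (n + 1) (by omega) (by omega) S S₃ M M₃ hM hM₃
            (hgU.imp fun _ h => ⟨h.1, le_inf (h.2.trans hUS) (h.2.trans ((hUU'.trans hU'V).trans hS₃))⟩) ?_
          exact hUn.trans_le (Subgroup.card_le_of_le (le_inf hUS ((hUU'.trans hU'V).trans hS₃)))
        have hV'syl : Fusion.IsSylIn 2 V' (Subgroup.normalizer (W : Set G)) :=
          (Fusion.exists_sylow_iff (Subgroup.map_subtype_le _)).1
            ⟨V, (Subgroup.comap_map_eq_self_of_injective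
              (Subgroup.normalizer (W : Set G)).subtype_injective _).symm⟩
        have hcard := Subgroup.card_le_of_le hU'V
        exact hMM ▸ hNW.trans (ihk _ V' hWloc hV'syl hgV (by omega) (by omega) S₃ M₃ hM₃ hS₃)
    have hTlt₁ : T < (S₁ : Subgroup G) := lt_of_le_of_ne inf_le_left fun e => heq
      (Sylow.ext ((S₁.3 S₂.2 (e.ge.trans inf_le_right)).symm))
    have hTlt₂ : T < (S₂ : Subgroup G) := lt_of_le_of_ne inf_le_right fun e => heq
      (Sylow.ext (S₂.3 S₁.2 (e.ge.trans inf_le_left)))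
    set N := Subgroup.normalizer (T : Set G) with hN
    set R₁ := (S₁ : Subgroup G) ⊓ N with hR₁
    set R₂ := (S₂ : Subgroup G) ⊓ N with hR₂
    have hR₁n : n < Nat.card R₁ := hTn ▸ Transfer.card_lt_card_of_lt (Fusion.lt_inf_normalizer S₁.2 hTlt₁)
    have hR₂n : n < Nat.card R₂ := hTn ▸ Transfer.card_lt_card_of_lt (Fusion.lt_inf_normalizer S₂.2 hTlt₂)
    obtain ⟨U₀, hU₀⟩ := ((S₁.2.to_le (inf_le_left : R₁ ≤ _)).comap_of_injective N.subtype
      Subtype.val_injective).exists_le_sylow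
    set U := (U₀ : Subgroup N).map N.subtype with hU
    have hR₁U : R₁ ≤ U := fun y hy => ⟨⟨y, hy.2⟩, hU₀ hy, rfl⟩
    have hUsyl : Fusion.IsSylIn 2 U N := (Fusion.exists_sylow_iff (Subgroup.map_subtype_le _)).1
      ⟨U₀, (Subgroup.comap_map_eq_self_of_injective N.subtype_injective _).symm⟩
    obtain ⟨S₃, hS₃⟩ := (U₀.2.map N.subtype).exists_le_sylow
    obtain ⟨A, hAg, hAT⟩ := hgood
    have hAR₁ : A ≤ R₁ := le_inf (hAT.trans inf_le_left) (hAT.trans Subgroup.le_normalizer)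
    obtain ⟨M₃, hM₃⟩ := exists_top_of_good hloc heven S₃ ⟨A, hAg, hAR₁.trans (hR₁U.trans hS₃)⟩
    have hUn : n < Nat.card U := hR₁n.trans_le (Subgroup.card_le_of_le hR₁U)
    have hNM₃ : N ≤ M₃ := hA (Nat.card G) N U ⟨T, hTp, hT1, rfl⟩ hUsyl ⟨A, hAg, hAR₁.trans hR₁U⟩ hUn (by omega) S₃ M₃ hM₃ hS₃
    have h13 : M₁ = M₃ := ihd (n + 1) (by omega) (by omega) S₁ S₃ M₁ M₃ h₁ hM₃
      ⟨A, hAg, le_inf (hAT.trans inf_le_left) (hAR₁.trans (hR₁U.trans hS₃))⟩
      (hR₁n.trans_le (Subgroup.card_le_of_le (le_inf inf_le_left (hR₁U.trans hS₃))))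
    obtain ⟨g, hgN, hg⟩ := hUsyl.exists_conj_le (S₂.2.to_le (inf_le_left : R₂ ≤ _)) (inf_le_right : R₂ ≤ N)
    have h23 : M₂ = M₃ := by
      have hR₂' : R₂ ≤ ((g⁻¹ • S₃ : Sylow 2 G) : Subgroup G) := fun y hy => by
        rw [Sylow.coe_subgroup_smul, ← Base.map_conj_eq_smul]
        exact mem_cj.2 (by simpa using hS₃ (hg y hy))
      refine (ihd (n + 1) (by omega) (by omega) S₂ (g⁻¹ • S₃) M₂ _ h₂ (hM₃.cj g⁻¹)
        ⟨A, hAg, le_inf (hAT.trans inf_le_right)
          ((le_inf (hAT.trans inf_le_right) (hAT.trans Subgroup.le_normalizer)).trans hR₂')⟩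
        (hR₂n.trans_le (Subgroup.card_le_of_le (le_inf inf_le_left hR₂')))).trans ?_
      exact cj_of_mem (M₃.inv_mem (hNM₃ hgN))
    exact h13.trans h23.symm


/-- A local subgroup whose Sylow subgroup contains a good subgroup lies below the largest local
subgroup of the Sylow subgroup. -/
theorem local_le_top (hloc : GoodLocalHyp G) (heven : Even (Nat.card G)) :
    ∀ k, ∀ (N U : Subgroup G), IsTwoLocal N → Fusion.IsSylIn 2 U N →
      (∃ A, Good A ∧ A ≤ U) → Nat.card G ≤ Nat.card U + k →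
      ∀ (S : Sylow 2 G) (M : Subgroup G), Top S M → U ≤ S → N ≤ M := by
  haveI : Fact (Nat.Prime 2) := ⟨Nat.prime_two⟩
  intro k
  induction k with
  | zero =>
    intro N U hN hU _ hk S M hM hUS
    refine hM.greatest N hN ?_
    rw [Subgroup.eq_top_of_le_card U (by omega)] at hU
    exact le_top.trans hU.1
  | succ k ihk =>
    intro N U hN hU hgU hk S M hM hUS
    rcases eq_or_lt_of_le hUS with e | hlt'
    · exact hM.greatest N hN (e ▸ hU.1)
    have hU2 : 8 ≤ Nat.card U := hgU.elim fun _ h => h.1.eight.trans (Subgroup.card_le_of_le h.2)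
    have hU1 : U ≠ ⊥ := fun h => by rw [h, Subgroup.card_bot] at hU2; omega
    obtain ⟨W, U', hWloc, hNW, hU'L, hUU', hU'W, -⟩ := exists_goodW hloc hN hU hgU hU1
    have hbig : Nat.card U < Nat.card U' := by
      refine lt_of_le_of_ne (Subgroup.card_le_of_le hUU') fun e => ?_
      have heU : U = U' := Subgroup.eq_of_le_of_card_ge hUU' e.ge
      have hlt2 := Fusion.lt_inf_normalizer S.2 hlt'
      have := hU'L.2.2 _ (S.2.to_le inf_le_left : IsPGroup 2 ↥((S : Subgroup G) ⊓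
        Subgroup.normalizer (U : Set G))) (heU ▸ hlt2.le)
        (inf_le_right.trans (normalizer_le_normalizer_Jel U))
      exact hlt2.ne (heU.trans this.symm)
    obtain ⟨V, hV⟩ := (hU'L.2.1.comap_of_injective (Subgroup.normalizer (W : Set G)).subtype
      Subtype.val_injective).exists_le_sylow
    set V' := (V : Subgroup (Subgroup.normalizer (W : Set G))).map
      (Subgroup.normalizer (W : Set G)).subtype with hV'
    have hU'V : U' ≤ V' := fun y hy => ⟨⟨y, hU'W hy⟩, hV hy, rfl⟩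
    obtain ⟨S₃, hS₃⟩ := (V.2.map (Subgroup.normalizer (W : Set G)).subtype).exists_le_sylow
    have hgV : ∃ A, Good A ∧ A ≤ V' := hgU.imp fun _ h => ⟨h.1, h.2.trans (hUU'.trans hU'V)⟩
    obtain ⟨M₃, hM₃⟩ := exists_top_of_good hloc heven S₃ (hgV.imp fun _ h => ⟨h.1, h.2.trans hS₃⟩)
    have hMM : M = M₃ := by
      refine top_eq_of_good hloc heven (Nat.card G) 2 (by omega) le_rfl S S₃ M M₃ hM hM₃
        (hgU.imp fun _ h => ⟨h.1, le_inf (h.2.trans hUS) (h.2.trans ((hUU'.trans hU'V).trans hS₃))⟩) ?_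
      exact (show 2 ≤ Nat.card U by omega).trans (Subgroup.card_le_of_le (le_inf hUS ((hUU'.trans hU'V).trans hS₃)))
    have hV'syl : Fusion.IsSylIn 2 V' (Subgroup.normalizer (W : Set G)) :=
      (Fusion.exists_sylow_iff (Subgroup.map_subtype_le _)).1
        ⟨V, (Subgroup.comap_map_eq_self_of_injective
          (Subgroup.normalizer (W : Set G)).subtype_injective _).symm⟩
    have hcard := Subgroup.card_le_of_le hU'V
    exact hMM ▸ hNW.trans (ihk _ V' hWloc hV'syl hgV (by omega) S₃ M₃ hM₃ hS₃)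

end CfsgLib.NilPPrime
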