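import Cfsg.Agent.Lib.FgsB.NilpotentPPrime.CountCore

/-!
# Solvability of groups with nilpotent `p'`-subgroups, `p > 3`
-/

set_option autoImplicit false
set_option linter.style.haveILetI false

namespace CfsgLib.NilPPrime

open Cfsg Subgroup

universe u

theorem NMin.false {G : Type u} [Group G] [Finite G] {p : ℕ} (h : NMin G p) : False := by
  obtain ⟨S, M, z, c⟩ := h.exists_emb
  by_cases hX : ∀ x ∈ oC M, x * z = z * x
  · exact c.false_of_trivial hX
  · exact c.false_of_moving hX

/-- A group of minimal order gives the configuration. -/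
theorem nmin_of_minimal {G : Type u} [Group G] [Finite G] {p : ℕ} (hp : p.Prime) (hp5 : 5 ≤ p)
    (h : ∀ H : Subgroup G, (Nat.card H).Coprime p → Group.IsNilpotent H)
    (hns : ¬ Group.IsSolvable G)
    (ih : ∀ (X : Type u) [Group X] [Finite X], Nat.card X < Nat.card G →
      (∀ H : Subgroup X, (Nat.card H).Coprime p → Group.IsNilpotent H) → Group.IsSolvable X) :
    NMin G p := by
  haveI := Fact.mk hp
  have hproper : ∀ H : Subgroup G, H ≠ ⊤ → Group.IsSolvable H := by
    intro H hH
    refine ih H ?_ fun K hK => ?_
    · have := CfsgLib.Techniques.card_lt_of_lt (lt_top_iff_ne_top.2 hH)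
      rwa [card_top] at this
    · haveI := h (K.map H.subtype) (by rwa [card_map_of_injective H.subtype_injective])
      exact Group.nilpotent_of_mulEquiv (K.equivMapOfInjective _ H.subtype_injective).symm
  haveI : Nontrivial G := by
    by_contra hc
    rw [not_nontrivial_iff_subsingleton] at hc
    exact hns inferInstance
  refine ⟨hp, hp5, h, ⟨fun N hN => ?_⟩, hns, hproper⟩
  by_contra hcon
  push Not at hcon
  obtain ⟨hN1, hN2⟩ := hcon
  haveI := hproper N hN2
  -- an abelian normal subgroup
  obtain ⟨A, hA, hA1, hA2, hAc⟩ : ∃ A : Subgroup G, A.Normal ∧ A ≠ ⊥ ∧ A ≠ ⊤ ∧ IsMulCommutative A := by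
    obtain ⟨n, hn⟩ := (‹Group.IsSolvable N›).solvable
    have hex : ∃ n, derivedSeries N n = ⊥ := ⟨n, hn⟩
    classical
    obtain ⟨m, hm⟩ : ∃ m, Nat.find hex = m + 1 := by
      refine Nat.exists_eq_succ_of_ne_zero fun h0 => ?_
      have h1 := Nat.find_spec hex
      rw [h0, derivedSeries_zero] at h1
      apply hN1
      rw [← range_subtype N, MonoidHom.range_eq_map, h1, Subgroup.map_bot]
    have hm1 : derivedSeries N m ≠ ⊥ := Nat.find_min hex (by omega)
    have hm2 : ⁅derivedSeries N m, derivedSeries N m⁆ = ⊥ := by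
      rw [← derivedSeries_succ, ← hm]; exact Nat.find_spec hex
    refine ⟨(derivedSeries N m).map N.subtype, inferInstance, fun e => hm1
      ((map_eq_bot_iff_of_injective _ N.subtype_injective).1 e),
      fun e => hN2 (top_le_iff.1 (e ▸ map_subtype_le _)), ?_⟩
    refine CfsgLib.Base.isMulCommutative_subgroup_iff.2 ?_
    rintro _ ⟨a, ha, rfl⟩ _ ⟨b, hb, rfl⟩
    exact congrArg N.subtype (commutatorElement_eq_one_iff_mul_comm.1
      (mem_bot.1 (hm2 ▸ commutator_mem_commutator ha hb)))
  haveI := hA
  haveI : Group.IsSolvable A := hproper A hA2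
  have hlt : Nat.card (G ⧸ A) < Nat.card G := by
    have h1 := card_eq_card_quotient_mul_card_subgroup A
    have h2 : 1 < Nat.card A := Finite.one_lt_card_iff_nontrivial.2 ((nontrivial_iff_ne_bot A).2 hA1)
    have h3 : 0 < Nat.card (G ⧸ A) := Nat.card_pos
    nlinarith
  let π := QuotientGroup.mk' A
  haveI : Group.IsSolvable (G ⧸ A) := by
    refine ih (G ⧸ A) hlt fun K hK => ?_
    set K' : Subgroup G := K.comap π with hK'
    by_cases htop : K' = ⊤
    · exfalso
      have hKtop : K = ⊤ := by
        rw [← map_comap_eq_self_of_surjective (QuotientGroup.mk'_surjective A) K, ← hK', htop,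
          map_top_of_surjective _ (QuotientGroup.mk'_surjective A)]
      rw [hKtop, card_top] at hK
      obtain ⟨P⟩ : Nonempty (Sylow p G) := inferInstance
      have hidx : ¬ p ∣ A.index := fun hd => (hp.coprime_iff_not_dvd.1 hK.symm) hd
      have hPA : (P : Subgroup G) ≤ A := by
        intro x hx
        obtain ⟨k, hk⟩ := P.2 ⟨x, hx⟩
        refine (QuotientGroup.eq_one_iff x).1 ?_
        have h1 : orderOf (π x) ∣ p ^ k := orderOf_dvd_of_pow_eq_one (by
          rw [← map_pow, show x ^ p ^ k = 1 from congrArg Subtype.val hk, map_one])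
        have h2 : orderOf (π x) ∣ Nat.card (G ⧸ A) := _root_.orderOf_dvd_natCard _
        exact orderOf_eq_one_iff.1
          (Nat.eq_one_of_dvd_coprimes (hK.symm.pow_left k) h1 h2)
      haveI hPn : (P : Subgroup G).Normal := by
        haveI : ((P.subtype hPA : Sylow p A) : Subgroup A).Normal :=
          haveI := hAc; ⟨fun a ha b => by rwa [mul_comm' b a, mul_inv_cancel_right]⟩
        haveI := Sylow.characteristic_of_normal (P.subtype hPA) ‹_›
        have e : ((P.subtype hPA : Sylow p A) : Subgroup A).map A.subtype = (P : Subgroup G) := by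
          rw [Sylow.coe_subtype, map_subgroupOf_eq_of_le hPA]
        rw [← e]
        infer_instance
      obtain ⟨H, hH⟩ := Subgroup.exists_right_complement'_of_coprime P.card_coprime_index
      have hHi : Nat.card H = (P : Subgroup G).index := hH.symm.index_eq_card.symm
      haveI := h H (by
        rw [hHi]
        exact (hp.coprime_iff_not_dvd.2 P.not_dvd_index).symm)
      haveI : Group.IsSolvable (G ⧸ (P : Subgroup G)) :=
        Group.isSolvable_of_surjective (f := hH.symm.QuotientMulEquiv.symm.toMonoidHom)
          hH.symm.QuotientMulEquiv.symm.surjective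
      haveI := P.2.isNilpotent
      exact hns (Group.isSolvable_of_ker_le_range (P : Subgroup G).subtype (QuotientGroup.mk' (P : Subgroup G))
        (by rw [QuotientGroup.ker_mk', range_subtype]))
    · haveI := hproper K' htop
      obtain ⟨H, hH, -⟩ := CfsgLib.Coprime.hallD_of_solvable (G := ↥K') ({p}ᶜ : Set ℕ)
      obtain ⟨hcop, n, hn⟩ := (CfsgLib.Coprime.piHall_compl_iff hp).1 hH
      let f : ↥K' →* ↥K := π.subgroupComap K
      have hf : Function.Surjective f :=
        π.subgroupComap_surjective_of_surjective K (QuotientGroup.mk'_surjective A)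
      have htop' : H.map f = ⊤ := by
        rw [← index_eq_one]
        exact Nat.eq_one_of_dvd_coprimes (hK.symm.pow_left n) (hn ▸ index_map_dvd H hf)
          (index_dvd_card _)
      haveI := h (H.map K'.subtype) (by rwa [card_map_of_injective K'.subtype_injective])
      haveI : Group.IsNilpotent H :=
        Group.nilpotent_of_mulEquiv (H.equivMapOfInjective _ K'.subtype_injective).symm
      refine Group.nilpotent_of_surjective (f.comp H.subtype) fun σ => ?_
      obtain ⟨x, hx, hxσ⟩ := htop'.ge (mem_top σ)
      exact ⟨⟨x, hx⟩, hxσ⟩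
  exact hns (Group.isSolvable_of_ker_le_range A.subtype π (by rw [QuotientGroup.ker_mk', range_subtype]))

theorem isSolvable {G : Type u} [Group G] [Finite G] {p : ℕ} (hp : p.Prime) (hp3 : 3 < p)
    (h : ∀ H : Subgroup G, (Nat.card H).Coprime p → Group.IsNilpotent H) : Group.IsSolvable G := by
  have hp5 : 5 ≤ p := by
    rcases Nat.lt_or_ge p 5 with h' | h'
    · exact absurd hp (by rw [show p = 4 by omega]; norm_num)
    · exact h'
  suffices key : ∀ (n : ℕ) (X : Type u) [Group X] [Finite X], Nat.card X = n →
      (∀ H : Subgroup X, (Nat.card H).Coprime p → Group.IsNilpotent H) → Group.IsSolvable X from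
    key _ G rfl h
  intro n
  induction n using Nat.strong_induction_on with
  | _ n ih =>
    intro X _ _ hn hX
    by_contra hns
    exact (nmin_of_minimal hp hp5 hX hns fun Y _ _ hY hY' => ih _ (hn ▸ hY) Y rfl hY').false

end CfsgLib.NilPPrime
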