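import Cfsg.Agent.Lib.FgsB.NilpotentPPrime.Basic
import Cfsg.Agent.Lib.Transfer.Alperin
import Cfsg.Agent.Lib.Techniques.SylIn
import Cfsg.Agent.Lib.Involutions.ZStar.Main
import Cfsg.Agent.Lib.FT.OddOrderTheorem

/-!
# An involution in the centre of a Sylow `2`-subgroup is moved by a local subgroup
-/

set_option autoImplicit false
set_option linter.style.haveILetI false

namespace CfsgLib.NilPPrime

open Cfsg Subgroup CfsgLib.Techniques

variable {G : Type*} [Group G]

/-- `Ω₁(Z(H))` for the prime two. -/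
def zOmega (H : Subgroup G) : Subgroup G where
  carrier := {d | d ∈ H ∧ (∀ e ∈ H, e * d = d * e) ∧ d * d = 1}
  one_mem' := ⟨one_mem H, fun e _ => by simp, by simp⟩
  mul_mem' := by
    rintro a b ⟨ha, hac, ha2⟩ ⟨hb, hbc, hb2⟩
    refine ⟨mul_mem ha hb, fun e he => ?_, ?_⟩
    · rw [← mul_assoc, hac e he, mul_assoc, hbc e he, ← mul_assoc]
    · calc a * b * (a * b) = a * (b * a) * b := by group
        _ = a * (a * b) * b := by rw [← hac b hb]
        _ = (a * a) * (b * b) := by group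
        _ = 1 := by rw [ha2, hb2, mul_one]
  inv_mem' := by
    rintro a ⟨ha, hac, ha2⟩
    rw [inv_eq_of_mul_eq_one_left ha2]
    exact ⟨ha, hac, ha2⟩

theorem mem_zOmega {H : Subgroup G} {d : G} :
    d ∈ zOmega H ↔ d ∈ H ∧ (∀ e ∈ H, e * d = d * e) ∧ d * d = 1 := Iff.rfl

theorem zOmega_le (H : Subgroup G) : zOmega H ≤ H := fun _ h => h.1

theorem isElementaryAbelian_zOmega (H : Subgroup G) : IsElementaryAbelian 2 (zOmega H) :=
  CfsgLib.Base.isElementaryAbelian_iff.2
    ⟨fun a ha b hb => hb.2.1 a ha.1, fun a ha => (sq a).trans ha.2.2⟩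

theorem isPGroup_zOmega (H : Subgroup G) : IsPGroup 2 ↥(zOmega H) :=
  CfsgLib.Base.isPGroup_of_isElementaryAbelian (isElementaryAbelian_zOmega H)

theorem conj_mem_zOmega {H : Subgroup G} {g d : G} (hg : g ∈ normalizer (H : Set G))
    (hd : d ∈ zOmega H) : g * d * g⁻¹ ∈ zOmega H := by
  obtain ⟨hdH, hdc, hd2⟩ := hd
  refine ⟨(mem_set_normalizer_iff.1 hg d).1 hdH, fun e he => ?_, ?_⟩
  · have he' : g⁻¹ * e * g ∈ H := (mem_set_normalizer_iff''.1 hg e).1 he
    calc e * (g * d * g⁻¹) = g * ((g⁻¹ * e * g) * d) * g⁻¹ := by group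
      _ = g * (d * (g⁻¹ * e * g)) * g⁻¹ := by rw [hdc _ he']
      _ = _ := by group
  · calc g * d * g⁻¹ * (g * d * g⁻¹) = g * (d * d) * g⁻¹ := by group
      _ = 1 := by rw [hd2]; group

theorem normalizer_le_normalizer_zOmega (H : Subgroup G) :
    normalizer (H : Set G) ≤ normalizer (zOmega H : Set G) :=
  fun g hg => mem_set_normalizer_iff.2 fun d => ⟨conj_mem_zOmega hg, fun hd => by
    simpa [mul_assoc] using conj_mem_zOmega (inv_mem hg) hd⟩

theorem eight_le_of_four_lt {W : Subgroup G} [Finite G] (hW : IsPGroup 2 W) (h : 4 < Nat.card W) :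
    8 ≤ Nat.card W := by
  haveI := Fact.mk Nat.prime_two
  obtain ⟨k, hk⟩ := IsPGroup.iff_card.1 hW
  rw [hk] at h ⊢
  have hk3 : 3 ≤ k := by
    rw [show (4 : ℕ) = 2 ^ 2 from rfl, Nat.pow_lt_pow_iff_right one_lt_two] at h
    omega
  exact le_trans (le_of_eq (by norm_num)) (Nat.pow_le_pow_right two_pos hk3)

variable {p : ℕ} [Finite G]

/-- If a group normalises a `2`-group of order at most four and a Sylow `2`-subgroup centralises
`z` in it, the group centralises `z`. -/
theorem NMin.centralize_of_small (h : NMin G p) {H T W : Subgroup G} (hT : SylIn 2 T H)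
    (hn : H ≤ normalizer (W : Set G)) (hW : IsPGroup 2 W) (h4 : Nat.card W ≤ 4) {z : G}
    (hz : z ∈ W) (hzT : T ≤ centralizer ({z} : Set G)) : H ≤ centralizer ({z} : Set G) := by
  haveI := Fact.mk Nat.prime_two
  let P : Sylow 2 ↥H := (hT.isPGroup.comap_subtype (K := H)).toSylow hT.not_dvd
  have hP : (P : Subgroup ↥H) ≤ (centralizer ({z} : Set G)).subgroupOf H := fun x hx =>
    hzT (mem_subgroupOf.1 hx)
  have hR : Cfsg.pResidual 2 ↥H ≤ (centralizer ({z} : Set G)).subgroupOf H := by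
    refine (closure_le _).2 fun x hx => ?_
    rw [SetLike.mem_coe, mem_subgroupOf, mem_centralizer_singleton_iff]
    have hodd : Odd (orderOf (x : G)) := by
      rw [Subgroup.orderOf_coe]; exact Nat.coprime_two_right.1 hx
    exact (h.centralize_small hW h4 hodd (hn x.2) z hz).symm
  intro x hx
  have : (⟨x, hx⟩ : ↥H) ∈ (centralizer ({z} : Set G)).subgroupOf H :=
    sup_le hP hR (CfsgLib.Transfer.sup_pResidual_eq_top P ▸ mem_top _)
  exact mem_subgroupOf.1 this

theorem NMin.even_card (h : NMin G p) : Even (Nat.card G) := by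
  by_contra hc
  exact h.insoluble (CfsgLib.FT.isSolvable_of_odd (Nat.not_even_iff_odd.1 hc))

theorem NMin.oddCore_eq_bot (h : NMin G p) : oddCore G = ⊥ := by
  haveI := h.simple
  refine (inferInstance : (oddCore G).Normal).eq_bot_or_eq_top.resolve_right fun e => ?_
  exact (Nat.not_even_iff_odd.2 (CfsgLib.Base.oddCore_eq_top_iff.1 e)) h.even_card

theorem NMin.exists_central_involution (h : NMin G p) (S : Sylow 2 G) :
    ∃ z ∈ (S : Subgroup G), orderOf z = 2 ∧ ∀ s ∈ (S : Subgroup G), s * z = z * s := by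
  haveI := Fact.mk Nat.prime_two
  have h2 : 2 ∣ Nat.card (S : Subgroup G) := S.dvd_card_of_dvd_card (even_iff_two_dvd.1 h.even_card)
  haveI : Nontrivial (S : Subgroup G) := Finite.one_lt_card_iff_nontrivial.1
    (lt_of_lt_of_le one_lt_two (Nat.le_of_dvd Nat.card_pos h2))
  haveI := S.2.center_nontrivial
  obtain ⟨k, hk⟩ := IsPGroup.iff_card.1 (S.2.to_subgroup (center (S : Subgroup G)))
  have hd : 2 ∣ Nat.card (center (S : Subgroup G)) := by
    rw [hk]
    refine dvd_pow_self 2 fun h0 => ?_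
    have := Finite.one_lt_card_iff_nontrivial.2 (inferInstance : Nontrivial (center (S : Subgroup G)))
    rw [hk, h0] at this
    exact absurd this (by norm_num)
  obtain ⟨c, hc⟩ := exists_prime_orderOf_dvd_card' 2 hd
  refine ⟨((c : (S : Subgroup G)) : G), (c : (S : Subgroup G)).2, ?_, fun s hs => ?_⟩
  · rw [Subgroup.orderOf_coe, Subgroup.orderOf_coe, hc]
  · exact congrArg Subtype.val (mem_center_iff.1 c.2 ⟨s, hs⟩)

/-- A local subgroup `N(D)` with `|Ω₁Z(D)| ≥ 8` moves the central involution. -/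
theorem NMin.exists_moved (h : NMin G p) (S : Sylow 2 G) {z : G} (hzS : z ∈ (S : Subgroup G))
    (hz2 : orderOf z = 2) (hzc : ∀ s ∈ (S : Subgroup G), s * z = z * s) :
    ∃ D : Subgroup G, D ≤ S ∧ z ∈ zOmega D ∧
      SylIn 2 ((S : Subgroup G) ⊓ normalizer (D : Set G)) (normalizer (D : Set G)) ∧
      8 ≤ Nat.card (zOmega D) ∧ ∃ x ∈ normalizer (D : Set G), x * z * x⁻¹ ≠ z := by
  haveI := Fact.mk Nat.prime_two
  have hz1 : z ≠ 1 := by rintro rfl; simp at hz2
  have hzz : z * z = 1 := by rw [← sq, ← hz2]; exact pow_orderOf_eq_one z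
  -- `z` is not isolated
  obtain ⟨g, hgc, hgne⟩ : ∃ g : G, Commute z (g * z * g⁻¹) ∧ g * z * g⁻¹ ≠ z := by
    by_contra hcon
    push Not at hcon
    have := CfsgLib.Involutions.ZStar.mem_center_of_oddCore_eq_bot ⟨hz2, hcon⟩ h.oddCore_eq_bot
    rw [h.center_eq_bot] at this
    exact hz1 (mem_bot.1 this)
  have hSC : (S : Subgroup G) ≤ centralizer ({z} : Set G) := fun s hs =>
    mem_centralizer_singleton_iff.2 (hzc s hs)
  have hb : IsPGroup 2 (zpowers (g * z * g⁻¹)) := IsPGroup.iff_card.2 ⟨1, by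
    rw [Nat.card_zpowers, pow_one, show g * z * g⁻¹ = MulAut.conj g z from rfl,
      MulEquiv.orderOf_eq, hz2]⟩
  obtain ⟨k, hk, hkS⟩ := (sylIn_of_le S hSC).exists_conj hb
    (zpowers_le.2 (mem_centralizer_singleton_iff.2 hgc.eq.symm))
  have hkS' : k * (g * z * g⁻¹) * k⁻¹ ∈ (S : Subgroup G) := cj_le_iff.1 hkS _ (mem_zpowers _)
  have hkne : k * (g * z * g⁻¹) * k⁻¹ ≠ z := by
    intro e
    apply hgne
    have hkz : k * z = z * k := mem_centralizer_singleton_iff.1 hk
    calc g * z * g⁻¹ = k⁻¹ * (k * (g * z * g⁻¹) * k⁻¹) * k := by group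
      _ = k⁻¹ * (z * k) := by rw [e, mul_assoc]
      _ = z := by rw [← hkz, inv_mul_cancel_left]
  -- a step of the fusion chain moves it
  have hstep : ∀ (A : Set G) (x : G), CfsgLib.Transfer.FusionChain S A x → A = {z} →
      x⁻¹ * z * x ≠ z → ∃ D : Subgroup G, D ≤ S ∧ z ∈ D ∧
        SylIn 2 ((S : Subgroup G) ⊓ normalizer (D : Set G)) (normalizer (D : Set G)) ∧
        ∃ y ∈ normalizer (D : Set G), y * z * y⁻¹ ≠ z := by
    intro A x hc
    induction hc with
    | nil A => intro _ hne; exact absurd (by group) hne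
    | @cons A x Q y hyN hP hQ hA _ ih =>
      intro hAz hne
      by_cases hy : y⁻¹ * z * y = z
      · refine ih (by rw [hAz, Set.image_singleton, hy]) fun e => hne ?_
        calc (y * x)⁻¹ * z * (y * x) = x⁻¹ * (y⁻¹ * z * y) * x := by group
          _ = z := by rw [hy, e]
      · refine ⟨_, inf_le_left, hA (hAz ▸ rfl), ⟨inf_le_right, S.2.to_le inf_le_left, hP⟩, y⁻¹,
          inv_mem hyN, fun e => hy (by simpa using e)⟩
  obtain ⟨D, hDS, hzD, hsyl, x, hx, hxne⟩ := hstep {z} (k * g)⁻¹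
    (CfsgLib.Transfer.fusionChain S (Set.singleton_subset_iff.2 hzS) (fun a ha => by
      rw [Set.mem_singleton_iff] at ha
      rw [ha, inv_inv]
      simpa [mul_assoc] using hkS'))
    rfl (fun e => hkne (by simpa [mul_assoc] using e))
  have hzW : z ∈ zOmega D := ⟨hzD, fun e he => hzc e (hDS he), hzz⟩
  refine ⟨D, hDS, hzW, hsyl, ?_, x, hx, hxne⟩
  refine eight_le_of_four_lt (isPGroup_zOmega D) (lt_of_not_ge fun h4 => hxne ?_)
  have := h.centralize_of_small hsyl (normalizer_le_normalizer_zOmega D) (isPGroup_zOmega D) h4 hzW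
    (inf_le_left.trans hSC) hx
  rw [mem_centralizer_singleton_iff.1 this, mul_inv_cancel_right]

end CfsgLib.NilPPrime
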