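import Cfsg.Agent.Lib.FgsB.NilpotentPPrime.Moved

/-!
# Solvable subgroups over `O_{2',2}`
-/

set_option autoImplicit false
set_option linter.style.haveILetI false

namespace CfsgLib.NilPPrime

open Cfsg Subgroup CfsgLib.Techniques

variable {G : Type*} [Group G]

/-- `O(K)` as a subgroup of the ambient group. -/
def oC (K : Subgroup G) : Subgroup G := (pPrimeCore 2 ↥K).map K.subtype

/-- `O_{2',2}(K)` as a subgroup of the ambient group. -/
def fK (K : Subgroup G) : Subgroup G := (pPrimePCore 2 ↥K).map K.subtype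

theorem oC_le (K : Subgroup G) : oC K ≤ K := map_subtype_le _

theorem fK_le (K : Subgroup G) : fK K ≤ K := map_subtype_le _

theorem le_normalizer_oC (K : Subgroup G) : K ≤ normalizer (oC K : Set G) :=
  CfsgLib.Base.le_normalizer_map_pPrimeCore K

theorem le_normalizer_fK (K : Subgroup G) : K ≤ normalizer (fK K : Set G) := by
  intro k hk
  haveI := CfsgLib.PLocal.pPrimePCore_normal 2 ↥K
  refine mem_set_normalizer_iff.2 fun x => ⟨?_, ?_⟩
  · rintro ⟨y, hy, rfl⟩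
    exact ⟨⟨k, hk⟩ * y * ⟨k, hk⟩⁻¹, Normal.conj_mem inferInstance y hy ⟨k, hk⟩, rfl⟩
  · rintro ⟨y, hy, hxy⟩
    refine ⟨⟨k, hk⟩⁻¹ * y * ⟨k, hk⟩, ?_, ?_⟩
    · simpa using Normal.conj_mem inferInstance y hy (⟨k, hk⟩ : ↥K)⁻¹
    · have hxy' : (y : G) = k * x * k⁻¹ := hxy
      change k⁻¹ * (y : G) * k = x
      rw [hxy']
      group

variable [Finite G]

theorem odd_card_oC (K : Subgroup G) : Odd (Nat.card (oC K)) := by
  rw [oC, card_map_of_injective K.subtype_injective]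
  exact CfsgLib.Base.odd_card_oddCore _

variable {K T : Subgroup G}

theorem sylIn_fK (hT : SylIn 2 T K) : SylIn 2 (T ⊓ fK K) (fK K) := by
  haveI := Fact.mk Nat.prime_two
  exact hT.inf_normal (fK_le K) (le_normalizer_fK K)

/-- In a solvable group `C(R) ≤ O_{2',2}` for a Sylow subgroup `R` of `O_{2',2}`. -/
theorem centralizer_le_fK (hK : Group.IsSolvable ↥K) (hT : SylIn 2 T K) :
    K ⊓ centralizer ((T ⊓ fK K : Subgroup G) : Set G) ≤ fK K := by
  haveI := Fact.mk Nat.prime_two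
  haveI := hK
  set R : Subgroup G := T ⊓ fK K with hR
  have hRs := sylIn_fK hT
  have hRF : R.subgroupOf K ≤ pPrimePCore 2 ↥K := by
    intro x hx
    obtain ⟨y, hy, hyx⟩ := (mem_subgroupOf.1 hx).2
    rwa [← K.subtype_injective hyx]
  let P : Sylow 2 ↥(pPrimePCore 2 ↥K) :=
    (((hRs.isPGroup.comap_subtype (K := K))).comap_subtype (K := pPrimePCore 2 ↥K)).toSylow (by
      show ¬ 2 ∣ (R.subgroupOf K).relIndex (pPrimePCore 2 ↥K)
      rw [subgroupOf, relIndex_comap]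
      exact hRs.not_dvd)
  have hP : ((P : Subgroup ↥(pPrimePCore 2 ↥K)).map (pPrimePCore 2 ↥K).subtype) = R.subgroupOf K := by
    show ((R.subgroupOf K).subgroupOf (pPrimePCore 2 ↥K)).map (pPrimePCore 2 ↥K).subtype = _
    exact map_subgroupOf_eq_of_le hRF
  intro x ⟨hxK, hxC⟩
  have hc := (CfsgLib.PLocal.isPConstrained_of_isPSolvable (p := 2) (G := ↥K)
    CfsgLib.PLocal.isPSolvable_of_isSolvable) P
  rw [hP] at hc
  refine ⟨⟨x, hxK⟩, hc (mem_centralizer_iff.2 fun y hy => Subtype.ext ?_), rfl⟩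
  exact mem_centralizer_iff.1 hxC _ (mem_subgroupOf.1 hy)

theorem fK_le_sup (hT : SylIn 2 T K) : fK K ≤ oC K ⊔ (T ⊓ fK K) := by
  haveI := Fact.mk Nat.prime_two
  rw [← relIndex_eq_one]
  have h1 : ¬ 2 ∣ (oC K ⊔ (T ⊓ fK K)).relIndex (fK K) := fun hd =>
    (sylIn_fK hT).not_dvd (hd.trans (relIndex_dvd_of_le_left _ le_sup_right))
  have h2 : (oC K).relIndex (fK K) =
      Nat.card ((pPrimePCore 2 ↥K).map (QuotientGroup.mk' (pPrimeCore 2 ↥K))) := by
    rw [← relIndex_ker, QuotientGroup.ker_mk', oC, fK,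
      relIndex_map_map_of_injective _ _ K.subtype_injective]
  obtain ⟨n, hn⟩ := IsPGroup.iff_card.1 ((CfsgLib.Base.isPGroup_pCore 2 _).to_le
    (CfsgLib.PLocal.map_pPrimePCore 2 ↥K).le)
  have h3 : (oC K ⊔ (T ⊓ fK K)).relIndex (fK K) ∣ 2 ^ n := by
    rw [← hn, ← h2]
    exact relIndex_dvd_of_le_left _ le_sup_left
  obtain ⟨i, -, hi⟩ := (Nat.dvd_prime_pow Nat.prime_two).1 h3
  rcases i with _ | i
  · simpa using hi
  · exact absurd (hi ▸ dvd_pow_self 2 i.succ_ne_zero) h1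

theorem exists_mul_normalizer (hT : SylIn 2 T K) {k : G} (hk : k ∈ K) :
    ∃ o ∈ oC K, ∃ n ∈ K ⊓ normalizer ((T ⊓ fK K : Subgroup G) : Set G), k = o * n := by
  haveI := Fact.mk Nat.prime_two
  obtain ⟨a, ha, c, hc, rfl⟩ := hT.frattini (fK_le K) (le_normalizer_fK K) hk
  have hcs := fK_le_sup hT hc
  have hle : T ⊓ fK K ≤ normalizer (oC K : Set G) :=
    (inf_le_right.trans (fK_le K)).trans (le_normalizer_oC K)
  rw [← SetLike.mem_coe, coe_mul_of_right_le_normalizer_left _ _ hle] at hcs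
  obtain ⟨o, ho, r, hr, rfl⟩ := hcs
  exact ⟨o, ho, r * a, mul_mem ⟨fK_le K hr.2, le_normalizer hr⟩ ha, mul_assoc o r a⟩

/-- A subgroup of `N_K(R)`, invariant there, whose squares centralise `R`, meets `T` inside `R`. -/
theorem inf_le_of_sq_centralizes (hK : Group.IsSolvable ↥K) (hT : SylIn 2 T K) {N : Subgroup G}
    (hN : N ≤ K ⊓ normalizer ((T ⊓ fK K : Subgroup G) : Set G))
    (hNn : K ⊓ normalizer ((T ⊓ fK K : Subgroup G) : Set G) ≤ normalizer (N : Set G))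
    (hsq : ∀ n ∈ N, n * n ∈ centralizer ((T ⊓ fK K : Subgroup G) : Set G)) :
    N ⊓ T ≤ T ⊓ fK K := by
  haveI := Fact.mk Nat.prime_two
  let π := QuotientGroup.mk' (pPrimeCore 2 ↥K)
  haveI hnorm : ((N.subgroupOf K).map π).Normal := by
    constructor
    rintro _ ⟨x, hx, rfl⟩ q
    obtain ⟨k, rfl⟩ := QuotientGroup.mk'_surjective _ q
    obtain ⟨o, ho, n, hn, hk⟩ := exists_mul_normalizer hT k.2
    obtain ⟨o', ho', rfl⟩ := ho
    have hk' : k = o' * ⟨n, hn.1⟩ := Subtype.ext hk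
    have ho1 : π o' = 1 := (QuotientGroup.eq_one_iff _).2 ho'
    refine ⟨⟨n, hn.1⟩ * x * (⟨n, hn.1⟩ : ↥K)⁻¹, ?_, ?_⟩
    · exact mem_subgroupOf.2 ((mem_set_normalizer_iff.1 (hNn hn) _).1 (mem_subgroupOf.1 hx))
    · rw [hk', map_mul π o', ho1, one_mul, map_mul, map_mul, map_inv]
  have hp : IsPGroup 2 ↥((N.subgroupOf K).map π) := by
    rintro ⟨_, x, hx, rfl⟩
    have hxN : (x : G) ∈ N := mem_subgroupOf.1 hx
    obtain ⟨y, hy, hyx⟩ := centralizer_le_fK hK hT
      (show ((x * x : ↥K) : G) ∈ _ from ⟨(x * x).2, hsq _ hxN⟩)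
    have hy' : π (x * x) ∈ pCore 2 (↥K ⧸ pPrimeCore 2 ↥K) := by
      rw [← (Subtype.ext hyx : y = x * x)]; exact hy
    obtain ⟨k, hk⟩ := CfsgLib.Base.isPGroup_pCore 2 _ ⟨_, hy'⟩
    refine ⟨k + 1, Subtype.ext ?_⟩
    have hk' := congrArg Subtype.val hk
    simp only [coe_pow, coe_one] at hk' ⊢
    rw [pow_succ', pow_mul, sq, ← map_mul]
    exact hk'
  rintro x ⟨hxN, hxT⟩
  refine ⟨hxT, ⟨x, hT.le hxT⟩, ?_, rfl⟩
  exact CfsgLib.Base.le_pCore hp (mem_map_of_mem π (mem_subgroupOf.2 hxN))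

variable {p : ℕ}

/-- A solvable subgroup over `S` that moves the central involution inside `S` provides a normal
elementary subgroup of order at least eight. -/
theorem NMin.exists_eight (h : NMin G p) (S : Sylow 2 G) {z : G} (hzS : z ∈ (S : Subgroup G))
    (hz2 : orderOf z = 2) (hzc : ∀ s ∈ (S : Subgroup G), s * z = z * s)
    (hK : Group.IsSolvable ↥K) (hSK : (S : Subgroup G) ≤ K) {k : G} (hk : k ∈ K)
    (hkS : k * z * k⁻¹ ∈ (S : Subgroup G)) (hkne : k * z * k⁻¹ ≠ z) :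
    (S : Subgroup G) ≤ normalizer (((S : Subgroup G) ⊓ fK K : Subgroup G) : Set G) ∧
      z ∈ zOmega ((S : Subgroup G) ⊓ fK K) ∧
      8 ≤ Nat.card (zOmega ((S : Subgroup G) ⊓ fK K)) := by
  haveI := Fact.mk Nat.prime_two
  set R : Subgroup G := (S : Subgroup G) ⊓ fK K with hR
  have hT := sylIn_of_le S hSK
  have hSR : (S : Subgroup G) ≤ normalizer (R : Set G) := by
    intro s hs
    refine mem_set_normalizer_iff.2 fun x => ?_
    exact and_congr (mem_set_normalizer_iff.1 (le_normalizer hs) x)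
      (mem_set_normalizer_iff.1 (le_normalizer_fK K (hSK hs)) x)
  have hzz : z * z = 1 := by rw [← sq, ← hz2]; exact pow_orderOf_eq_one z
  have hzR : z ∈ R := ⟨hzS, centralizer_le_fK hK hT
    ⟨hSK hzS, mem_centralizer_iff.2 fun r hr => hzc r hr.1⟩⟩
  have hzW : z ∈ zOmega R := ⟨hzR, fun e he => hzc e he.1, hzz⟩
  refine ⟨hSR, hzW, eight_le_of_four_lt (isPGroup_zOmega R) (lt_of_not_ge fun h4 => hkne ?_)⟩
  obtain ⟨o, ho, n, hn, rfl⟩ := exists_mul_normalizer hT hk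
  have hnz : n * z = z * n := mem_centralizer_singleton_iff.1
    (h.centralize_of_small (sylIn_of_le S (le_inf hSK hSR))
      (inf_le_right.trans (normalizer_le_normalizer_zOmega R)) (isPGroup_zOmega R) h4 hzW
      (fun s hs => mem_centralizer_singleton_iff.2 (hzc s hs)) hn)
  have he : o * n * z * (o * n)⁻¹ = o * z * o⁻¹ := by
    calc o * n * z * (o * n)⁻¹ = o * (n * z * n⁻¹) * o⁻¹ := by group
      _ = _ := by rw [hnz, mul_inv_cancel_right]
  rw [he] at hkS ⊢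
  have hd : o * z * o⁻¹ * z⁻¹ ∈ oC K ⊓ (S : Subgroup G) := by
    refine ⟨?_, (S : Subgroup G).mul_mem hkS ((S : Subgroup G).inv_mem hzS)⟩
    have hn' := (mem_set_normalizer_iff.1 (le_normalizer_oC K (hSK hzS)) o⁻¹).1 ((oC K).inv_mem ho)
    have := (oC K).mul_mem ho hn'
    simpa [mul_assoc] using this
  have hbot : oC K ⊓ (S : Subgroup G) = ⊥ := by
    obtain ⟨m, hm⟩ := IsPGroup.iff_card.1 S.2
    exact (Subgroup.disjoint_of_coprime_natCard (hm ▸
      (Nat.coprime_two_right.2 (odd_card_oC K)).pow_right m)).eq_bot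
  exact mul_inv_eq_one.1 (mem_bot.1 (hbot ▸ hd))

end CfsgLib.NilPPrime
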